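import Cfsg.Agent.Fus.Syl
import Mathlib.Data.Set.Card
import Mathlib.Algebra.BigOperators.Fin

/-! S5242, definitions: equivariant cochains on tuples of points of a finite `G`-set. -/

set_option autoImplicit false

namespace CF.Ex

open Subgroup CF.Fus Set

section defs
variable {G X : Type*} [Group G] [MulAction G X]

/-- pointwise stabiliser of `s` in `Γ` -/
def St (Γ : Subgroup G) (s : Set X) : Subgroup G where
  carrier := {g | g ∈ Γ ∧ ∀ x ∈ s, g • x = x}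
  mul_mem' := fun ha hb => ⟨Γ.mul_mem ha.1 hb.1, fun x hx => by rw [mul_smul, hb.2 x hx, ha.2 x hx]⟩
  one_mem' := ⟨Γ.one_mem, fun x _ => one_smul _ x⟩
  inv_mem' := fun ha => ⟨Γ.inv_mem ha.1, fun x hx => by rw [inv_smul_eq_iff, ha.2 x hx]⟩

/-- the points of `X0` fixed by `P` -/
def Fx (X0 : Set X) (P : Subgroup G) : Set X := {x | x ∈ X0 ∧ ∀ g ∈ P, g • x = x}

/-- `X0` is `Γ`-invariant, of size prime to `p`, with `p`-groups as point stabilisers -/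
structure Good (p : ℕ) (Γ : Subgroup G) (X0 : Set X) : Prop where
  inv : ∀ g ∈ Γ, ∀ x ∈ X0, g • x ∈ X0
  pg : ∀ x ∈ X0, IsPGroup p (St Γ {x})
  cop : ¬ p ∣ X0.ncard

/-- `Γ`-invariant family of subgroups -/
def Inv (Γ : Subgroup G) (R : Subgroup G → Prop) : Prop := ∀ g ∈ Γ, ∀ P, R P → R (img (cj g) P)

/-- invariant convex family -/
structure Fam (Γ : Subgroup G) (R : Subgroup G → Prop) : Prop where
  inv : Inv Γ R
  cvx : ∀ P Q T, P ≤ Q → Q ≤ T → R P → R T → R Q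

/-- invariant family closed under overgroups -/
structure UpF (Γ : Subgroup G) (U : Subgroup G → Prop) : Prop where
  inv : Inv Γ U
  up : ∀ P Q, P ≤ Q → U P → U Q

/-- the tuple `σ` lies in `X0` and its stabiliser in `R` -/
def In (Γ : Subgroup G) (X0 : Set X) (R : Subgroup G → Prop) {n : ℕ} (σ : Fin n → X) : Prop :=
  (∀ i, σ i ∈ X0) ∧ R (St Γ (range σ))

/-- abelian subgroup -/
def ab (A : Subgroup G) : Prop := ∀ a ∈ A, ∀ b ∈ A, a * b = b * a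

/-- `p`-element -/
def PE (p : ℕ) (g : G) : Prop := ∃ k, g ^ p ^ k = 1

/-- `p`-centric -/
def Cen (p : ℕ) (P : Subgroup G) : Prop := ∀ g, PE p g → (∀ u ∈ P, g * u = u * g) → g ∈ P

/-- not `p`-radical, in the form used -/
def NegG (p : ℕ) (P : Subgroup G) : Prop :=
  ∃ W : Subgroup G, W ≤ normalizer (P : Set G) ∧ normalizer (P : Set G) ≤ normalizer (W : Set G) ∧
    (∀ w ∈ W, ∃ k, ∀ u ∈ P, w ^ p ^ k * u = u * w ^ p ^ k) ∧ ∃ w ∈ W, w ∉ P ∧ PE p w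

/-- coboundary of a group valued cochain (ordered product) -/
def dG {H : Type*} [Group H] {n : ℕ} (t : (Fin n → X) → H) (σ : Fin (n + 1) → X) : H :=
  (List.ofFn fun i : Fin (n + 1) => t (σ ∘ i.succAbove) ^ (-1 : ℤ) ^ (i : ℕ)).prod

/-- cochains with `t σ ∈ Z(G_σ)` on the tuples with stabiliser in `C` -/
structure ZC (C : Subgroup G → Prop) {n : ℕ} (t : (Fin n → X) → G) : Prop where
  eqv : ∀ g σ, C (St ⊤ (range σ)) → t (g • σ) = g * t σ * g⁻¹
  mem : ∀ σ, C (St ⊤ (range σ)) → t σ ∈ St ⊤ (range σ)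

/-- `L x y P l`: the map `u ↦ u * l u` from `P ≤ G_x` to `P ≤ G_y` is a morphism -/
structure Gerbe (p : ℕ) (Z : Subgroup G) (L : X → X → Subgroup G → (G → G) → Prop) : Prop where
  le : ∀ {x y P l}, L x y P l → Z ≤ P ∧ P ≤ St ⊤ {x, y}
  mem : ∀ {x y P l}, L x y P l → ∀ u ∈ P, l u ∈ Z
  hom : ∀ {x y P l}, L x y P l → ∀ u ∈ P, ∀ v ∈ P, l (u * v) = l u * l v
  zt : ∀ {x y P l}, L x y P l → ∀ z ∈ Z, l z = 1
  ex : ∀ x y P, Z ≤ P → P ≤ St ⊤ {x, y} → ∃ l, L x y P l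
  res : ∀ {x y P Q l l'}, L x y P l → Z ≤ Q → Q ≤ P → (∀ u ∈ Q, l' u = l u) → L x y Q l'
  eqv : ∀ {x y P l} (g : G), L x y P l → L (g • x) (g • y) (img (cj g) P) fun u => l (g⁻¹ * u * g)
  mul : ∀ {x y w P l l'}, L x y P l → L y w P l' → L x w P fun u => l u * l' u
  inv : ∀ {x y P l}, L x y P l → L y x P fun u => (l u)⁻¹
  inn : ∀ {x P s}, Z ≤ P → P ≤ St ⊤ {x} → s • x = x → (∀ u ∈ P, u⁻¹ * s⁻¹ * u * s ∈ Z) →
    L x x P fun u => u⁻¹ * s⁻¹ * u * s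
  syl : ∀ {x P l}, L x x P l → SylIn p (NS (St ⊤ {x}) P) (NS ⊤ P) →
    ∃ s, s • x = x ∧ ∀ u ∈ P, u * l u = s⁻¹ * u * s

/-- an equivariant choice of morphisms -/
structure Lam (L : X → X → Subgroup G → (G → G) → Prop) (l : X → X → G → G) : Prop where
  mor : ∀ x y, L x y (St ⊤ {x, y}) (l x y)
  eqv : ∀ (g : G) x y u, u • x = x → u • y = y → l (g • x) (g • y) (g * u * g⁻¹) = l x y u

/-- the cocycle identity at the triple `x y w` -/
def Coc (l : X → X → G → G) (x y w : X) : Prop :=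
  ∀ u : G, u • x = x → u • y = y → u • w = w → l x y u * l y w u = l x w u

/-- lifts of the conjugation maps `u ↦ g⁻¹ u g` along `t : S → T` -/
structure Lift {Ω : Type*} [Group Ω] (S A : Subgroup Ω) (t : Ω → G) (T : Subgroup G) (Φ : G → Ω → Ω) : Prop where
  mem : ∀ g, ∀ u ∈ S, g⁻¹ * t u * g ∈ T → Φ g u ∈ S ∧ t (Φ g u) = g⁻¹ * t u * g
  mul : ∀ g, ∀ u ∈ S, ∀ v ∈ S, g⁻¹ * t u * g ∈ T → g⁻¹ * t v * g ∈ T → Φ g (u * v) = Φ g u * Φ g v
  fix : ∀ g, ∀ a ∈ A, Φ g a = a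

/-- the lifts are strictly functorial -/
structure Strict {Ω : Type*} [Group Ω] (S : Subgroup Ω) (t : Ω → G) (T : Subgroup G) (Φ : G → Ω → Ω) : Prop where
  inn : ∀ s ∈ S, ∀ u ∈ S, Φ (t s) u = s⁻¹ * u * s
  coc : ∀ g h, ∀ u ∈ S, g⁻¹ * t u * g ∈ T → (g * h)⁻¹ * t u * (g * h) ∈ T → Φ (g * h) u = Φ h (Φ g u)

/-- `D` is killed by a power of `p` -/
def Tor (p : ℕ) (D : Type*) [AddCommGroup D] : Prop := ∃ N, ∀ v : D, p ^ N • v = 0

/-- coboundary -/
def dd {D : Type*} [AddCommGroup D] {n : ℕ} (t : (Fin n → X) → D) (σ : Fin (n + 1) → X) : D :=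
  ∑ i : Fin (n + 1), (-1 : ℤ) ^ (i : ℕ) • t (σ ∘ i.succAbove)

variable (D : Type*) [AddCommGroup D] [DistribMulAction G D]

/-- `C_D(P)` -/
def fx (P : Subgroup G) : AddSubgroup D where
  carrier := {v | ∀ g ∈ P, g • v = v}
  add_mem' := fun ha hb g hg => by rw [smul_add, ha g hg, hb g hg]
  zero_mem' := fun g _ => smul_zero g
  neg_mem' := fun ha g hg => by rw [smul_neg, ha g hg]

variable {D} in
/-- equivariant cochain supported on the tuples in `X0` with stabiliser in `R` -/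
structure Coch (Γ : Subgroup G) (X0 : Set X) (R : Subgroup G → Prop) {n : ℕ} (t : (Fin n → X) → D) : Prop where
  eqv : ∀ g ∈ Γ, ∀ σ, t (g • σ) = g • t σ
  sup : ∀ σ, ¬ In Γ X0 R σ → t σ = 0

/-- `H^m(R; D) = 0` (augmented: for `m = 0` and `R Γ` it says `H^0 = C_D(Γ)`) -/
def Van (Γ : Subgroup G) (X0 : Set X) (R : Subgroup G → Prop) (m : ℕ) : Prop :=
  ∀ t : (Fin (m + 1) → X) → D, Coch Γ X0 R t → (∀ σ, In Γ X0 R σ → dd t σ = 0) →
    ∃ u : (Fin m → X) → D, Coch Γ X0 R u ∧ ∀ σ, In Γ X0 R σ → t σ = dd u σ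

/-- negligible subgroup -/
def Neg (p : ℕ) (Γ P : Subgroup G) : Prop :=
  ∃ W : Subgroup G, W ≤ NS Γ P ∧ NS Γ P ≤ normalizer (W : Set G) ∧
    (∀ w ∈ W, ∃ k, ∀ v ∈ fx D P, w ^ p ^ k • v = v) ∧ ∃ w ∈ W, w ∉ P ∧ PE p w

/-- norms from maximal subgroups of `A` vanish on `Ω₁ C_D(Y)` -/
def NV (p : ℕ) (Y A : Subgroup G) : Prop :=
  ∀ B ≤ A, B.relIndex A = p → ∀ a ∈ A, a ∉ B → ∀ v ∈ fx D Y, v ∈ fx D B → p • v = 0 →
    ∑ i ∈ Finset.range p, a ^ i • v = 0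

variable {D} in
/-- the measure `|A| |C_{D0}(A)|` -/
noncomputable def mu (D0 : AddSubgroup D) (A : Subgroup G) : ℕ :=
  Nat.card A * Nat.card (D0 ⊓ fx D A : AddSubgroup D)

variable {D} in
/-- best offender on `D0` (it may act trivially) -/
structure Best (p : ℕ) (D0 : AddSubgroup D) (A : Subgroup G) : Prop where
  pg : IsPGroup p A
  ab : ∀ a ∈ A, ∀ b ∈ A, ∀ v ∈ D0, a • b • v = b • a • v
  mx : ∀ B ≤ A, mu D0 B ≤ mu D0 A

variable {D} in
/-- `J(P, D0)` -/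
def JD (p : ℕ) (D0 : AddSubgroup D) (P : Subgroup G) : Subgroup G := sSup {A | A ≤ P ∧ Best p D0 A}

/-- the family `U` is closed under `J(-, C_D(Y))`, `Y` the kernel of `Γ` on `X0` -/
def JC (p : ℕ) (Γ : Subgroup G) (X0 : Set X) (U : Subgroup G → Prop) : Prop :=
  ∀ P : Subgroup G, IsPGroup p P → P ≤ Γ → St Γ X0 ≤ P → U P → U (JD p (fx D (St Γ X0)) P)

/-- `P` contains a best offender on `C_D(Y)` outside `Y` -/
def Q0 (p : ℕ) (Y P : Subgroup G) : Prop := ∃ A ≤ P, Best p (fx D Y) A ∧ ¬ A ≤ Y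

variable (G X) in
/-- Oliver's Proposition 3.3 in degree `m` -/
def TT (p m : ℕ) : Prop :=
  ∀ (Γ : Subgroup G) (X0 : Set X) (U : Subgroup G → Prop), Good p Γ X0 → UpF Γ U → JC D p Γ X0 U →
    Van D Γ X0 (fun P => ¬ U P) m

variable (G X) in
/-- the base case -/
def BB (p m : ℕ) : Prop :=
  ∀ (Γ : Subgroup G) (X0 : Set X), Good p Γ X0 → Van D Γ X0 (fun P => ¬ Q0 D p (St Γ X0) P) m

/-- nontrivial offender (`p = 2`, faithful action) -/
structure Off (A : Subgroup G) : Prop where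
  ne : A ≠ ⊥
  pg : IsPGroup 2 A
  ab : ab A
  le : Nat.card D ≤ mu (⊤ : AddSubgroup D) A

/-- good quadratic offender -/
structure Gd (A : Subgroup G) : Prop where
  off : Off D A
  quad : ∀ a ∈ A, ∀ b ∈ A, ∀ v : D, b • (a • v - v) = a • v - v
  max : ∀ B ≤ A, B.relIndex A = 2 → fx D B ≤ fx D A

/-- no over-offender in `P` -/
def NO (P : Subgroup G) : Prop := ∀ A ≤ P, ab A → mu (⊤ : AddSubgroup D) A ≤ Nat.card D

/-- transvection -/
def Tv (a : G) : Prop := ∃ z : D, z ≠ 0 ∧ (∃ v : D, a • v = v + z) ∧ ∀ v : D, a • v = v ∨ a • v = v + z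

open Classical in
/-- the centre of a transvection -/
noncomputable def zz (a : G) : D := if h : Tv D a then h.choose else 0

/-- the subgroup generated by the transvections in `P` -/
def JV (P : Subgroup G) : Subgroup G := closure {a | a ∈ P ∧ Tv D a}

end defs

end CF.Ex
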