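import Cfsg.Agent.Ex.A
import Mathlib.Data.Fin.Parity

/-! S5242: basic API of equivariant cochains, long exact sequences. -/

set_option autoImplicit false

namespace CF.Ex

open Subgroup CF.Fus Set

section
variable {G X D : Type*} [Group G] [MulAction G X] [AddCommGroup D] [DistribMulAction G D] {p : ℕ}
  {Γ P Q Y : Subgroup G} {X0 : Set X} {R R' U : Subgroup G → Prop} {m n : ℕ}

theorem mem_St {s : Set X} {g : G} : g ∈ St Γ s ↔ g ∈ Γ ∧ ∀ x ∈ s, g • x = x := Iff.rfl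
theorem mem_St_range {σ : Fin n → X} {g : G} : g ∈ St Γ (range σ) ↔ g ∈ Γ ∧ ∀ i, g • σ i = σ i := by
  simp only [mem_St, forall_mem_range]
theorem mem_St_pair {x y : X} {g : G} : g ∈ St Γ {x, y} ↔ g ∈ Γ ∧ g • x = x ∧ g • y = y := by
  simp only [mem_St, mem_insert_iff, mem_singleton_iff, forall_eq_or_imp, forall_eq]
theorem mem_St_three {x y w : X} {g : G} : g ∈ St Γ {x, y, w} ↔ g ∈ Γ ∧ g • x = x ∧ g • y = y ∧ g • w = w := by
  simp only [mem_St, mem_insert_iff, mem_singleton_iff, forall_eq_or_imp, forall_eq]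
theorem mem_St_one {x : X} {g : G} : g ∈ St Γ {x} ↔ g ∈ Γ ∧ g • x = x := by
  simp only [mem_St, mem_singleton_iff, forall_eq]
theorem St_le {s : Set X} : St Γ s ≤ Γ := fun _ h => h.1
theorem St_anti {s s' : Set X} (h : s ⊆ s') : St Γ s' ≤ St Γ s := fun _ hg => ⟨hg.1, fun x hx => hg.2 x (h hx)⟩
theorem St_face (σ : Fin (n + 1) → X) (i : Fin (n + 1)) : St Γ (range σ) ≤ St Γ (range (σ ∘ i.succAbove)) :=
  St_anti (range_comp_subset_range _ _)
theorem St_img {g : G} (hg : g ∈ Γ) (s : Set X) : St Γ ((g • ·) '' s) = img (cj g) (St Γ s) := by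
  ext h
  rw [mem_img_cj, mem_St, mem_St, forall_mem_image]
  refine and_congr ⟨fun q => Γ.mul_mem (Γ.mul_mem (Γ.inv_mem hg) q) hg, fun q => ?_⟩ (forall₂_congr fun x _ => ?_)
  · have := Γ.mul_mem (Γ.mul_mem hg q) (Γ.inv_mem hg)
    simpa [mul_assoc] using this
  · rw [mul_smul, mul_smul, inv_smul_eq_iff]
theorem St_smul {g : G} (hg : g ∈ Γ) (σ : Fin n → X) : St Γ (range (g • σ)) = img (cj g) (St Γ (range σ)) := by
  rw [← St_img hg, ← range_comp]; rfl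
theorem St_smul_one {g : G} (hg : g ∈ Γ) (x : X) : St Γ {g • x} = img (cj g) (St Γ {x}) := by
  rw [← St_img hg, image_singleton]
theorem St_smul_pair {g : G} (hg : g ∈ Γ) (x y : X) : St Γ {g • x, g • y} = img (cj g) (St Γ {x, y}) := by
  rw [← St_img hg, image_pair]
theorem St_empty (σ : Fin 0 → X) : St Γ (range σ) = Γ :=
  le_antisymm St_le fun _ h => mem_St_range.2 ⟨h, fun i => i.elim0⟩
theorem range_one (x : X) : range ![x] = {x} := by simp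
theorem range_two (x y : X) : range ![x, y] = {x, y} := by ext; simp [or_comm]
theorem range_three (x y w : X) : range ![x, y, w] = {x, y, w} := by ext; simp; tauto
theorem mem_Fx {x : X} : x ∈ Fx X0 P ↔ x ∈ X0 ∧ ∀ g ∈ P, g • x = x := Iff.rfl
theorem mem_fx {v : D} : v ∈ fx D P ↔ ∀ g ∈ P, g • v = v := Iff.rfl
theorem fx_anti (h : P ≤ Q) : fx D Q ≤ fx D P := fun _ hv g hg => hv g (h hg)
theorem smul_mem_fx {g : G} {v : D} (h : v ∈ fx D P) : g • v ∈ fx D (img (cj g) P) := fun k hk => by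
  have := h _ (mem_img_cj.1 hk)
  rwa [mul_smul, mul_smul, inv_smul_eq_iff] at this
theorem smul_mem_fx_norm {g : G} {v : D} (hg : g ∈ normalizer (P : Set G)) (h : v ∈ fx D P) : g • v ∈ fx D P :=
  img_cj_eq_self.2 hg ▸ smul_mem_fx h
theorem img_cj_inv_cj (g : G) (P : Subgroup G) : img (cj g⁻¹) (img (cj g) P) = P := by
  rw [img_cj_cj, inv_mul_cancel, img_cj_one]
theorem img_cj_le_iff {g : G} : img (cj g) P ≤ img (cj g) Q ↔ P ≤ Q :=
  ⟨fun h => by simpa only [img_cj_inv_cj] using img_mono (f := cj g⁻¹) h, img_mono⟩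
theorem Inv.iff (h : Inv Γ R) {g : G} (hg : g ∈ Γ) : R (img (cj g) P) ↔ R P :=
  ⟨fun q => img_cj_inv_cj g P ▸ h _ (Γ.inv_mem hg) _ q, h g hg P⟩
theorem Inv.not (h : Inv Γ R) : Inv Γ fun P => ¬ R P := fun _ hg _ q r => q ((h.iff hg).1 r)
theorem Inv.mono {Γ' : Subgroup G} (h : Inv Γ R) (h' : Γ' ≤ Γ) : Inv Γ' R := fun g hg => h g (h' hg)
theorem Inv.and (h : Inv Γ R) (h' : Inv Γ R') : Inv Γ fun P => R P ∧ R' P := fun g hg P q => ⟨h g hg P q.1, h' g hg P q.2⟩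
theorem UpF.fam (h : UpF Γ U) : Fam Γ U := ⟨h.inv, fun _ _ _ a _ c _ => h.up _ _ a c⟩
theorem UpF.fam_not (h : UpF Γ U) : Fam Γ fun P => ¬ U P := ⟨h.inv.not, fun _ _ _ _ b _ d q => d (h.up _ _ b q)⟩
theorem Fam.and (h : Fam Γ R) (h' : Fam Γ R') : Fam Γ fun P => R P ∧ R' P :=
  ⟨h.inv.and h'.inv, fun _ _ _ a b c d => ⟨h.cvx _ _ _ a b c.1 d.1, h'.cvx _ _ _ a b c.2 d.2⟩⟩
theorem fam_true : Fam Γ fun _ => True := ⟨fun _ _ _ _ => trivial, fun _ _ _ _ _ _ _ => trivial⟩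
theorem In.smul (hG : Good p Γ X0) (hR : Inv Γ R) {g : G} (hg : g ∈ Γ) {σ : Fin n → X} : In Γ X0 R (g • σ) ↔ In Γ X0 R σ := by
  refine and_congr (forall_congr' fun i => ⟨fun h => ?_, hG.inv g hg _⟩) (by rw [St_smul hg, hR.iff hg])
  simpa using hG.inv _ (Γ.inv_mem hg) _ h
theorem Good.norm (hG : Good p Γ X0) : Γ ≤ normalizer (St Γ X0 : Set G) := fun g hg => by
  have key : ∀ g ∈ Γ, ∀ x ∈ St Γ X0, g * x * g⁻¹ ∈ St Γ X0 := fun g hg x hx =>
    ⟨Γ.mul_mem (Γ.mul_mem hg hx.1) (Γ.inv_mem hg), fun y hy => by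
      rw [mul_smul, mul_smul, hx.2 _ (hG.inv _ (Γ.inv_mem hg) _ hy), smul_inv_smul]⟩
  exact mem_normalizer_of (key g hg) fun x hx => by simpa using key _ (Γ.inv_mem hg) x hx
theorem Good.pg_St (hG : Good p Γ X0) {σ : Fin (n + 1) → X} (h : ∀ i, σ i ∈ X0) : IsPGroup p (St Γ (range σ)) :=
  (hG.pg _ (h 0)).to_le (St_anti (singleton_subset_iff.2 ⟨0, rfl⟩))
theorem St_le_range {σ : Fin n → X} (h : ∀ i, σ i ∈ X0) : St Γ X0 ≤ St Γ (range σ) :=
  St_anti (range_subset_iff.2 h)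
theorem Coch.mem_fx {t : (Fin n → X) → D} (h : Coch Γ X0 R t) (σ : Fin n → X) : t σ ∈ fx D (St Γ (range σ)) := fun g hg => by
  rw [← h.eqv g hg.1]
  exact congrArg t (funext (mem_St_range.1 hg).2)
theorem dd_add (t t' : (Fin n → X) → D) (σ : Fin (n + 1) → X) : dd (t + t') σ = dd t σ + dd t' σ := by
  simp only [dd, Pi.add_apply, smul_add, Finset.sum_add_distrib]
theorem dd_sub (t t' : (Fin n → X) → D) (σ : Fin (n + 1) → X) : dd (t - t') σ = dd t σ - dd t' σ := by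
  simp only [dd, Pi.sub_apply, smul_sub, Finset.sum_sub_distrib]
theorem dd_congr {t t' : (Fin n → X) → D} {σ : Fin (n + 1) → X} (h : ∀ i : Fin (n + 1), t (σ ∘ i.succAbove) = t' (σ ∘ i.succAbove)) :
    dd t σ = dd t' σ := by simp only [dd, h]
theorem dd_eq_zero {t : (Fin n → X) → D} {σ : Fin (n + 1) → X} (h : ∀ i : Fin (n + 1), t (σ ∘ i.succAbove) = 0) :
    dd t σ = 0 := by simp only [dd, h, smul_zero, Finset.sum_const_zero]
theorem dd_map {D' : Type*} [AddCommGroup D'] (f : D →+ D') (t : (Fin n → X) → D) (σ : Fin (n + 1) → X) :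
    f (dd t σ) = dd (fun τ => f (t τ)) σ := by simp only [dd, map_sum, map_zsmul]
theorem dd_smul {t : (Fin n → X) → D} {g : G} {σ : Fin (n + 1) → X}
    (h : ∀ i : Fin (n + 1), t (g • (σ ∘ i.succAbove)) = g • t (σ ∘ i.succAbove)) : dd t (g • σ) = g • dd t σ := by
  refine .trans ?_ (dd_map (DistribMulAction.toAddMonoidHom D g) t σ).symm
  exact Finset.sum_congr rfl fun i _ => congrArg _ (h i)
theorem dd_dd (t : (Fin n → X) → D) (σ : Fin (n + 2) → X) : dd (dd t) σ = 0 := by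
  simp only [dd, Finset.smul_sum, smul_smul, ← pow_add]
  rw [← Finset.sum_product']
  refine Finset.sum_involution (fun q _ => (q.1.succAbove q.2, q.2.predAbove q.1)) (fun q _ => ?_) (fun q _ _ e => ?_)
    (fun _ _ => by simp) fun q _ => ?_
  · have : (σ ∘ (q.1.succAbove q.2).succAbove) ∘ (q.2.predAbove q.1).succAbove = (σ ∘ q.1.succAbove) ∘ q.2.succAbove :=
      funext fun k => congrArg σ (Fin.succAbove_succAbove_succAbove_predAbove _ _ _)
    simp only [this, Fin.neg_one_pow_succAbove_add_predAbove, neg_smul, add_neg_cancel]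
  · exact Fin.succAbove_ne _ _ (congrArg Prod.fst e)
  · simp only [Fin.succAbove_succAbove_predAbove, Fin.predAbove_predAbove_succAbove]
theorem dd_zero (t : (Fin 0 → X) → D) (σ : Fin 1 → X) : dd t σ = t ![] := by
  simp only [dd, Fin.sum_univ_succ, Finset.univ_eq_empty, Finset.sum_empty, add_zero, Fin.val_zero, pow_zero, one_smul]
  exact congrArg t (Subsingleton.elim _ _)
theorem dd_cons (t : (Fin (n + 1) → X) → D) (x : X) (σ : Fin (n + 1) → X) :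
    dd t (Fin.cons x σ : Fin (n + 2) → X) = t σ - dd (fun τ => t (Fin.cons x τ)) σ := by
  rw [dd, Fin.sum_univ_succ, dd, sub_eq_add_neg, ← Finset.sum_neg_distrib]
  congr 1
  · simp only [Fin.val_zero, pow_zero, one_smul]; rfl
  · refine Finset.sum_congr rfl fun i _ => ?_
    rw [Fin.val_succ, pow_succ, mul_neg_one, neg_smul]
    congr 3
    funext j
    refine Fin.cases ?_ (fun j => ?_) j <;> simp
theorem dd_one (t : (Fin 1 → X) → D) (x y : X) : dd t ![x, y] = t ![y] - t ![x] := by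
  refine (dd_cons t x ![y]).trans ?_
  rw [dd_zero]; rfl
theorem dd_two (t : (Fin 2 → X) → D) (x y w : X) : dd t ![x, y, w] = t ![y, w] - t ![x, w] + t ![x, y] := by
  refine (dd_cons t x ![y, w]).trans ?_
  rw [dd_one, sub_sub_eq_add_sub, add_sub_right_comm]; rfl
theorem In.congr (hG : Good p Γ X0) (h : ∀ P : Subgroup G, IsPGroup p P → P ≤ Γ → St Γ X0 ≤ P → (R P ↔ R' P))
    (σ : Fin (n + 1) → X) : In Γ X0 R σ ↔ In Γ X0 R' σ :=
  and_congr_right fun q => h _ (hG.pg_St q) St_le (St_le_range q)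
theorem Van.congr (hG : Good p Γ X0) (h : ∀ P : Subgroup G, IsPGroup p P → P ≤ Γ → St Γ X0 ≤ P → (R P ↔ R' P))
    (hv : Van D Γ X0 R (m + 1)) : Van D Γ X0 R' (m + 1) := fun t ht hd => by
  obtain ⟨u, hu, e⟩ := hv t ⟨ht.eqv, fun σ q => ht.sup σ (mt (In.congr hG h σ).2 q)⟩ fun σ q => hd σ ((In.congr hG h σ).1 q)
  exact ⟨u, ⟨hu.eqv, fun σ q => hu.sup σ (mt (In.congr hG h σ).1 q)⟩, fun σ q => e σ ((In.congr hG h σ).2 q)⟩
theorem Van.congr' (h : ∀ P, R P ↔ R' P) (hv : Van D Γ X0 R m) : Van D Γ X0 R' m := by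
  obtain rfl : R = R' := funext fun P => propext (h P)
  exact hv

open Classical in
/-- restriction of a cochain to a region -/
noncomputable def cut (Γ : Subgroup G) (X0 : Set X) (R : Subgroup G → Prop) (t : (Fin n → X) → D) (σ : Fin n → X) : D :=
  if In Γ X0 R σ then t σ else 0

theorem cut_pos {t : (Fin n → X) → D} {σ : Fin n → X} (h : In Γ X0 R σ) : cut Γ X0 R t σ = t σ := if_pos h
theorem cut_neg {t : (Fin n → X) → D} {σ : Fin n → X} (h : ¬ In Γ X0 R σ) : cut Γ X0 R t σ = 0 := if_neg h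
theorem coch_cut (hG : Good p Γ X0) (hR : Inv Γ R) {t : (Fin n → X) → D} (h : ∀ g ∈ Γ, ∀ σ, t (g • σ) = g • t σ) :
    Coch Γ X0 R (cut Γ X0 R t) := by
  refine ⟨fun g hg σ => ?_, fun _ => cut_neg⟩
  by_cases q : In Γ X0 R σ
  · rw [cut_pos q, cut_pos ((In.smul hG hR hg).2 q), h g hg]
  · rw [cut_neg q, cut_neg (mt (In.smul hG hR hg).1 q), smul_zero]
theorem Coch.dd_eqv {t : (Fin n → X) → D} (h : Coch Γ X0 R t) : ∀ g ∈ Γ, ∀ σ, dd t (g • σ) = g • dd t σ :=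
  fun g hg _ => dd_smul fun _ => h.eqv g hg _
theorem Coch.mono {t : (Fin n → X) → D} (h : Coch Γ X0 R t) (h' : ∀ P, R P → R' P) : Coch Γ X0 R' t :=
  ⟨h.eqv, fun σ q => h.sup σ fun r => q ⟨r.1, h' _ r.2⟩⟩
theorem Coch.add {t t' : (Fin n → X) → D} (h : Coch Γ X0 R t) (h' : Coch Γ X0 R t') : Coch Γ X0 R (t + t') :=
  ⟨fun g hg σ => by rw [Pi.add_apply, Pi.add_apply, h.eqv g hg, h'.eqv g hg, smul_add],
    fun σ q => by rw [Pi.add_apply, h.sup σ q, h'.sup σ q, add_zero]⟩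
theorem Coch.sub {t t' : (Fin n → X) → D} (h : Coch Γ X0 R t) (h' : Coch Γ X0 R t') : Coch Γ X0 R (t - t') :=
  ⟨fun g hg σ => by rw [Pi.sub_apply, Pi.sub_apply, h.eqv g hg, h'.eqv g hg, smul_sub],
    fun σ q => by rw [Pi.sub_apply, h.sup σ q, h'.sup σ q, sub_zero]⟩
theorem In.face {σ : Fin (n + 1) → X} (h : ∀ i, σ i ∈ X0) (i : Fin (n + 1)) : ∀ j, (σ ∘ i.succAbove) j ∈ X0 := fun _ => h _
theorem In.up (hU : UpF Γ U) {σ : Fin (n + 1) → X} (h : U (St Γ (range σ))) (i : Fin (n + 1)) :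
    U (St Γ (range (σ ∘ i.succAbove))) := hU.up _ _ (St_face σ i) h
/-- on the faces of a tuple of the region, cutting a coboundary changes nothing -/
theorem cut_dd (hR : Fam Γ R) {u : (Fin n → X) → D} (hu : Coch Γ X0 R u) {σ : Fin (n + 2) → X} (h : In Γ X0 R σ)
    (i : Fin (n + 2)) : cut Γ X0 R (dd u) (σ ∘ i.succAbove) = dd u (σ ∘ i.succAbove) := by
  by_cases q : In Γ X0 R (σ ∘ i.succAbove)
  · exact cut_pos q
  · rw [cut_neg q, dd_eq_zero fun j => hu.sup _ fun r => q ⟨In.face h.1 i, hR.cvx _ _ _ (St_face _ _) (St_face _ j) h.2 r.2⟩]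
theorem dd_cut_dd (hR : Fam Γ R) {u : (Fin n → X) → D} (hu : Coch Γ X0 R u) {σ : Fin (n + 2) → X} (h : In Γ X0 R σ) :
    dd (cut Γ X0 R (dd u)) σ = 0 := (dd_congr (cut_dd hR hu h)).trans (dd_dd u σ)
/-- the upper part of a cochain -/
theorem dd_cut_up (hU : UpF Γ U) {t : (Fin n → X) → D} (ht : Coch Γ X0 R t) {σ : Fin (n + 1) → X} (h : U (St Γ (range σ))) :
    dd (cut Γ X0 (fun P => R P ∧ U P) t) σ = dd t σ := dd_congr fun i => by
  by_cases q : In Γ X0 R (σ ∘ i.succAbove)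
  · exact cut_pos ⟨q.1, q.2, In.up hU h i⟩
  · rw [cut_neg fun r => q ⟨r.1, r.2.1⟩, ht.sup _ q]
theorem dd_low (hU : UpF Γ U) {t : (Fin n → X) → D} (ht : Coch Γ X0 (fun P => R P ∧ ¬ U P) t) {σ : Fin (n + 1) → X}
    (h : U (St Γ (range σ))) : dd t σ = 0 := dd_eq_zero fun i => ht.sup _ fun r => r.2.2 (In.up hU h i)

theorem Van.split (hG : Good p Γ X0) (hR : Fam Γ R) (hU : UpF Γ U) (h1 : Van D Γ X0 (fun P => R P ∧ ¬ U P) m)
    (h2 : Van D Γ X0 (fun P => R P ∧ U P) m) : Van D Γ X0 R m := fun t ht hd => by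
  obtain ⟨u2, hu2, e2⟩ := h2 _ (coch_cut hG (hR.inv.and hU.inv) ht.eqv) fun σ q =>
    (dd_cut_up hU ht q.2.2).trans (hd σ ⟨q.1, q.2.1⟩)
  have hu2' : Coch Γ X0 R u2 := hu2.mono fun _ q => q.1
  have c := ht.sub (coch_cut hG hR.inv hu2'.dd_eqv)
  obtain ⟨u1, hu1, e1⟩ := h1 _ ⟨c.eqv, fun σ q => by
    by_cases r : In Γ X0 R σ
    · have s : U (St Γ (range σ)) := by_contra fun s => q ⟨r.1, r.2, s⟩
      rw [Pi.sub_apply, cut_pos r, ← e2 σ ⟨r.1, r.2, s⟩, cut_pos ⟨r.1, r.2, s⟩, sub_self]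
    · exact c.sup σ r⟩ fun σ q => by rw [dd_sub, hd σ ⟨q.1, q.2.1⟩, dd_cut_dd hR hu2' ⟨q.1, q.2.1⟩, sub_zero]
  refine ⟨u1 + u2, (hu1.mono fun _ q => q.1).add hu2', fun σ q => ?_⟩
  rw [dd_add]
  by_cases s : U (St Γ (range σ))
  · rw [dd_low hU hu1 s, zero_add, ← e2 σ ⟨q.1, q.2, s⟩, cut_pos ⟨q.1, q.2, s⟩]
  · rw [← e1 σ ⟨q.1, q.2, s⟩, Pi.sub_apply, cut_pos q, sub_add_cancel]

theorem Van.s1 (hG : Good p Γ X0) (hR : Fam Γ R) (hU : UpF Γ U) (h : Van D Γ X0 R (m + 1))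
    (h2 : Van D Γ X0 (fun P => R P ∧ U P) m) : Van D Γ X0 (fun P => R P ∧ ¬ U P) (m + 1) := fun t ht hd => by
  obtain ⟨u, hu, e⟩ := h t (ht.mono fun _ q => q.1) fun σ q => by
    by_cases s : U (St Γ (range σ))
    · exact dd_low hU ht s
    · exact hd σ ⟨q.1, q.2, s⟩
  obtain ⟨w, hw, e2⟩ := h2 _ (coch_cut hG (hR.inv.and hU.inv) hu.eqv) fun σ q => by
    rw [dd_cut_up hU hu q.2.2, ← e σ ⟨q.1, q.2.1⟩, ht.sup σ fun r => r.2.2 q.2.2]
  have hw' : Coch Γ X0 R w := hw.mono fun _ q => q.1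
  have c := hu.sub (coch_cut hG hR.inv hw'.dd_eqv)
  refine ⟨_, ⟨c.eqv, fun σ q => ?_⟩, fun σ q => ?_⟩
  · by_cases r : In Γ X0 R σ
    · have s : U (St Γ (range σ)) := by_contra fun s => q ⟨r.1, r.2, s⟩
      rw [Pi.sub_apply, cut_pos r, ← e2 σ ⟨r.1, r.2, s⟩, cut_pos ⟨r.1, r.2, s⟩, sub_self]
    · exact c.sup σ r
  · rw [dd_sub, dd_cut_dd hR hw' ⟨q.1, q.2.1⟩, sub_zero, e σ ⟨q.1, q.2.1⟩]

theorem Van.s2 (hG : Good p Γ X0) (hR : Fam Γ R) (hU : UpF Γ U) (h : Van D Γ X0 R m)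
    (h1 : Van D Γ X0 (fun P => R P ∧ ¬ U P) (m + 1)) : Van D Γ X0 (fun P => R P ∧ U P) m := fun t ht hd => by
  have ht' : Coch Γ X0 R t := ht.mono fun _ q => q.1
  obtain ⟨w, hw, e⟩ := h1 _ (coch_cut hG (hR.inv.and hU.inv.not) ht.dd_eqv) fun σ q => by
    refine (dd_congr fun i => ?_).trans (dd_cut_dd hR ht' ⟨q.1, q.2.1⟩)
    by_cases r : In Γ X0 R (σ ∘ i.succAbove)
    · by_cases s : U (St Γ (range (σ ∘ i.succAbove)))
      · rw [cut_neg fun r => r.2.2 s, cut_pos r, hd _ ⟨r.1, r.2, s⟩]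
      · rw [cut_pos ⟨r.1, r.2, s⟩, cut_pos r]
    · rw [cut_neg r, cut_neg fun r' => r ⟨r'.1, r'.2.1⟩]
  obtain ⟨u, hu, e2⟩ := h _ (ht'.sub (hw.mono fun _ q => q.1)) fun σ q => by
    rw [dd_sub]
    by_cases s : U (St Γ (range σ))
    · rw [hd σ ⟨q.1, q.2, s⟩, dd_low hU hw s, sub_zero]
    · rw [← e σ ⟨q.1, q.2, s⟩, cut_pos ⟨q.1, q.2, s⟩, sub_self]
  refine ⟨_, coch_cut hG (hR.inv.and hU.inv) hu.eqv, fun σ q => ?_⟩
  rw [dd_cut_up hU hu q.2.2, ← e2 σ ⟨q.1, q.2.1⟩, Pi.sub_apply, hw.sup σ fun r => r.2.2 q.2.2, sub_zero]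

/-- equivariant choice -/
theorem ec {I V : Type*} (Γ : Subgroup G) (a : G → I → I) (b : G → V → V) (a1 : ∀ i, a 1 i = i)
    (am : ∀ g h i, a (g * h) i = a g (a h i)) (bm : ∀ g h v, b (g * h) v = b g (b h v)) (T : I → V → Prop)
    (hT : ∀ g ∈ Γ, ∀ i v, T i v → T (a g i) (b g v)) (h : ∀ i, ∃ v, T i v ∧ ∀ g ∈ Γ, a g i = i → b g v = v) :
    ∃ f : I → V, (∀ i, T i (f i)) ∧ ∀ g ∈ Γ, ∀ i, f (a g i) = b g (f i) := by
  let s : Setoid I := ⟨fun i j => ∃ g ∈ Γ, a g i = j, fun i => ⟨1, Γ.one_mem, a1 i⟩,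
    fun ⟨g, hg, e⟩ => ⟨g⁻¹, Γ.inv_mem hg, by rw [← e, ← am, inv_mul_cancel, a1]⟩,
    fun ⟨g, hg, e⟩ ⟨k, hk, e'⟩ => ⟨k * g, Γ.mul_mem hk hg, by rw [am, e, e']⟩⟩
  choose v hv hv' using h
  choose c hc hc' using fun i : I => (Quotient.mk_out (s := s) i : ∃ g ∈ Γ, a g (Quotient.mk s i).out = i)
  refine ⟨fun i => b (c i) (v (Quotient.mk s i).out), fun i => ?_, fun g hg i => ?_⟩
  · have := hT _ (hc i) _ _ (hv (Quotient.mk s i).out)
    rwa [hc'] at this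
  · have e : Quotient.mk s (a g i) = Quotient.mk s i := (Quotient.sound (s := s) ⟨g, hg, rfl⟩).symm
    have e' := hc' (a g i)
    simp only [e] at e' ⊢
    have := hv' (Quotient.mk s i).out ((c (a g i))⁻¹ * (g * c i))
      (Γ.mul_mem (Γ.inv_mem (hc _)) (Γ.mul_mem hg (hc _))) (by rw [am, am, hc', ← e', ← am, e', inv_mul_cancel, a1])
    rw [← this, ← bm, mul_inv_cancel_left, this, bm]

theorem Tor.inv [Fact p.Prime] (hD : Tor p D) {k : ℕ} (hk : ¬ p ∣ k) : ∃ c : ℕ, ∀ v : D, c • k • v = v := by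
  obtain ⟨N, hN⟩ := hD
  have hp : p.Prime := Fact.out
  have hc : k.Coprime (p ^ (N + 1)) := ((hp.coprime_iff_not_dvd.2 hk).symm).pow_right _
  obtain ⟨c, -, hc⟩ := Nat.exists_mul_mod_eq_one_of_coprime hc (one_lt_pow₀ hp.one_lt N.succ_ne_zero)
  refine ⟨c, fun v => ?_⟩
  rw [smul_smul, mul_comm, ← Nat.mod_add_div (k * c) (p ^ (N + 1)), hc, add_smul, one_smul, mul_comm, mul_smul, pow_succ',
    mul_smul, hN, smul_zero, smul_zero, add_zero]

variable [Fact p.Prime] [Finite G] [Finite X]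

omit [Finite G] in
theorem Good.card_Fx (hG : Good p Γ X0) (hP : IsPGroup p P) (h : P ≤ Γ) : ¬ p ∣ (Fx X0 P).ncard := by
  let Z : SubMulAction P X := ⟨X0, fun g _ hx => hG.inv g (h g.2) _ hx⟩
  have := hP.card_modEq_card_fixedPoints Z
  have e : Nat.card (MulAction.fixedPoints P Z) = (Fx X0 P).ncard := by
    rw [← Nat.card_coe_set_eq]
    exact Nat.card_congr ⟨fun x => ⟨x.1.1, x.1.2, fun g hg => congrArg Subtype.val (x.2 ⟨g, hg⟩)⟩,
      fun x => ⟨⟨x.1, x.2.1⟩, fun g => Subtype.ext (x.2.2 g g.2)⟩, fun _ => rfl, fun _ => rfl⟩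
  rw [e] at this
  intro q
  exact hG.cop ((Nat.card_coe_set_eq X0) ▸ (this.dvd_iff dvd_rfl).2 q)
omit [Finite G] in
theorem Good.loc (hG : Good p Γ X0) (hP : IsPGroup p P) (h : P ≤ Γ) : Good p (NS Γ P) (Fx X0 P) := by
  refine ⟨fun g hg x hx => ⟨hG.inv g hg.1 x hx.1, fun k hk => ?_⟩,
    fun x hx => (hG.pg x hx.1).to_le fun g hg => ⟨hg.1.1, hg.2⟩, hG.card_Fx hP h⟩
  have := hx.2 _ (conj_mem_of_norm' hg.2 hk)
  rwa [mul_smul, mul_smul, inv_smul_eq_iff] at this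
omit [Finite G] in
theorem Good.fix (hG : Good p Γ X0) (hP : IsPGroup p P) (h : P ≤ Γ) : ∃ x ∈ X0, ∀ g ∈ P, g • x = x := by
  obtain ⟨x, hx⟩ := nonempty_of_ncard_ne_zero fun q => hG.card_Fx hP h (q ▸ dvd_zero p)
  exact ⟨x, hx⟩
omit [Finite G] in
theorem Good.syl (hG : Good p Γ X0) (h : SylIn p P Γ) : ∃ x ∈ X0, St Γ {x} = P := by
  obtain ⟨x, hx, e⟩ := hG.fix h.pg h.le
  exact ⟨x, hx, h.max _ (fun g hg => mem_St_one.2 ⟨h.le hg, e g hg⟩) St_le (hG.pg x hx)⟩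
omit [Finite G] in
theorem Good.pg0 (hG : Good p Γ X0) : IsPGroup p (St Γ X0) := by
  obtain ⟨x, hx, -⟩ := hG.fix IsPGroup.of_bot bot_le
  exact (hG.pg x hx).to_le (St_anti (singleton_subset_iff.2 hx))
omit [Finite X] in
theorem good_quot {T : Subgroup G} (hT : SylIn p T ⊤) : Good p (⊤ : Subgroup G) (univ : Set (G ⧸ T)) := by
  refine ⟨fun _ _ _ _ => trivial, fun x _ => ?_, ?_⟩
  · obtain ⟨g, rfl⟩ := QuotientGroup.mk_surjective x
    refine ((piso_cj g T).isPGroup hT.pg).to_le fun k hk => mem_img_cj.2 ?_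
    have := QuotientGroup.eq.1 (mem_St_one.1 hk).2.symm
    simpa [mul_assoc] using this
  · rw [ncard_univ, ← index_eq_card, ← relIndex_top_right]
    exact hT.not_dvd_relIndex
omit [Finite G] in
theorem acyc (hG : Good p Γ X0) (hD : Tor p D) (m : ℕ) : Van D Γ X0 (fun _ => True) m := fun t ht hd => by
  obtain ⟨c, hc⟩ := hD.inv hG.cop
  let s := (toFinite X0).toFinset
  have hs : ∀ x, x ∈ s ↔ x ∈ X0 := fun x => (toFinite X0).mem_toFinset
  let u : (Fin m → X) → D := fun σ => c • ∑ x ∈ s, t (Fin.cons x σ)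
  have h1 : ∀ g ∈ Γ, ∀ σ : Fin m → X, u (g • σ) = g • u σ := fun g hg σ => by
    simp only [u]
    rw [smul_comm g c]
    refine congrArg (c • ·) ?_
    rw [Finset.smul_sum]
    symm
    refine Finset.sum_bij' (fun x _ => g • x) (fun x _ => g⁻¹ • x) (fun x hx => (hs _).2 (hG.inv g hg _ ((hs _).1 hx)))
      (fun x hx => (hs _).2 (hG.inv _ (Γ.inv_mem hg) _ ((hs _).1 hx))) (fun x _ => inv_smul_smul g x)
      (fun x _ => smul_inv_smul g x) fun x _ => ?_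
    rw [← ht.eqv g hg]
    congr 1
    funext j
    refine Fin.cases ?_ (fun j => ?_) j <;> simp
  refine ⟨_, coch_cut hG fam_true.inv h1, fun σ q => ?_⟩
  rw [dd_congr fun i => cut_pos ⟨In.face q.1 i, trivial⟩]
  have h2 : ∀ x ∈ s, dd (fun τ => t (Fin.cons x τ)) σ = t σ := fun x hx => by
    have := hd (Fin.cons x σ) ⟨fun j => Fin.cases ((hs _).1 hx) (fun j => q.1 j) j, trivial⟩
    rw [dd_cons, sub_eq_zero] at this
    exact this.symm
  have h3 : dd u σ = c • ∑ x ∈ s, dd (fun τ => t (Fin.cons x τ)) σ := by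
    simp only [u, dd, Finset.smul_sum]
    rw [Finset.sum_comm]
    exact Finset.sum_congr rfl fun _ _ => Finset.sum_congr rfl fun _ _ => smul_comm _ _ _
  rw [h3, Finset.sum_congr rfl h2, Finset.sum_const, ← ncard_eq_toFinset_card X0 (toFinite X0), hc]
omit [Finite G] in
theorem Van.up (hG : Good p Γ X0) (hD : Tor p D) (hU : UpF Γ U) (h : Van D Γ X0 (fun P => ¬ U P) (m + 1)) : Van D Γ X0 U m :=
  (Van.s2 hG fam_true hU (acyc hG hD m) (h.congr' fun _ => by simp)).congr' fun _ => by simp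
omit [Finite G] in
theorem Van.down (hG : Good p Γ X0) (hD : Tor p D) (hU : UpF Γ U) (h : Van D Γ X0 U m) : Van D Γ X0 (fun P => ¬ U P) (m + 1) :=
  (Van.s1 hG fam_true hU (acyc hG hD _) (h.congr' fun _ => by simp)).congr' fun _ => by simp
end

end CF.Ex
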