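/-
Equivariant cochains on lists with values in subquotients of one module: exact sequences,
filtrations, reduction to normalizers.
-/
import Cfsg.Agent.Transfer.SylowIn
import Mathlib.Tactic

set_option autoImplicit false
set_option linter.unusedSectionVars false

namespace CF.Ex.M
open Subgroup CF.Transfer

section cb
variable {X D D' : Type*} [AddCommGroup D] [AddCommGroup D']

/-- the coboundary (list first) -/
def dd : List X → (List X → D) → D
  | [], _ => 0
  | x :: l, f => f l - dd l fun l' => f (x :: l')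

/-- the coboundary -/
def cb (f : List X → D) (l : List X) : D := dd l f

@[simp] theorem cb_nil (f : List X → D) : cb f [] = 0 := rfl

theorem cb_cons (f : List X → D) (x : X) (l : List X) :
    cb f (x :: l) = f l - cb (fun l' => f (x :: l')) l := rfl

theorem cb_map (φ : D →+ D') (f : List X → D) (l : List X) :
    φ (cb f l) = cb (fun l => φ (f l)) l := by
  induction l generalizing f with
  | nil => simp
  | cons x l ih => rw [cb_cons, cb_cons, map_sub, ih]

theorem cb_sub (f g : List X → D) (l : List X) :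
    cb (fun l => f l - g l) l = cb f l - cb g l := by
  induction l generalizing f g with
  | nil => simp
  | cons x l ih => rw [cb_cons, cb_cons, cb_cons, ih]; abel

theorem cb_add (f g : List X → D) (l : List X) :
    cb (fun l => f l + g l) l = cb f l + cb g l := by
  induction l generalizing f g with
  | nil => simp
  | cons x l ih => rw [cb_cons, cb_cons, cb_cons, ih]; abel

theorem cb_mem (W : AddSubgroup D) (f : List X → D) (l : List X)
    (h : ∀ l', l'.Sublist l → l'.length + 1 = l.length → f l' ∈ W) : cb f l ∈ W := by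
  induction l generalizing f with
  | nil => exact zero_mem _
  | cons x l ih =>
    exact sub_mem (h l (List.sublist_cons_self x l) rfl)
      (ih _ fun l' a b => h _ (a.cons_cons x) (by simp [b]))

theorem cb_congr {f g : List X → D} {l : List X}
    (h : ∀ l', l'.Sublist l → l'.length + 1 = l.length → f l' = g l') : cb f l = cb g l := by
  rw [← sub_eq_zero, ← cb_sub, ← AddSubgroup.mem_bot]
  exact cb_mem _ _ _ fun l' a b => by simp [h l' a b]

theorem cb_cb (f : List X → D) (l : List X) : cb (cb f) l = 0 := by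
  induction l generalizing f with
  | nil => rfl
  | cons x l ih => simp only [cb_cons, cb_sub, ih]; abel

theorem cb_lmap {Y : Type*} (φ : Y → X) (f : List X → D) (l : List Y) :
    cb f (l.map φ) = cb (fun l' => f (l'.map φ)) l := by
  induction l generalizing f with
  | nil => rfl
  | cons x l ih => rw [List.map_cons, cb_cons, cb_cons, ih]; rfl

theorem cb_prod (f : List X → D) (g : List X → D') (l : List X) :
    cb (fun l => (f l, g l)) l = (cb f l, cb g l) :=
  Prod.ext (cb_map (AddMonoidHom.fst D D') _ l) (cb_map (AddMonoidHom.snd D D') _ l)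

theorem cb_sum {ι : Type*} (s : Finset ι) (f : ι → List X → D) (l : List X) :
    cb (fun l => ∑ i ∈ s, f i l) l = ∑ i ∈ s, cb (f i) l := by
  induction l generalizing f with
  | nil => simp
  | cons x l ih => simp only [cb_cons, ih, Finset.sum_sub_distrib]

theorem cb_two (f : List X → D) (x y : X) : cb f [x, y] = f [y] - f [x] := by
  simp [cb_cons]

theorem cb_three (f : List X → D) (x y z : X) :
    cb f [x, y, z] = f [y, z] - f [x, z] + f [x, y] := by
  simp only [cb_cons, cb_nil]; abel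

open Classical in
/-- truncation -/
noncomputable def tc (S : List X → Prop) (f : List X → D) (l : List X) : D := if S l then f l else 0

theorem tc_pos {S : List X → Prop} {f : List X → D} {l : List X} (h : S l) : tc S f l = f l :=
  if_pos h

theorem tc_neg {S : List X → Prop} {f : List X → D} {l : List X} (h : ¬ S l) : tc S f l = 0 :=
  if_neg h

end cb

variable {G X D : Type*} [Group G] [MulAction G X] [AddCommGroup D] [DistribMulAction G D]

/-- the action on lists -/
def ac (g : G) (l : List X) : List X := l.map (g • ·)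

@[simp] theorem ac_one (l : List X) : ac (1 : G) l = l := by simp [ac]

theorem ac_ac (g h : G) (l : List X) : ac g (ac h l) = ac (g * h) l := by
  simp [ac, mul_smul]

@[simp] theorem ac_len (g : G) (l : List X) : (ac g l).length = l.length := by simp [ac]

@[simp] theorem ac_inv (g : G) (l : List X) : ac g (ac g⁻¹ l) = l := by simp [ac_ac]

@[simp] theorem inv_ac (g : G) (l : List X) : ac g⁻¹ (ac g l) = l := by simp [ac_ac]

theorem cb_smul (g : G) (f : List X → D) (l : List X) :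
    g • cb f l = cb (fun l => g • f l) l := cb_map (DistribMulAction.toAddMonoidHom D g) f l

theorem cb_ac (g : G) (f : List X → D) (l : List X) :
    cb f (ac g l) = cb (fun l' => f (ac g l')) l := cb_lmap _ f l

/-- a well formed coefficient system -/
structure Ok (H : Subgroup G) (S : List X → Prop) (U V : List X → AddSubgroup D) : Prop where
  sI : ∀ h ∈ H, ∀ l, S l → S (ac h l)
  cv : ∀ l₁ l₂ l₃, l₁.Sublist l₂ → l₂.Sublist l₃ → S l₁ → S l₃ → S l₂
  uI : ∀ h ∈ H, ∀ l, S l → ∀ u ∈ U l, h • u ∈ U (ac h l)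
  vI : ∀ h ∈ H, ∀ l, S l → ∀ u ∈ V l, h • u ∈ V (ac h l)
  uM : ∀ l' l, l'.Sublist l → S l' → S l → U l' ≤ U l
  vM : ∀ l' l, l'.Sublist l → S l' → S l → V l' ≤ V l
  le : ∀ l, S l → V l ≤ U l
  tr : ∀ h ∈ H, ∀ l, S l → ac h l = l → ∀ u ∈ U l, h • u - u ∈ V l

/-- cochains on lists of length `n` -/
structure Ch (H : Subgroup G) (S : List X → Prop) (U V : List X → AddSubgroup D) (n : ℕ)
    (f : List X → D) : Prop where
  z : ∀ l, l.length = n → ¬ S l → f l = 0
  m : ∀ l, l.length = n → S l → f l ∈ U l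
  e : ∀ l, l.length = n → S l → ∀ h ∈ H, f (ac h l) - h • f l ∈ V (ac h l)

/-- vanishing of the cohomology in degree `n` -/
def Van (H : Subgroup G) (S : List X → Prop) (U V : List X → AddSubgroup D) (n : ℕ) : Prop :=
  ∀ f, Ch H S U V (n + 1) f → (∀ l, l.length = n + 2 → S l → cb f l ∈ V l) →
    ∃ e, Ch H S U V n e ∧ ∀ l, l.length = n + 1 → S l → f l - cb e l ∈ V l

variable {H : Subgroup G} {S S' : List X → Prop} {U U' V V' : List X → AddSubgroup D} {n : ℕ}
  {f g : List X → D}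

theorem Ok.sI' (o : Ok H S U V) {h : G} (hh : h ∈ H) {l : List X} (s : S (ac h l)) : S l := by
  simpa using o.sI _ (inv_mem hh) _ s

theorem cb_mem' {W : List X → AddSubgroup D} {l : List X}
    (m : ∀ l', l'.Sublist l → S l' → W l' ≤ W l)
    (z : ∀ l', l'.length + 1 = l.length → ¬ S l' → f l' = 0)
    (h : ∀ l', l'.length + 1 = l.length → S l' → f l' ∈ W l') : cb f l ∈ W l :=
  cb_mem _ _ _ fun l' a b => by
    by_cases c : S l'
    · exact m l' a c (h l' b c)
    · rw [z l' b c]; exact zero_mem _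

theorem Ch.sub (a : Ch H S U V n f) (b : Ch H S U V n g) : Ch H S U V n fun l => f l - g l :=
  ⟨fun l x y => by rw [a.z l x y, b.z l x y, sub_zero], fun l x y => sub_mem (a.m l x y) (b.m l x y),
    fun l x y h hh => by
      convert sub_mem (a.e l x y h hh) (b.e l x y h hh) using 1
      rw [smul_sub]; abel⟩

theorem Ch.add (a : Ch H S U V n f) (b : Ch H S U V n g) : Ch H S U V n fun l => f l + g l :=
  ⟨fun l x y => by rw [a.z l x y, b.z l x y, add_zero], fun l x y => add_mem (a.m l x y) (b.m l x y),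
    fun l x y h hh => by
      convert add_mem (a.e l x y h hh) (b.e l x y h hh) using 1
      rw [smul_add]; abel⟩

theorem Ch.weak (o : Ok H S U V) (a : Ch H S U V n f) (u : ∀ l, l.length = n → S l → f l ∈ U' l)
    (v : ∀ l, S l → V l ≤ V' l) : Ch H S U' V' n f :=
  ⟨a.z, u, fun l x y h hh => v _ (o.sI h hh l y) (a.e l x y h hh)⟩

theorem Ch.cbm (o : Ok H S U V) (a : Ch H S U V n f) (l : List X) (x : l.length = n + 1) (y : S l) :
    cb f l ∈ U l :=
  cb_mem' (fun l' s c => o.uM l' l s c y) (fun l' s => a.z l' (by omega)) fun l' s => a.m l' (by omega)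

theorem Ch.d (o : Ok H S U V) (a : Ch H S U V n f) : Ch H S U V (n + 1) (tc S (cb f)) := by
  refine ⟨fun l _ y => tc_neg y, fun l x y => by rw [tc_pos y]; exact a.cbm o l x y,
    fun l x y h hh => ?_⟩
  rw [tc_pos y, tc_pos (o.sI h hh l y), cb_ac, cb_smul, ← cb_sub]
  refine cb_mem _ _ _ fun l' s t => ?_
  by_cases c : S l'
  · exact o.vM _ _ (s.map _) (o.sI h hh _ c) (o.sI h hh l y) (a.e l' (by omega) c h hh)
  · rw [a.z l' (by omega) c, a.z _ (by rw [ac_len]; omega) fun q => c (o.sI' hh q)]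
    simp

theorem Ch.dd (o : Ok H S U V) (a : Ch H S U V n f) (l : List X) (x : l.length = n + 2) (y : S l) :
    cb (tc S (cb f)) l = 0 := by
  rw [← cb_cb f l]
  refine cb_congr fun l' s t => ?_
  by_cases c : S l'
  · exact tc_pos c
  · rw [tc_neg c, eq_comm, ← AddSubgroup.mem_bot]
    exact cb_mem _ _ _ fun l'' s' t' => a.z l'' (by omega) fun q => c (o.cv _ _ _ s' s q y)

theorem Ch.straight (o : Ok H S U V) (a : Ch H S U U' n f) :
    ∃ g, Ch H S U V n g ∧ ∀ l, l.length = n → S l → f l - g l ∈ U' l := by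
  let rep : List X → List X := fun l => Classical.epsilon fun r => ∃ h ∈ H, ac h r = l
  have hr : ∀ l, ∃ h ∈ H, ac h (rep l) = l := fun l =>
    Classical.epsilon_spec (p := fun r => ∃ h ∈ H, ac h r = l) ⟨l, 1, one_mem _, ac_one l⟩
  choose k kH hk using hr
  have rr : ∀ h ∈ H, ∀ l, rep (ac h l) = rep l := fun h hh l => by
    simp only [rep]
    congr 1
    ext r
    exact ⟨fun ⟨x, a, b⟩ => ⟨h⁻¹ * x, mul_mem (inv_mem hh) a, by rw [← ac_ac, b, inv_ac]⟩,
      fun ⟨x, a, b⟩ => ⟨h * x, mul_mem hh a, by rw [← ac_ac, b]⟩⟩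
  have sr : ∀ l, S l → S (rep l) := fun l s => o.sI' (kH l) ((hk l).symm ▸ s)
  have lr : ∀ l, (rep l).length = l.length := fun l => by rw [← ac_len (k l), hk]
  refine ⟨tc S fun l => k l • f (rep l), ⟨fun l _ y => tc_neg y, fun l x y => ?_,
    fun l x y h hh => ?_⟩, fun l x y => ?_⟩
  · rw [tc_pos y]
    simpa [hk] using o.uI _ (kH l) _ (sr l y) _ (a.m _ ((lr l).trans x) (sr l y))
  · rw [tc_pos y, tc_pos (o.sI h hh l y), rr h hh]
    have e : ac (k (ac h l)) (rep l) = ac h l := by rw [← rr h hh l, hk]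
    have := o.vI _ (kH (ac h l)) _ (sr l y) _ (neg_mem (o.tr _ (mul_mem (mul_mem
      (inv_mem (kH (ac h l))) hh) (kH l)) _ (sr l y) (by
        rw [← ac_ac, hk, ← ac_ac]
        exact (congrArg (ac _) e.symm).trans (inv_ac _ _)) _
      (a.m _ ((lr l).trans x) (sr l y))))
    rwa [e, neg_sub, smul_sub, mul_smul, mul_smul, smul_inv_smul] at this
  · rw [tc_pos y]
    simpa [hk] using a.e _ ((lr l).trans x) (sr l y) _ (kH l)

theorem ses_mid (o : Ok H S U V) (o' : Ok H S U' V) (o'' : Ok H S U U') (h' : Van H S U' V n)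
    (h'' : Van H S U U' n) : Van H S U V n := fun f a c => by
  obtain ⟨e, e1, e2⟩ := h'' f (a.weak o a.m o'.le) fun l x y => o'.le l y (c l x y)
  obtain ⟨e', k1, k2⟩ := e1.straight o
  obtain ⟨e'', j1, j2⟩ := h' _ ((a.sub (k1.d o)).weak o (fun l x y => by
    have : cb (fun l => e l - e' l) l ∈ U' l := cb_mem' (fun l' s c => o'.uM l' l s c y)
      (fun l' s c => by rw [e1.z l' (by omega) c, k1.z l' (by omega) c, sub_zero])
      fun l' s => k2 l' (by omega)
    rw [cb_sub] at this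
    rw [tc_pos y]
    convert add_mem (e2 l x y) this using 1; abel) fun _ _ => le_rfl) fun l x y => by
      rw [cb_sub, k1.dd o l x y, sub_zero]; exact c l x y
  refine ⟨_, k1.add (j1.weak o' (fun l x y => o''.le l y (j1.m l x y)) fun _ _ => le_rfl),
    fun l x y => ?_⟩
  have := j2 l x y
  rw [tc_pos y] at this
  rw [cb_add]
  convert this using 1; abel

theorem ses_quo (o : Ok H S U V) (o' : Ok H S U' V) (o'' : Ok H S U U') (h : Van H S U V n)
    (h' : Van H S U' V (n + 1)) : Van H S U U' n := fun f a c => by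
  obtain ⟨f₁, k1, k2⟩ := a.straight o
  obtain ⟨e', j1, j2⟩ := h' _ ((k1.d o).weak o (fun l x y => by
    have : cb (fun l => f l - f₁ l) l ∈ U' l := cb_mem' (fun l' s c => o'.uM l' l s c y)
      (fun l' s c => by rw [a.z l' (by omega) c, k1.z l' (by omega) c, sub_zero])
      fun l' s => k2 l' (by omega)
    rw [cb_sub] at this
    rw [tc_pos y]
    convert sub_mem (c l x y) this using 1; abel) fun _ _ => le_rfl) fun l x y => by
      rw [k1.dd o l x y]; exact zero_mem _
  obtain ⟨e, e1, e2⟩ := h _ (k1.sub (j1.weak o' (fun l x y => o''.le l y (j1.m l x y))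
    fun _ _ => le_rfl)) fun l x y => by
      have := j2 l x y
      rwa [tc_pos y, ← cb_sub] at this
  refine ⟨e, e1.weak o e1.m o'.le, fun l x y => ?_⟩
  convert add_mem (add_mem (k2 l x y) (o'.le l y (e2 l x y))) (j1.m l x y) using 1; abel

theorem ses_sub (o : Ok H S U V) (o' : Ok H S U' V) (o'' : Ok H S U U') (h : Van H S U V (n + 1))
    (h'' : Van H S U U' n) : Van H S U' V (n + 1) := fun f a c => by
  obtain ⟨e, e1, e2⟩ := h f (a.weak o' (fun l x y => o''.le l y (a.m l x y)) fun _ _ => le_rfl) c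
  obtain ⟨e', j1, j2⟩ := h'' e (e1.weak o e1.m o'.le) fun l x y => by
    convert sub_mem (a.m l x y) (o'.le l y (e2 l x y)) using 1; abel
  obtain ⟨e'', k1, k2⟩ := j1.straight o
  refine ⟨_, (e1.sub (k1.d o)).weak o (fun l x y => ?_) fun _ _ => le_rfl, fun l x y => ?_⟩
  · have : cb (fun l => e' l - e'' l) l ∈ U' l := cb_mem' (fun l' s c => o'.uM l' l s c y)
      (fun l' s c => by rw [j1.z l' (by omega) c, k1.z l' (by omega) c, sub_zero])
      fun l' s => k2 l' (by omega)
    rw [cb_sub] at this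
    rw [tc_pos y]
    convert add_mem (j2 l x y) this using 1; abel
  · rw [cb_sub, k1.dd o l x y, sub_zero]; exact e2 l x y

section supp
variable (o : Ok H S U V) (sI : ∀ h ∈ H, ∀ l, S' l → S' (ac h l)) (sub : ∀ l, S' l → S l)
  (u : ∀ l, S' l → U l = U' l) (v : ∀ l, S' l → V l = V' l) (w : ∀ l, S l → ¬ S' l → U l ≤ V l)
include o sI sub u v w

theorem Ch.trunc (a : Ch H S U V n f) : Ch H S' U' V' n (tc S' f) :=
  ⟨fun _ _ y => tc_neg y, fun l x y => by rw [tc_pos y, ← u l y]; exact a.m l x (sub l y),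
    fun l x y h hh => by
      rw [tc_pos y, tc_pos (sI h hh l y), ← v _ (sI h hh l y)]; exact a.e l x (sub l y) h hh⟩

theorem Ch.trunc_cb (a : Ch H S U V n f) (l : List X) (x : l.length = n + 1) (y : S l) :
    cb f l - cb (tc S' f) l ∈ V l := by
  rw [← cb_sub]
  refine cb_mem' (fun l' s c => o.vM l' l s c y) (fun l' s c => ?_) fun l' s c => ?_
  · rw [a.z l' (by omega) c, tc_neg fun q => c (sub l' q), sub_zero]
  · by_cases q : S' l'
    · rw [tc_pos q, sub_self]; exact zero_mem _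
    · rw [tc_neg q, sub_zero]; exact w l' c q (a.m l' (by omega) c)

theorem Ch.ext0 (a : Ch H S' U' V' n f) : Ch H S U V n f := by
  refine ⟨fun l x y => a.z l x fun q => y (sub l q), fun l x _ => ?_, fun l x _ h hh => ?_⟩ <;>
    by_cases q : S' l
  · rw [u l q]; exact a.m l x q
  · rw [a.z l x q]; exact zero_mem _
  · rw [v _ (sI h hh l q)]; exact a.e l x q h hh
  · rw [a.z l x q, a.z _ (by rw [ac_len, x]) fun t => q (by simpa using sI _ (inv_mem hh) _ t)]
    simp

theorem Van.of_sub (h : Van H S' U' V' n) : Van H S U V n := fun f a c => by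
  obtain ⟨e, e1, e2⟩ := h _ (a.trunc o sI sub u v w) fun l x y => by
    rw [← v l y]
    convert sub_mem (c l x (sub l y)) (a.trunc_cb o sI sub u v w l x (sub l y)) using 1; abel
  have e3 := e1.ext0 o sI sub u v w
  refine ⟨e, e3, fun l x y => ?_⟩
  by_cases q : S' l
  · have := e2 l x q
    rwa [tc_pos q, ← v l q] at this
  · exact w l y q (sub_mem (a.m l x y) (e3.cbm o l x y))

theorem Van.to_sub (h : Van H S U V n) : Van H S' U' V' n := fun f a c => by
  have a' := a.ext0 o sI sub u v w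
  obtain ⟨e, e1, e2⟩ := h f a' fun l x y => by
    by_cases q : S' l
    · rw [v l q]; exact c l x q
    · exact w l y q (a'.cbm o l x y)
  refine ⟨_, e1.trunc o sI sub u v w, fun l x y => ?_⟩
  rw [← v l y]
  convert add_mem (e2 l x (sub l y)) (e1.trunc_cb o sI sub u v w l x (sub l y)) using 1; abel

end supp

section split
variable (o : Ok H S U V) (sI : ∀ h ∈ H, ∀ l, S' l → S' (ac h l)) (sub : ∀ l, S' l → S l)
  (lo : ∀ l' l, l'.Sublist l → S' l' → S l → S' l)
include o sI sub lo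

open Classical in
theorem Ok.mid : Ok H S (fun l => if S' l then U l else V l) V ∧
    Ok H S U (fun l => if S' l then U l else V l) := by
  have i : ∀ h ∈ H, ∀ l, S' (ac h l) ↔ S' l := fun h hh l =>
    ⟨fun t => by simpa using sI _ (inv_mem hh) _ t, sI h hh l⟩
  have h1 : ∀ h ∈ H, ∀ l, S l → ∀ u ∈ (if S' l then U l else V l),
      h • u ∈ if S' (ac h l) then U (ac h l) else V (ac h l) := fun h hh l s => by
    simp only [i h hh]
    split_ifs
    exacts [o.uI h hh l s, o.vI h hh l s]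
  have h2 : ∀ l' l : List X, l'.Sublist l → S l' → S l →
      (if S' l' then U l' else V l') ≤ if S' l then U l else V l := fun l' l a b c => by
    split_ifs with x y y
    exacts [o.uM _ _ a b c, absurd (lo _ _ a x c) y, (o.vM _ _ a b c).trans (o.le l c), o.vM _ _ a b c]
  have h3 : ∀ l, S l → V l ≤ if S' l then U l else V l := fun l s => by
    split_ifs
    exacts [o.le l s, le_rfl]
  have h4 : ∀ l, S l → (if S' l then U l else V l) ≤ U l := fun l s => by
    split_ifs
    exacts [le_rfl, o.le l s]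
  exact ⟨⟨o.sI, o.cv, h1, o.vI, h2, o.vM, h3, fun h hh l s e u hu => o.tr h hh l s e u (h4 l s hu)⟩,
    ⟨o.sI, o.cv, o.uI, h1, o.uM, h2, h4, fun h hh l s e u hu => h3 l s (o.tr h hh l s e u hu)⟩⟩

theorem sI_diff : ∀ h ∈ H, ∀ l, S l ∧ ¬ S' l → S (ac h l) ∧ ¬ S' (ac h l) := fun h hh l s =>
  ⟨o.sI h hh l s.1, fun t => s.2 (by simpa using sI _ (inv_mem hh) _ t)⟩

theorem sp_mid (h' : Van H S' U V n) (h'' : Van H (fun l => S l ∧ ¬ S' l) U V n) :
    Van H S U V n := by
  obtain ⟨o1, o2⟩ := o.mid sI sub lo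
  exact ses_mid o o1 o2 (h'.of_sub o1 sI sub (fun l s => if_pos s) (fun _ _ => rfl)
    fun l _ s => (if_neg s).le) (h''.of_sub o2 (sI_diff o sI sub lo) (fun _ s => s.1)
      (fun _ _ => rfl) (fun l s => if_neg s.2) fun l s t => (if_pos (by tauto)).ge)

theorem sp_quo (h : Van H S U V n) (h' : Van H S' U V (n + 1)) :
    Van H (fun l => S l ∧ ¬ S' l) U V n := by
  obtain ⟨o1, o2⟩ := o.mid sI sub lo
  exact (ses_quo o o1 o2 h (h'.of_sub o1 sI sub (fun l s => if_pos s) (fun _ _ => rfl)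
    fun l _ s => (if_neg s).le)).to_sub o2 (sI_diff o sI sub lo) (fun _ s => s.1)
      (fun _ _ => rfl) (fun l s => if_neg s.2) fun l s t => (if_pos (by tauto)).ge

theorem sp_sub (h : Van H S U V (n + 1)) (h'' : Van H (fun l => S l ∧ ¬ S' l) U V n) :
    Van H S' U V (n + 1) := by
  obtain ⟨o1, o2⟩ := o.mid sI sub lo
  exact (ses_sub o o1 o2 h (h''.of_sub o2 (sI_diff o sI sub lo) (fun _ s => s.1)
      (fun _ _ => rfl) (fun l s => if_neg s.2) fun l s t => (if_pos (by tauto)).ge)).to_sub o1 sI sub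
    (fun l s => if_pos s) (fun _ _ => rfl) fun l _ s => (if_neg s).le

end split

theorem Ok.restrict (o : Ok H S U V) {H' : Subgroup G} (le : H' ≤ H) (sub : ∀ l, S' l → S l)
    (sI : ∀ h ∈ H', ∀ l, S' l → S' (ac h l))
    (cv : ∀ l₁ l₂ l₃, l₁.Sublist l₂ → l₂.Sublist l₃ → S' l₁ → S' l₃ → S l₂ → S' l₂) :
    Ok H' S' U V :=
  ⟨sI, fun _ _ _ a b c d => cv _ _ _ a b c d (o.cv _ _ _ a b (sub _ c) (sub _ d)),
    fun h hh l s => o.uI h (le hh) l (sub l s), fun h hh l s => o.vI h (le hh) l (sub l s),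
    fun _ _ a b c => o.uM _ _ a (sub _ b) (sub _ c), fun _ _ a b c => o.vM _ _ a (sub _ b) (sub _ c),
    fun l s => o.le l (sub l s), fun h hh l s => o.tr h (le hh) l (sub l s)⟩

theorem Van.congr (o : Ok H S U V) (s : ∀ l, S' l ↔ S l) (u : ∀ l, S l → U l = U' l)
    (v : ∀ l, S l → V l = V' l) (h : Van H S' U' V' n) : Van H S U V n :=
  h.of_sub o (fun h hh l t => (s _).2 (o.sI h hh l ((s l).1 t))) (fun l => (s l).1)
    (fun l t => u l ((s l).1 t)) (fun l t => v l ((s l).1 t)) fun l a b => absurd ((s l).2 a) b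

theorem van_empty (h : ∀ l, ¬ S l) : Van H S U V n := fun _ _ _ =>
  ⟨fun _ => 0, ⟨fun _ _ _ => rfl, fun l _ y => absurd y (h l), fun l _ y => absurd y (h l)⟩,
    fun l _ y => absurd y (h l)⟩

theorem filt (o : Ok H S U V) (φ : List X → ℕ) (B : ℕ) (b : ∀ l, S l → φ l < B)
    (i : ∀ h ∈ H, ∀ l, S l → φ (ac h l) = φ l)
    (m : ∀ l' l, l'.Sublist l → S l' → S l → φ l ≤ φ l')
    (h : ∀ c, Van H (fun l => S l ∧ φ l = c) U V n) : Van H S U V n := by
  have ok : ∀ c, Ok H (fun l => S l ∧ φ l < c) U V := fun c => o.restrict le_rfl (fun _ s => s.1)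
    (fun h hh l s => ⟨o.sI h hh l s.1, by rw [i h hh l s.1]; exact s.2⟩)
    fun _ _ _ x _ y _ z => ⟨z, (m _ _ x y.1 z).trans_lt y.2⟩
  have : ∀ c, Van H (fun l => S l ∧ φ l < c) U V n := fun c => by
    induction c with
    | zero => exact van_empty fun l s => absurd s.2 (Nat.not_lt_zero _)
    | succ c ih =>
      refine sp_mid (ok _) (ok c).sI (fun l s => ⟨s.1, by omega⟩)
        (fun l' l x y z => ⟨z.1, (m _ _ x y.1 z.1).trans_lt y.2⟩) ih ?_
      convert h c using 2 with l
      exact ⟨fun s => ⟨s.1.1, by have := s.1.2; have := not_and.1 s.2 s.1.1; omega⟩,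
        fun s => ⟨⟨s.1, by omega⟩, fun t => by have := t.2; have := s.2; omega⟩⟩
  convert this B using 2 with l
  exact ⟨fun s => ⟨s, b l s⟩, fun s => s.1⟩

theorem layer (o : Ok H S U V) (j : List X → Subgroup G)
    (i : ∀ h ∈ H, ∀ l, S l → j (ac h l) = cj h (j l))
    (m : ∀ l' l, l'.Sublist l → S l' → S l → j l' = j l)
    (h : ∀ Y : Subgroup G, Van (H ⊓ normalizer (Y : Set G)) (fun l => S l ∧ j l = Y) U V n) :
    Van H S U V n := fun f a c => by
  have ex : ∀ Y : Subgroup G, ∃ e, Ch (H ⊓ normalizer (Y : Set G)) (fun l => S l ∧ j l = Y) U V n e ∧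
      ∀ l, l.length = n + 1 → S l ∧ j l = Y → f l - cb e l ∈ V l := fun Y => by
    obtain ⟨e, e1, e2⟩ := h Y (tc (fun l => S l ∧ j l = Y) f) ⟨fun l _ y => tc_neg y,
      fun l x y => by rw [tc_pos y]; exact a.m l x y.1, fun l x y h hh => by
        rw [tc_pos (l := l) y, tc_pos (S := fun l => S l ∧ j l = Y) ⟨o.sI h hh.1 l y.1, by
          rw [i h hh.1 l y.1, y.2, cj_eq_of_mem_normalizer hh.2]⟩]
        exact a.e l x y.1 h hh.1⟩ fun l x y => by
      convert c l x y.1 using 1
      refine cb_congr fun l' s t => ?_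
      by_cases q : S l'
      · exact tc_pos ⟨q, (m _ _ s q y.1).trans y.2⟩
      · rw [tc_neg fun z => q z.1, a.z l' (by omega) q]
    exact ⟨e, e1, fun l x y => by
      have := e2 l x y
      rwa [tc_pos (S := fun l => S l ∧ j l = Y) y] at this⟩
  choose e e1 e2 using ex
  let rep : Subgroup G → Subgroup G := fun Y => Classical.epsilon fun r => ∃ h ∈ H, cj h r = Y
  have hr : ∀ Y, ∃ h ∈ H, cj h (rep Y) = Y := fun Y =>
    Classical.epsilon_spec (p := fun r => ∃ h ∈ H, cj h r = Y) ⟨Y, 1, one_mem _, cj_one Y⟩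
  choose k kH hk using hr
  have rr : ∀ h ∈ H, ∀ Y, rep (cj h Y) = rep Y := fun h hh Y => by
    simp only [rep]
    congr 1
    ext r
    exact ⟨fun ⟨x, a, b⟩ => ⟨h⁻¹ * x, mul_mem (inv_mem hh) a, by rw [cj_mul, b, cj_inv_cj]⟩,
      fun ⟨x, a, b⟩ => ⟨h * x, mul_mem hh a, by rw [cj_mul, b]⟩⟩
  have s0 : ∀ l, S l → S (ac (k (j l))⁻¹ l) ∧ j (ac (k (j l))⁻¹ l) = rep (j l) := fun l s =>
    ⟨o.sI _ (inv_mem (kH _)) l s, by
      rw [i _ (inv_mem (kH _)) l s, cj_eq_iff, inv_inv, hk]⟩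
  refine ⟨tc S fun l => k (j l) • e (rep (j l)) (ac (k (j l))⁻¹ l), ⟨fun l _ y => tc_neg y,
    fun l x y => ?_, fun l x y h hh => ?_⟩, fun l x y => ?_⟩
  · rw [tc_pos y]
    simpa using o.uI _ (kH (j l)) _ (s0 l y).1 _ ((e1 _).m _ (by rw [ac_len, x]) (s0 l y))
  · rw [tc_pos y, tc_pos (o.sI h hh l y), i h hh l y, rr h hh]
    set g' := k (cj h (j l))
    have g1 : g' ∈ H := kH _
    have m1 : g'⁻¹ * h * k (j l) ∈ H := mul_mem (mul_mem (inv_mem g1) hh) (kH _)
    have := o.vI g' g1 _ (o.sI _ m1 _ (s0 l y).1) _ ((e1 _).e _ (by rw [ac_len, x]) (s0 l y) _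
      ⟨m1, mem_normalizer_iff_cj.2 (by
        rw [cj_mul, cj_mul, hk, cj_eq_iff, inv_inv, ← rr h hh (j l), hk])⟩)
    simpa [ac_ac, smul_sub, mul_smul, mul_assoc] using this
  · have t : cb (tc S fun l => k (j l) • e (rep (j l)) (ac (k (j l))⁻¹ l)) l =
        k (j l) • cb (e (rep (j l))) (ac (k (j l))⁻¹ l) := by
      rw [cb_ac, cb_smul]
      refine cb_congr fun l' s t => ?_
      by_cases q : S l'
      · rw [tc_pos q, m _ _ s q y]
      · rw [tc_neg q, (e1 _).z _ (by rw [ac_len]; omega) fun z => q (o.sI' (inv_mem (kH _)) z.1),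
          smul_zero]
    have t1 := a.e _ (by rw [ac_len, x]) (s0 l y).1 _ (kH (j l))
    have t2 := o.vI _ (kH (j l)) _ (s0 l y).1 _ (e2 _ _ (by rw [ac_len, x]) (s0 l y))
    rw [ac_inv] at t1 t2
    rw [t]
    convert add_mem t1 t2 using 1
    rw [smul_sub]; abel

theorem filt_layer (o : Ok H S U V) (j : List X → Subgroup G) (φ : Subgroup G → ℕ) (B : ℕ)
    (b : ∀ Y, φ Y < B) (iφ : ∀ h ∈ H, ∀ Y, φ (cj h Y) = φ Y)
    (i : ∀ h ∈ H, ∀ l, S l → j (ac h l) = cj h (j l))
    (m : ∀ l' l, l'.Sublist l → S l' → S l → j l' = j l ∨ φ (j l) < φ (j l'))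
    (h : ∀ Y : Subgroup G, Van (H ⊓ normalizer (Y : Set G)) (fun l => S l ∧ j l = Y) U V n) :
    Van H S U V n := by
  have i' : ∀ h ∈ H, ∀ l, S l → φ (j (ac h l)) = φ (j l) := fun h hh l s => by rw [i h hh l s, iφ h hh]
  have m' : ∀ l' l : List X, l'.Sublist l → S l' → S l → φ (j l) ≤ φ (j l') := fun l' l x y z => by
    rcases m l' l x y z with e | e
    exacts [e ▸ le_rfl, e.le]
  refine filt o (fun l => φ (j l)) B (fun l _ => b _) i' m' fun c => layer (o.restrict le_rfl
    (fun _ s => s.1) (fun h hh l s => ⟨o.sI h hh l s.1, (i' h hh l s.1).trans s.2⟩)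
    fun _ _ _ x x' y y' z => ⟨z, le_antisymm (y.2 ▸ m' _ _ x y.1 z) (y'.2 ▸ m' _ _ x' z y'.1)⟩) j
    (fun h hh l s => i h hh l s.1) (fun l' l x y z => (m l' l x y.1 z.1).resolve_right (by
      rw [y.2, z.2]; exact lt_irrefl _)) fun Y => ?_
  by_cases q : φ Y = c
  · convert h Y using 2 with l
    exact ⟨fun s => ⟨s.1.1, s.2⟩, fun s => ⟨⟨s.1, s.2 ▸ q⟩, s.2⟩⟩
  · exact van_empty fun l s => q (s.2 ▸ s.1.2)

/-- transport along a correspondence of coefficient systems -/
theorem Van.rel {G' D' : Type*} [Group G'] [MulAction G' X] [AddCommGroup D'] [DistribMulAction G' D']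
    {H' : Subgroup G'} {U₁ V₁ : List X → AddSubgroup D'} (o : Ok H S U V) (o' : Ok H' S U₁ V₁)
    (π : G → G') (π1 : ∀ h ∈ H, π h ∈ H') (π2 : ∀ h' ∈ H', ∃ h ∈ H, π h = h')
    (π3 : ∀ h ∈ H, ∀ l : List X, ac (π h) l = ac h l) (R : List X → AddSubgroup (D × D'))
    (rM : ∀ l' l, l'.Sublist l → S l' → S l → R l' ≤ R l)
    (rI : ∀ h ∈ H, ∀ l, S l → ∀ u u', (u, u') ∈ R l → (h • u, π h • u') ∈ R (ac h l))
    (r1 : ∀ l, S l → ∀ u ∈ U l, ∃ u' ∈ U₁ l, (u, u') ∈ R l)
    (r2 : ∀ l, S l → ∀ u' ∈ U₁ l, ∃ u ∈ U l, (u, u') ∈ R l)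
    (r3 : ∀ l, S l → ∀ u ∈ U l, ∀ u' ∈ U₁ l, (u, u') ∈ R l → (u ∈ V l ↔ u' ∈ V₁ l))
    (h : Van H' S U₁ V₁ n) : Van H S U V n := fun f a c => by
  have key : ∀ (m : ℕ) (f : List X → D) (f' : List X → D'), (∀ l, l.length = m → ¬ S l → f l = 0) →
      (∀ l, l.length = m → ¬ S l → f' l = 0) → (∀ l, l.length = m → S l → (f l, f' l) ∈ R l) →
      ∀ l, l.length = m + 1 → S l → (cb f l, cb f' l) ∈ R l := fun m f f' z z' r l x y => by
    rw [← cb_prod]
    exact cb_mem' (fun l' s q => rM l' l s q y)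
      (fun l' s q => by rw [z l' (by omega) q, z' l' (by omega) q]; rfl) fun l' s => r l' (by omega)
  have eqv : ∀ (m : ℕ) (f : List X → D) (f' : List X → D'), (∀ l, l.length = m → S l → f l ∈ U l) →
      (∀ l, l.length = m → S l → f' l ∈ U₁ l) → (∀ l, l.length = m → S l → (f l, f' l) ∈ R l) →
      ∀ l, l.length = m → S l → ∀ h ∈ H,
        (f (ac h l) - h • f l ∈ V (ac h l) ↔ f' (ac h l) - π h • f' l ∈ V₁ (ac h l)) :=
    fun m f f' u u' r l x y h hh => by
      have y' := o.sI h hh l y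
      have x' : (ac h l).length = m := by rw [ac_len, x]
      exact r3 _ y' _ (sub_mem (u _ x' y') (o.uI h hh l y _ (u l x y))) _ (sub_mem (u' _ x' y')
        (π3 h hh l ▸ o'.uI _ (π1 h hh) l y _ (u' l x y)))
        (sub_mem (r _ x' y') (rI h hh l y _ _ (r l x y)))
  have ex : ∀ l, ∃ u', (l.length = n + 1 → ¬ S l → u' = 0) ∧
      (l.length = n + 1 → S l → u' ∈ U₁ l ∧ (f l, u') ∈ R l) := fun l => by
    by_cases q : l.length = n + 1 ∧ S l
    · obtain ⟨u', x, y⟩ := r1 l q.2 _ (a.m l q.1 q.2)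
      exact ⟨u', fun _ z => absurd q.2 z, fun _ _ => ⟨x, y⟩⟩
    · exact ⟨0, fun _ _ => rfl, fun x y => absurd ⟨x, y⟩ q⟩
  choose f' z' m' using ex
  have a' : Ch H' S U₁ V₁ (n + 1) f' := ⟨z', fun l x y => (m' l x y).1, fun l x y h' hh' => by
    obtain ⟨h, hh, rfl⟩ := π2 h' hh'
    rw [π3 h hh]
    exact (eqv _ f f' a.m (fun l x y => (m' l x y).1) (fun l x y => (m' l x y).2) l x y h hh).1
      (a.e l x y h hh)⟩
  obtain ⟨e', e1, e2⟩ := h f' a' fun l x y => (r3 l y _ (a.cbm o l x y) _ (a'.cbm o' l x y)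
    (key _ f f' a.z z' (fun l x y => (m' l x y).2) l x y)).1 (c l x y)
  have ex : ∀ l, ∃ u, (l.length = n → ¬ S l → u = 0) ∧
      (l.length = n → S l → u ∈ U l ∧ (u, e' l) ∈ R l) := fun l => by
    by_cases q : l.length = n ∧ S l
    · obtain ⟨u', x, y⟩ := r2 l q.2 _ (e1.m l q.1 q.2)
      exact ⟨u', fun _ z => absurd q.2 z, fun _ _ => ⟨x, y⟩⟩
    · exact ⟨0, fun _ _ => rfl, fun x y => absurd ⟨x, y⟩ q⟩
  choose e z m using ex
  have b : Ch H S U V n e := ⟨z, fun l x y => (m l x y).1, fun l x y h hh =>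
    (eqv _ e e' (fun l x y => (m l x y).1) e1.m (fun l x y => (m l x y).2) l x y h hh).2
      (π3 h hh l ▸ e1.e l x y _ (π1 h hh))⟩
  exact ⟨e, b, fun l x y => (r3 l y _ (sub_mem (a.m l x y) (b.cbm o l x y)) _
    (sub_mem (a'.m l x y) (e1.cbm o' l x y)) (sub_mem (m' l x y).2
      (key _ e e' z e1.z (fun l x y => (m l x y).2) l x y))).2 (e2 l x y)⟩

end CF.Ex.M
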