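/-
Control of fixed points (norm arguments): offenders, good offenders, orbit sums, averaging.
-/
import Cfsg.Agent.Transfer.Alperin
import Mathlib.Algebra.BigOperators.Intervals
import Mathlib.Data.Set.Card
import Mathlib.FieldTheory.Finite.Basic

set_option autoImplicit false
set_option linter.unusedSectionVars false

namespace CF.Ex.T
open Subgroup CF.Transfer

variable {G D : Type*} [Group G] [AddCommGroup D] [DistribMulAction G D] {p : ℕ}

/-- fixed points of `A` on `D` -/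
def Fx (D : Type*) [AddCommGroup D] [DistribMulAction G D] (A : Subgroup G) : AddSubgroup D where
  carrier := {d | ∀ a ∈ A, a • d = d}
  add_mem' := fun h k a ha => by rw [smul_add, h a ha, k a ha]
  zero_mem' := fun a _ => smul_zero a
  neg_mem' := fun h a ha => by rw [smul_neg, h a ha]

theorem mem_Fx {A : Subgroup G} {d : D} : d ∈ Fx D A ↔ ∀ a ∈ A, a • d = d := Iff.rfl

/-- nontrivial abelian offender -/
def Ofd (D : Type*) [AddCommGroup D] [DistribMulAction G D] (A : Subgroup G) : Prop :=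
  A ≠ ⊥ ∧ (∀ a ∈ A, ∀ b ∈ A, a * b = b * a) ∧ Nat.card D ≤ Nat.card A * Nat.card (Fx D A)

/-- `P` contains a nontrivial offender -/
def Off (D : Type*) [AddCommGroup D] [DistribMulAction G D] (P : Subgroup G) : Prop :=
  ∃ A ≤ P, Ofd D A

/-- offender with vanishing norms -/
def Good (p : ℕ) (D : Type*) [AddCommGroup D] [DistribMulAction G D] (A : Subgroup G) : Prop :=
  Ofd D A ∧ ∀ y : D, p • y = 0 → ∀ a ∈ A, (∀ x ∈ A, ∃ i : ℕ, x • y = a ^ i • y) → a ^ p • y = y →
    ∑ i ∈ Finset.range p, a ^ i • y = 0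

/-- transvection with centre `u` -/
def Tv (a : G) (u : D) : Prop := (∃ v : D, a • v ≠ v) ∧ ∀ v : D, a • v = v ∨ a • v = v + u

theorem Off.mono {P Q : Subgroup G} (h : Off D P) (le : P ≤ Q) : Off D Q :=
  let ⟨A, a, b⟩ := h; ⟨A, a.trans le, b⟩

theorem card_Fx_cj (g : G) (A : Subgroup G) : Nat.card (Fx D (cj g A)) = Nat.card (Fx D A) := by
  refine Nat.card_congr ⟨fun d => ⟨g⁻¹ • d.1, fun a ha => ?_⟩, fun d => ⟨g • d.1, fun a ha => ?_⟩,
    fun d => by simp, fun d => by simp⟩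
  · have := d.2 _ (conj_mem_cj (g := g) ha)
    rw [mul_smul, mul_smul, smul_eq_iff_eq_inv_smul] at this; exact this
  · have := d.2 _ (mem_cj.1 ha)
    rw [mul_smul, mul_smul, inv_smul_eq_iff] at this; exact this

theorem Ofd.cj {A : Subgroup G} (h : Ofd D A) (g : G) : Ofd D (cj g A) := by
  refine ⟨by simpa using h.1, fun a ha b hb => ?_, by rw [card_cj, card_Fx_cj]; exact h.2.2⟩
  have := h.2.1 _ (mem_cj.1 ha) _ (mem_cj.1 hb)
  have e : a * b = g * (g⁻¹ * a * g * (g⁻¹ * b * g)) * g⁻¹ := by group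
  rw [e, this]; group

theorem Off.cj {P : Subgroup G} (h : Off D P) (g : G) : Off D (cj g P) :=
  let ⟨A, a, b⟩ := h; ⟨_, cj_mono g a, b.cj g⟩

theorem Good.cj {A : Subgroup G} (h : Good p D A) (g : G) : Good p D (cj g A) := by
  refine ⟨h.1.cj g, fun y hy a ha h1 h2 => ?_⟩
  have e : ∀ i : ℕ, (g⁻¹ * a * g) ^ i • g⁻¹ • y = g⁻¹ • a ^ i • y := fun i => by
    have : (g⁻¹ * a * g) ^ i = g⁻¹ * a ^ i * g := by simpa using conj_pow (a := g⁻¹) (b := a) (i := i)
    rw [this, mul_smul, mul_smul, smul_inv_smul]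
  have := h.2 (g⁻¹ • y) (by rw [← smul_comm, hy, smul_zero]) _ (mem_cj.1 ha)
    (fun x hx => by
      obtain ⟨i, hi⟩ := h1 _ (conj_mem_cj (g := g) hx)
      refine ⟨i, ?_⟩
      rw [e, ← hi, mul_smul, mul_smul, inv_smul_smul]) (by rw [e, h2])
  simp only [e] at this
  rw [← Finset.smul_sum] at this
  simpa using congrArg (g • ·) this

section fin
variable [Finite G] [Finite D] [hp : Fact p.Prime]

theorem max_sub {W B : Subgroup G} (hW : IsPGroup p W) (le : B ≤ W) (ne : ¬ W ≤ B) :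
    ∃ M, B ≤ M ∧ M ≤ W ∧ ¬ W ≤ M ∧ (∀ g ∈ W, ∀ m ∈ M, g⁻¹ * m * g ∈ M) ∧ ∀ a ∈ W, a ∉ M →
      a ^ p ∈ M ∧ (∀ n : ℕ, a ^ n ∈ M → p ∣ n) ∧ ∀ g ∈ W, ∃ i : ℕ, ∃ m ∈ M, g = a ^ i * m := by
  obtain ⟨M, ⟨h1, h2⟩, mx⟩ := Set.Finite.exists_maximal (Set.toFinite {M : Subgroup G | B ≤ M ∧ M < W})
    ⟨B, le_rfl, lt_of_le_not_ge le ne⟩
  have mx' : ∀ K, M < K → K ≤ W → W ≤ K := fun K a b => by
    by_contra c
    exact a.not_ge (mx ⟨h1.trans a.le, lt_of_le_not_ge b c⟩ a.le)
  have nm : W ≤ normalizer (M : Set G) := fun g hg =>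
    (mx' _ (lt_inf_normalizer_of_lt hW h2) inf_le_left hg).2
  have : (M.subgroupOf W).Normal := normal_subgroupOf_of_le_normalizer nm
  let π := QuotientGroup.mk' (M.subgroupOf W)
  have k : ∀ x : W, π x = 1 ↔ (x : G) ∈ M := fun x => by
    simp [π, QuotientGroup.eq_one_iff, mem_subgroupOf]
  have gen : ∀ a : W, π a ≠ 1 → ∀ g : W, π g ∈ zpowers (π a) := fun a ha g => by
    have := mx' (((zpowers (π a)).comap π).map W.subtype) (lt_of_le_of_ne (fun m hm =>
      ⟨⟨m, h2.le hm⟩, by simp [(k ⟨m, h2.le hm⟩).2 hm], rfl⟩) fun e => ha ((k a).2 (by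
        rw [e]; exact ⟨a, by simp, rfl⟩))) (map_subtype_le _) g.2
    obtain ⟨y, hy, e⟩ := this
    rwa [show y = g from Subtype.ext e] at hy
  refine ⟨M, h1, h2.le, h2.not_ge, fun g hg m hm => inv_conj_mem_of_mem_normalizer (nm hg) hm,
    fun a ha na => ?_⟩
  have a1 : π ⟨a, ha⟩ ≠ 1 := fun e => na ((k _).1 e)
  have ap : π ⟨a, ha⟩ ^ p = 1 := by
    by_contra c
    have h3 := gen (⟨a, ha⟩ ^ p) (by rwa [map_pow]) ⟨a, ha⟩
    rw [map_pow] at h3
    obtain ⟨n, hn⟩ := IsPGroup.iff_orderOf.1 (hW.to_quotient (M.subgroupOf W)) (π ⟨a, ha⟩)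
    have d := orderOf_dvd_of_mem_zpowers h3
    rw [orderOf_pow, hn] at d
    rcases n with _ | n
    · exact a1 (orderOf_eq_one_iff.1 (by simpa using hn))
    · rw [Nat.gcd_eq_right (dvd_pow_self p (by omega)), pow_succ,
        Nat.mul_div_cancel _ hp.out.pos] at d
      have := Nat.le_of_dvd (pow_pos hp.out.pos n) d
      have := hp.out.one_lt
      have := pow_pos hp.out.pos n
      nlinarith
  have o : orderOf (π ⟨a, ha⟩) = p := orderOf_eq_prime ap a1
  refine ⟨(k (⟨a, ha⟩ ^ p)).1 (by rw [map_pow, ap]), fun n hn => ?_, fun g hg => ?_⟩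
  · rw [← o]
    exact orderOf_dvd_of_pow_eq_one (by rw [← map_pow]; exact (k _).2 hn)
  · obtain ⟨i, hi⟩ := mem_powers_iff_mem_zpowers.2 (gen _ a1 ⟨g, hg⟩)
    refine ⟨i, (a ^ i)⁻¹ * g, (k ((⟨a, ha⟩ ^ i)⁻¹ * ⟨g, hg⟩)).1 ?_, by group⟩
    simp only at hi
    rw [map_mul, map_inv, map_pow, hi, inv_mul_cancel]

/-- the orbit of `w` under `W` -/
noncomputable def orb (W : Subgroup G) (w : D) : Finset D :=
  (Set.toFinite {y | ∃ g ∈ W, g • w = y}).toFinset

theorem mem_orb {W : Subgroup G} {w y : D} : y ∈ orb W w ↔ ∃ g ∈ W, g • w = y := by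
  simp [orb]

theorem orb_fix {W : Subgroup G} {w : D} {g : G} (hg : g ∈ W) :
    g • ∑ y ∈ orb W w, y = ∑ y ∈ orb W w, y := by
  rw [Finset.smul_sum]
  refine Finset.sum_nbij' (g • ·) (g⁻¹ • ·) (fun y hy => ?_) (fun y hy => ?_) (by simp) (by simp)
    (by simp)
  · obtain ⟨h, a, rfl⟩ := mem_orb.1 hy
    exact mem_orb.2 ⟨g * h, mul_mem hg a, mul_smul _ _ _⟩
  · obtain ⟨h, a, rfl⟩ := mem_orb.1 hy
    exact mem_orb.2 ⟨g⁻¹ * h, mul_mem (inv_mem hg) a, mul_smul _ _ _⟩

/-- orbit sums of a `p`-group generated by good offenders vanish -/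
theorem orb_sum {W : Subgroup G} (hW : IsPGroup p W)
    (gen : ∀ M, ¬ W ≤ M → ∃ A ≤ W, Good p D A ∧ ¬ A ≤ M) {w : D} (hw : p • w = 0)
    (mv : ∃ g ∈ W, g • w ≠ w) : ∑ y ∈ orb W w, y = 0 := by
  obtain ⟨M, h1, h2, h3, nm, h4⟩ := max_sub hW (inf_le_left (b := MulAction.stabilizer G w))
    (fun c => let ⟨g, a, b⟩ := mv; b (c a).2)
  obtain ⟨A, le, gd, nl⟩ := gen M h3
  obtain ⟨a, ha, na⟩ := SetLike.not_le_iff_exists.1 nl
  obtain ⟨k1, k2, k3⟩ := h4 a (le ha) na
  have e : ∑ y ∈ orb W w, y = ∑ i ∈ Finset.range p, a ^ i • ∑ y ∈ orb M w, y := by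
    simp only [Finset.smul_sum]
    rw [← Finset.sum_product']
    symm
    refine Finset.sum_nbij (fun x => a ^ x.1 • x.2) (fun x hx => ?_) ?_ (fun y hy => ?_) (by simp)
    · obtain ⟨m, b, c⟩ := mem_orb.1 (Finset.mem_product.1 hx).2
      exact mem_orb.2 ⟨a ^ x.1 * m, mul_mem (pow_mem (le ha) _) (h2 b), by rw [mul_smul, c]⟩
    · have key : ∀ i j : ℕ, i ≤ j → j < p → ∀ y ∈ orb M w, ∀ y' ∈ orb M w, a ^ i • y = a ^ j • y' →
          i = j := fun i j ij jp y hy y' hy' e => by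
        obtain ⟨m, b, rfl⟩ := mem_orb.1 hy
        obtain ⟨m', b', rfl⟩ := mem_orb.1 hy'
        obtain ⟨n, rfl⟩ := Nat.exists_eq_add_of_le ij
        rw [pow_add, mul_smul, smul_left_cancel_iff] at e
        have : m⁻¹ * a ^ n * m' ∈ M := h1 (mem_inf.2 ⟨mul_mem (mul_mem (inv_mem (h2 b))
          (pow_mem (le ha) _)) (h2 b'), by
            rw [MulAction.mem_stabilizer_iff, mul_smul, mul_smul, ← e, inv_smul_smul]⟩)
        have := k2 n (by simpa [mul_assoc] using mul_mem (mul_mem b this) (inv_mem b'))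
        have := Nat.eq_zero_of_dvd_of_lt this (by omega)
        omega
      rintro ⟨i, y⟩ hx ⟨j, y'⟩ hx' e
      simp only [Finset.coe_product, Set.mem_prod, Finset.coe_range, Set.mem_Iio,
        Finset.mem_coe] at hx hx' e
      have : i = j := by
        rcases le_total i j with c | c
        · exact key i j c hx'.1 y hx.2 y' hx'.2 e
        · exact (key j i c hx.1 y' hx'.2 y hx.2 e.symm).symm
      subst this
      rw [smul_left_cancel_iff] at e
      rw [e]
    · obtain ⟨g, b, rfl⟩ := mem_orb.1 hy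
      obtain ⟨i, m, c, rfl⟩ := k3 g b
      refine ⟨(i % p, ((a ^ p) ^ (i / p) * m) • w), ?_, ?_⟩
      · simp only [Finset.coe_product, Set.mem_prod, Finset.coe_range, Set.mem_Iio, Finset.mem_coe]
        exact ⟨Nat.mod_lt _ hp.out.pos, mem_orb.2 ⟨_, mul_mem (pow_mem k1 _) c, rfl⟩⟩
      · simp only
        rw [← mul_smul, ← mul_assoc, ← pow_mul, ← pow_add, Nat.mod_add_div]
  rw [e]
  refine gd.2 _ ?_ a ha (fun x hx => ?_) (orb_fix k1)
  · rw [Finset.smul_sum]
    refine Finset.sum_eq_zero fun y hy => ?_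
    obtain ⟨m, -, rfl⟩ := mem_orb.1 hy
    rw [← smul_comm, hw, smul_zero]
  · obtain ⟨i, m, c, rfl⟩ := k3 x (le hx)
    exact ⟨i, by rw [mul_smul, orb_fix c]⟩

theorem sum_orbs {W : Subgroup G} (Z : Finset D) (inv : ∀ g ∈ W, ∀ y ∈ Z, g • y ∈ Z)
    (h : ∀ y ∈ Z, ∑ x ∈ orb W y, x = 0) : ∑ y ∈ Z, y = 0 := by
  classical
  induction Z using Finset.strongInduction with
  | H Z ih =>
    rcases Z.eq_empty_or_nonempty with rfl | ⟨w, hw⟩
    · simp
    have sub : orb W w ⊆ Z := fun y hy => by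
      obtain ⟨g, a, rfl⟩ := mem_orb.1 hy; exact inv g a w hw
    rw [← Finset.sum_sdiff sub, h w hw, add_zero]
    refine ih _ (Finset.sdiff_ssubset sub ⟨w, mem_orb.2 ⟨1, one_mem _, one_smul _ _⟩⟩)
      (fun g hg y hy => ?_) fun y hy => h y (Finset.mem_sdiff.1 hy).1
    rw [Finset.mem_sdiff] at hy ⊢
    refine ⟨inv g hg y hy.1, fun c => hy.2 ?_⟩
    obtain ⟨k, a, b⟩ := mem_orb.1 c
    exact mem_orb.2 ⟨g⁻¹ * k, mul_mem (inv_mem hg) a, by rw [mul_smul, b, inv_smul_smul]⟩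

/-- the norm argument -/
theorem norm_arg {H T W : Subgroup G} (hT : IsSylowIn p T H) (le : W ≤ T)
    (wc : ∀ g ∈ H, cj g W ≤ T → cj g W = W) {v : D}
    (hv : ∀ g ∈ H, cj g W = W → g • v = v)
    (os : ∀ g ∈ H, (∃ x ∈ W, x • g • v ≠ g • v) → ∑ y ∈ orb W (g • v), y = 0) :
    ∀ g ∈ H, g • v = v := by
  classical
  have fx : ∀ g ∈ H, (∀ x ∈ W, x • g • v = g • v) → g • v = v := fun g hg h => by
    have s : IsSylowIn p T (H ⊓ MulAction.stabilizer G v) := hT.of_le (fun t ht => ⟨hT.le ht,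
      hv t (hT.le ht) (wc t (hT.le ht) (cj_le_of_le_of_mem le ht))⟩) inf_le_left
    obtain ⟨k, hk, c⟩ := s.exists_cj_le (isPGroup_cj (hT.isPGroup.to_le le) g⁻¹) (fun x hx => by
      have := mem_cj_inv.1 hx
      refine mem_inf.2 ⟨?_, ?_⟩
      · simpa [mul_assoc] using mul_mem (mul_mem (inv_mem hg) (hT.le (le this))) hg
      have := h _ this
      rw [mul_smul, mul_smul, inv_smul_smul, smul_left_cancel_iff] at this
      exact this)
    rw [cj_cj] at c
    have m := mul_mem (mem_inf.1 hk).1 (inv_mem hg)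
    have := hv _ m (wc _ m c)
    rw [mul_smul, smul_eq_iff_eq_inv_smul,
      show k⁻¹ • v = v from inv_mem (mem_inf.1 hk).2, inv_smul_eq_iff] at this
    exact this.symm
  have vm : v ∈ orb H v := mem_orb.2 ⟨1, one_mem _, one_smul _ _⟩
  have z : ∑ y ∈ (orb H v).erase v, y = 0 := by
    refine sum_orbs (W := W) _ (fun x hx y hy => ?_) fun y hy => ?_
    · rw [Finset.mem_erase] at hy ⊢
      obtain ⟨g, a, rfl⟩ := mem_orb.1 hy.2
      refine ⟨fun c => hy.1 ?_, mem_orb.2 ⟨x * g, mul_mem (hT.le (le hx)) a, mul_smul _ _ _⟩⟩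
      rw [smul_eq_iff_eq_inv_smul] at c
      rw [c]
      exact hv _ (inv_mem (hT.le (le hx))) (cj_eq_of_mem (inv_mem hx))
    · rw [Finset.mem_erase] at hy
      obtain ⟨g, a, rfl⟩ := mem_orb.1 hy.2
      refine os g a ?_
      by_contra c
      push Not at c
      exact hy.1 (fx g a c)
  intro g hg
  have := orb_fix (w := v) hg
  rwa [← Finset.add_sum_erase _ _ vm, z, add_zero] at this

theorem ex_pow (hD : ∀ d : D, ∃ k, p ^ k • d = 0) : ∃ n, Nat.card D = p ^ n :=
  (IsPGroup.iff_card (G := Multiplicative D)).1 fun d => hD d.toAdd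

/-- averaging: a cocycle that vanishes on a subgroup of index prime to `p` is a coboundary -/
theorem avg (hD : ∀ d : D, ∃ k, p ^ k • d = 0) {H T : Subgroup G} (le : T ≤ H)
    (nd : ¬ p ∣ T.relIndex H) (t : G → D) (co : ∀ g ∈ H, ∀ h ∈ H, t (g * h) = t g + g • t h)
    (z : ∀ s ∈ T, t s = 0) :
    ∃ z : D, (∀ g ∈ H, t g = g • z - z) ∧ ∀ U : AddSubgroup D, (∀ g ∈ H, t g ∈ U) → z ∈ U := by
  classical
  obtain ⟨n, hn⟩ := ex_pow hD
  have := Fintype.ofFinite (H ⧸ T.subgroupOf H)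
  let τ : H ⧸ T.subgroupOf H → D := fun x => t (x.out : H)
  have k : ∀ (g : H) (x : H ⧸ T.subgroupOf H), τ (g • x) = t g + (g : G) • τ x := fun g x => by
    obtain ⟨s, hs⟩ := QuotientGroup.mk_out_eq_mul (T.subgroupOf H) (g * x.out)
    have : g • x = (g * x.out : H) := by
      conv_lhs => rw [← x.out_eq']
      rfl
    simp only [τ]
    rw [this, hs, coe_mul, co _ (g * x.out).2 _ s.1.2, z (s.1 : G) s.2, smul_zero, add_zero, coe_mul,
      co _ g.2 _ x.out.2]
  have m : ∀ g : H, T.relIndex H • t g = ∑ x, τ x - (g : G) • ∑ x, τ x := fun g => by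
    have := Equiv.sum_comp (MulAction.toPerm g) τ
    simp only [MulAction.toPerm_apply, k, Finset.sum_add_distrib, Finset.sum_const] at this
    rw [Finset.smul_sum, ← this, Finset.card_univ, ← Nat.card_eq_fintype_card, add_sub_cancel_right]
    rfl
  obtain ⟨c, hc⟩ : ∃ c : ℕ, ∀ d : D, (c * T.relIndex H) • d = d := by
    have cp : (T.relIndex H).Coprime (p ^ n) :=
      ((hp.out.coprime_iff_not_dvd.2 nd).symm).pow_right n
    refine ⟨T.relIndex H ^ (Nat.totient (p ^ n) - 1), fun d => ?_⟩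
    have := Nat.ModEq.pow_totient cp
    have e : (p ^ n) • d = 0 := by rw [← hn]; exact card_nsmul_eq_zero'
    rw [← pow_succ, Nat.sub_add_cancel (Nat.totient_pos.2 (pow_pos hp.out.pos n)),
      nsmul_eq_mod_nsmul _ e, this, ← nsmul_eq_mod_nsmul _ e, one_nsmul]
  refine ⟨-(c • ∑ x, τ x), fun g hg => ?_, fun U hU => neg_mem (nsmul_mem
    (sum_mem fun x _ => hU _ x.out.2) _)⟩
  rw [← hc (t g), mul_nsmul', m ⟨g, hg⟩, smul_neg, smul_comm g c, smul_sub]
  abel

/-- control of fixed points passes from `Ω₁(D)` to `D` -/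
theorem ctl_D (hD : ∀ d : D, ∃ k, p ^ k • d = 0) {H T : Subgroup G} (hT : IsSylowIn p T H)
    (X : G → Prop) (hX : ∀ x, X x → x ∈ H) (tX : ∀ s ∈ T, X s)
    (h : ∀ v : D, p • v = 0 → (∀ x, X x → x • v = v) → ∀ g ∈ H, g • v = v) (d : D)
    (hd : ∀ x, X x → x • d = d) : ∀ g ∈ H, g • d = d := by
  obtain ⟨k, hk⟩ := hD d
  induction k generalizing d with
  | zero => intro g _; rw [show d = 0 by simpa using hk, smul_zero]
  | succ k ih =>
    have pd := ih (p • d) (fun x hx => by rw [smul_comm, hd x hx])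
      (by rw [← mul_nsmul', ← pow_succ, hk])
    have s : IsSylowIn p T (H ⊓ MulAction.stabilizer G d) :=
      hT.of_le (fun t ht => ⟨hT.le ht, hd t (tX t ht)⟩) inf_le_left
    obtain ⟨z, h1, h2⟩ := avg hD (inf_le_left (b := MulAction.stabilizer G d))
      (fun c => hT.not_dvd (c.trans (relIndex_dvd_of_le_left H s.le))) (fun g => g • d - d)
      (fun g _ h _ => by rw [mul_smul, smul_sub]; abel)
      (fun s hs => by rw [show s • d = d from hs.2, sub_self])
    have pz : z ∈ (nsmulAddMonoidHom p : D →+ D).ker := h2 _ fun g hg => by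
      rw [AddMonoidHom.mem_ker, nsmulAddMonoidHom_apply, smul_sub, ← smul_comm, pd g hg, sub_self]
    have := h z pz fun x hx => by
        have := h1 x (hX x hx)
        simp only [hd x hx, sub_self] at this
        exact (sub_eq_zero.1 this.symm)
    intro g hg
    have e := h1 g hg
    simp only [this g hg, sub_self] at e
    exact sub_eq_zero.1 e

theorem lt_card (hD : ∀ d : D, ∃ k, p ^ k • d = 0) {U V : AddSubgroup D} (h : U < V) :
    p * Nat.card U ≤ Nat.card V := by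
  obtain ⟨n, hn⟩ := ex_pow hD
  obtain ⟨j, -, hj⟩ := (Nat.dvd_prime_pow hp.out).1 (hn ▸ V.card_addSubgroup_dvd_card)
  obtain ⟨i, -, hi⟩ := (Nat.dvd_prime_pow hp.out).1 (hn ▸ U.card_addSubgroup_dvd_card)
  have : Nat.card U < Nat.card V := Set.Finite.card_lt_card (Set.toFinite _) h
  rw [hi, hj] at this ⊢
  rw [← pow_succ']
  exact Nat.pow_le_pow_right hp.out.pos ((Nat.pow_lt_pow_iff_right hp.out.one_lt).1 this)

/-- `v ↦ a v - v` -/
def dl (a : G) : D →+ D where
  toFun v := a • v - v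
  map_zero' := by simp
  map_add' v w := by rw [smul_add]; abel

theorem card_dl (a : G) :
    Nat.card D = Nat.card (dl (D := D) a).ker * Nat.card (dl (D := D) a).range := by
  rw [← AddSubgroup.index_ker, AddSubgroup.card_mul_index]

/-- a `p`-group with an offender has a good offender or (`p = 2`) a transvection -/
theorem Off.cases (hD : ∀ d : D, ∃ k, p ^ k • d = 0) {P : Subgroup G} (h : Off D P) :
    (∃ A ≤ P, Good p D A) ∨ (p = 2 ∧ ∃ a ∈ P, ∃ u : D, Tv a u) := by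
  obtain ⟨A, ⟨le, hA⟩, mn⟩ := Set.Finite.exists_minimal
    (Set.toFinite {A : Subgroup G | A ≤ P ∧ Ofd D A}) h
  by_cases gd : Good p D A
  · exact Or.inl ⟨A, le, gd⟩
  right
  simp only [Good, hA, true_and, not_forall] at gd
  obtain ⟨y, hy, a, ha, h1, h2, h3⟩ := gd
  have mv : a • y ≠ y := fun c => h3 (by
    have : ∀ i : ℕ, a ^ i • y = y := fun i => (MulAction.stabilizer G y).pow_mem c i
    simp [this, hy])
  set B := A ⊓ MulAction.stabilizer G y with hB
  have c1 : Nat.card A ≤ p * Nat.card B := by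
    have : Function.Surjective fun x : Fin p × B => (⟨a ^ x.1.1 * x.2, mul_mem (pow_mem ha _) x.2.2.1⟩ : A) :=
      fun x => by
        obtain ⟨i, hi⟩ := h1 x x.2
        refine ⟨(⟨i % p, Nat.mod_lt _ hp.out.pos⟩, ⟨(a ^ (i % p))⁻¹ * x, mem_inf.2 ⟨mul_mem (inv_mem
          (pow_mem ha _)) x.2, ?_⟩⟩), by simp⟩
        have : (a ^ p) ^ (i / p) • y = y := (MulAction.stabilizer G y).pow_mem h2 _
        rw [MulAction.mem_stabilizer_iff, mul_smul, hi, inv_smul_eq_iff]
        conv_rhs => rw [← this, ← mul_smul, ← pow_mul, ← pow_add, Nat.mod_add_div]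
    simpa using Nat.card_le_card_of_surjective _ this
  have b0 : B = ⊥ := by
    by_contra c
    have lt : Fx D A < Fx D B := lt_of_le_of_ne (fun d hd x hx => hd x hx.1) fun e =>
      mv ((show y ∈ Fx D A by rw [e]; exact fun x hx => hx.2) a ha)
    have := lt_card hD lt
    have ob : Ofd D B := ⟨c, fun x hx z hz => hA.2.1 x hx.1 z hz.1, hA.2.2.trans (by
      calc _ ≤ p * Nat.card B * Nat.card (Fx D A) := Nat.mul_le_mul_right _ c1
        _ = Nat.card B * (p * Nat.card (Fx D A)) := by ring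
        _ ≤ _ := Nat.mul_le_mul_left _ this)⟩
    exact mv (mn ⟨inf_le_left.trans le, ob⟩ inf_le_left ha).2
  rw [b0, card_bot, mul_one] at c1
  have c2 : Nat.card (dl (D := D) a).range ≤ p := by
    have e := card_dl (D := D) a
    have l : Nat.card (Fx D A) ≤ Nat.card (dl (D := D) a).ker :=
      AddSubgroup.card_le_of_le fun d hd => sub_eq_zero.2 (hd a ha)
    have := hA.2.2.trans (Nat.mul_le_mul c1 l)
    rw [e, mul_comm p] at this
    exact Nat.le_of_mul_le_mul_left this Nat.card_pos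
  set u := a • y - y with hu
  have u0 : u ≠ 0 := sub_ne_zero.2 mv
  have pu : p • u = 0 := by rw [hu, smul_sub, ← smul_comm, hy, smul_zero, sub_self]
  have rg : ∀ v : D, ∃ k : ℕ, a • v - v = k • u := fun v => by
    have l : AddSubgroup.zmultiples u ≤ (dl a).range := by
      rw [AddSubgroup.zmultiples_le]; exact ⟨y, rfl⟩
    have := AddSubgroup.eq_of_le_of_card_ge l (by
      rw [Nat.card_zmultiples, addOrderOf_eq_prime pu u0]; exact c2)
    obtain ⟨k, hk⟩ := mem_multiples_iff_mem_zmultiples.2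
      (show dl a v ∈ AddSubgroup.zmultiples u by rw [this]; exact ⟨v, rfl⟩)
    exact ⟨k, hk.symm⟩
  have au : a • u = u := by
    obtain ⟨k, hk⟩ := rg (a • y)
    rw [← smul_sub, ← hu] at hk
    have e : ∀ i : ℕ, a ^ i • u = k ^ i • u := fun i => by
      induction i with
      | zero => simp
      | succ i ih => rw [pow_succ', mul_smul, ih, smul_comm, hk, ← mul_nsmul', pow_succ]
    have f : a ^ p • u = u := by
      rw [hu, smul_sub, ← mul_smul, ← pow_succ, pow_succ', mul_smul, h2]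
    have : k ^ p % p = k % p := by
      apply (ZMod.natCast_eq_natCast_iff _ _ _).1
      rw [Nat.cast_pow, ZMod.pow_card]
    rw [hk, nsmul_eq_mod_nsmul _ pu, ← this, ← nsmul_eq_mod_nsmul _ pu, ← e, f]
  have p2 : p = 2 := by
    by_contra c
    have e : ∀ i : ℕ, a ^ i • y = y + i • u := fun i => by
      induction i with
      | zero => simp
      | succ i ih =>
        rw [pow_succ', mul_smul, ih, smul_add, smul_comm, au, succ_nsmul, hu]; abel
    apply h3
    simp only [e, Finset.sum_add_distrib, Finset.sum_const, Finset.card_range, hy, zero_add]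
    rw [← Finset.sum_smul]
    have d : p ∣ ∑ i ∈ Finset.range p, i := by
      refine (Nat.Coprime.dvd_mul_right ((Nat.coprime_primes hp.out Nat.prime_two).2 c)).1 ?_
      rw [Finset.sum_range_id_mul_two]; exact dvd_mul_right _ _
    obtain ⟨j, hj⟩ := d
    rw [hj, mul_nsmul, pu, smul_zero]
  refine ⟨p2, a, le ha, u, ⟨y, mv⟩, fun v => ?_⟩
  obtain ⟨k, hk⟩ := rg v
  subst p2
  rw [nsmul_eq_mod_nsmul _ pu] at hk
  rcases Nat.mod_two_eq_zero_or_one k with c | c <;> rw [c] at hk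
  · left; simpa [sub_eq_zero] using hk
  · right; rw [one_nsmul] at hk; rw [← hk]; abel

end fin

end CF.Ex.T
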