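/-
Coefficient systems indexed by subgroups; acyclicity of fixed point systems; pruning.
-/
import Cfsg.Agent.Ex.C1
import Cfsg.Agent.Ex.T1

set_option autoImplicit false
set_option linter.unusedSectionVars false

namespace CF.Ex.M
open Subgroup CF.Transfer CF.Ex.T

variable {G X D : Type*} [Group G] [MulAction G X] [AddCommGroup D] [DistribMulAction G D] {p : ℕ}

theorem ac_eq {g : G} {l : List X} : ac g l = l ↔ ∀ x ∈ l, g • x = x := by
  induction l with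
  | nil => simp [ac]
  | cons x l ih => simpa [ac] using fun _ => ih

theorem mem_ac {g : G} {l : List X} {x : X} : x ∈ ac g l ↔ g⁻¹ • x ∈ l := by
  simp only [ac, List.mem_map]
  exact ⟨fun ⟨y, a, b⟩ => by simpa [← b] using a, fun a => ⟨_, a, by simp⟩⟩

/-- the stabiliser in `H` of a list -/
def Sb (H : Subgroup G) (l : List X) : Subgroup G where
  carrier := {h | h ∈ H ∧ ∀ x ∈ l, h • x = x}
  one_mem' := ⟨one_mem _, fun x _ => one_smul _ x⟩
  mul_mem' := fun a b => ⟨mul_mem a.1 b.1, fun x hx => by rw [mul_smul, b.2 x hx, a.2 x hx]⟩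
  inv_mem' := fun a => ⟨inv_mem a.1, fun x hx => by rw [inv_smul_eq_iff, a.2 x hx]⟩

theorem mem_Sb {H : Subgroup G} {l : List X} {h : G} : h ∈ Sb H l ↔ h ∈ H ∧ ∀ x ∈ l, h • x = x :=
  Iff.rfl

theorem Sb_le (H : Subgroup G) (l : List X) : Sb H l ≤ H := fun _ h => h.1

theorem Sb_mono (H : Subgroup G) {l' l : List X} (s : l'.Sublist l) : Sb H l ≤ Sb H l' :=
  fun _ h => ⟨h.1, fun x hx => h.2 x (s.subset hx)⟩

theorem Sb_ac {H : Subgroup G} {h : G} (hh : h ∈ H) (l : List X) : Sb H (ac h l) = cj h (Sb H l) := by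
  ext g
  rw [mem_cj, mem_Sb, mem_Sb]
  refine ⟨fun a => ⟨mul_mem (mul_mem (inv_mem hh) a.1) hh, fun x hx => ?_⟩, fun a => ⟨by
    simpa [mul_assoc] using mul_mem (mul_mem hh a.1) (inv_mem hh), fun x hx => ?_⟩⟩
  · rw [mul_smul, mul_smul, a.2 _ (mem_ac.2 (by simpa using hx)), inv_smul_smul]
  · have := a.2 _ (mem_ac.1 hx)
    rwa [mul_smul, mul_smul, smul_inv_smul, smul_left_cancel_iff] at this

theorem Sb_inf (H K : Subgroup G) (l : List X) : Sb (H ⊓ K) l = Sb H l ⊓ K := by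
  ext g; simp only [mem_Sb, mem_inf]; tauto

/-- nonempty lists in `X₀` whose stabiliser in `H` satisfies `R` -/
def SS (X₀ : Set X) (H : Subgroup G) (R : Subgroup G → Prop) (l : List X) : Prop :=
  l ≠ [] ∧ (∀ x ∈ l, x ∈ X₀) ∧ R (Sb H l)

/-- vanishing for a system indexed by subgroups -/
def VG (X₀ : Set X) (H : Subgroup G) (R : Subgroup G → Prop) (U V : Subgroup G → AddSubgroup D)
    (n : ℕ) : Prop :=
  Van H (SS X₀ H R) (fun l => U (Sb H l)) (fun l => V (Sb H l)) n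

/-- admissible `H`-set -/
structure Adm (p : ℕ) (X₀ : Set X) (H : Subgroup G) : Prop where
  inv : ∀ h ∈ H, ∀ x ∈ X₀, h • x ∈ X₀
  pg : ∀ x ∈ X₀, IsPGroup p (Sb H [x])
  nd : ¬ p ∣ X₀.ncard

/-- invariant interval of `p`-subgroups of `H` -/
structure Itv (p : ℕ) (H : Subgroup G) (R : Subgroup G → Prop) : Prop where
  rI : ∀ h ∈ H, ∀ P, R P → R (cj h P)
  cv : ∀ P₁ P₂ P₃, P₁ ≤ P₂ → P₂ ≤ P₃ → P₃ ≤ H → IsPGroup p P₃ → R P₁ → R P₃ → R P₂

/-- well formed system indexed by subgroups -/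
structure OkG (p : ℕ) (H : Subgroup G) (R : Subgroup G → Prop) (U V : Subgroup G → AddSubgroup D) :
    Prop extends Itv p H R where
  uI : ∀ h ∈ H, ∀ P, R P → ∀ u ∈ U P, h • u ∈ U (cj h P)
  vI : ∀ h ∈ H, ∀ P, R P → ∀ u ∈ V P, h • u ∈ V (cj h P)
  uM : ∀ P P', P ≤ P' → R P → R P' → U P' ≤ U P
  vM : ∀ P P', P ≤ P' → R P → R P' → V P' ≤ V P
  le : ∀ P, R P → V P ≤ U P
  tr : ∀ P, R P → ∀ h ∈ P, ∀ u ∈ U P, h • u - u ∈ V P

variable {X₀ : Set X} {H : Subgroup G} {R R' : Subgroup G → Prop}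
  {U V : Subgroup G → AddSubgroup D} {n : ℕ}

theorem Adm.pgl (a : Adm p X₀ H) {l : List X} (ne : l ≠ []) (m : ∀ x ∈ l, x ∈ X₀) :
    IsPGroup p (Sb H l) := by
  obtain ⟨x, hx⟩ := List.exists_mem_of_ne_nil l ne
  exact (a.pg x (m x hx)).to_le (Sb_mono H (List.singleton_sublist.2 hx))

theorem SS.ac (a : Adm p X₀ H) (rI : ∀ h ∈ H, ∀ P, R P → R (cj h P)) {h : G} (hh : h ∈ H)
    {l : List X} (s : SS X₀ H R l) : SS X₀ H R (ac h l) :=
  ⟨by simpa [M.ac] using s.1, fun x hx => by simpa using a.inv h hh _ (s.2.1 _ (mem_ac.1 hx)),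
    by rw [Sb_ac hh]; exact rI h hh _ s.2.2⟩

theorem OkG.ok (o : OkG p H R U V) (a : Adm p X₀ H) :
    Ok H (SS X₀ H R) (fun l => U (Sb H l)) (fun l => V (Sb H l)) :=
  ⟨fun _ hh _ s => s.ac a o.rI hh, fun _ _ _ x y s t => ⟨fun e => s.1 (List.eq_nil_of_sublist_nil
      (e ▸ x)), fun z hz => t.2.1 z (y.subset hz), o.cv _ _ _ (Sb_mono H y) (Sb_mono H x) (Sb_le _ _)
      (a.pgl s.1 s.2.1) t.2.2 s.2.2⟩,
    fun h hh l s u hu => by rw [Sb_ac hh]; exact o.uI h hh _ s.2.2 u hu,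
    fun h hh l s u hu => by rw [Sb_ac hh]; exact o.vI h hh _ s.2.2 u hu,
    fun _ _ x s t => o.uM _ _ (Sb_mono H x) t.2.2 s.2.2,
    fun _ _ x s t => o.vM _ _ (Sb_mono H x) t.2.2 s.2.2, fun _ s => o.le _ s.2.2,
    fun h hh _ s e => o.tr _ s.2.2 h ⟨hh, ac_eq.1 e⟩⟩

theorem OkG.mono (o : OkG p H R U V) {H' : Subgroup G} (le : H' ≤ H) (i : Itv p H' R')
    (sub : ∀ P, R' P → R P) : OkG p H' R' U V :=
  ⟨i, fun h hh P r => o.uI h (le hh) P (sub P r), fun h hh P r => o.vI h (le hh) P (sub P r),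
    fun _ _ x y z => o.uM _ _ x (sub _ y) (sub _ z), fun _ _ x y z => o.vM _ _ x (sub _ y) (sub _ z),
    fun P r => o.le P (sub P r), fun P r => o.tr P (sub P r)⟩

theorem VG.iff (a : Adm p X₀ H) (e : ∀ l : List X, l ≠ [] → (∀ x ∈ l, x ∈ X₀) →
    IsPGroup p (Sb H l) → (R (Sb H l) ↔ R' (Sb H l))) (h : VG X₀ H R' U V n) : VG X₀ H R U V n := by
  have : SS X₀ H R = SS X₀ H R' := by
    ext l
    exact and_congr_right fun x => and_congr_right fun y => e l x y (a.pgl x y)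
  unfold VG at h ⊢
  rwa [this]

section split
variable (o : OkG p H R U V) (a : Adm p X₀ H) (rI : ∀ h ∈ H, ∀ P, R' P → R' (cj h P))
  (sub : ∀ P, R' P → R P) (lo : ∀ P P', P ≤ P' → R' P' → R P → R' P)
include o a rI sub lo

theorem SS_diff : (fun l => SS X₀ H R l ∧ ¬ SS X₀ H R' l) = SS X₀ H fun P => R P ∧ ¬ R' P := by
  ext l; simp only [SS]; tauto

theorem VG.quo (h : VG X₀ H R U V n) (h' : VG X₀ H R' U V (n + 1)) :
    VG X₀ H (fun P => R P ∧ ¬ R' P) U V n := by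
  have := sp_quo (o.ok a) (fun _ hh _ s => s.ac a rI hh) (fun _ s => ⟨s.1, s.2.1, sub _ s.2.2⟩)
    (fun _ _ x s t => ⟨t.1, t.2.1, lo _ _ (Sb_mono H x) s.2.2 t.2.2⟩) h h'
  rwa [SS_diff o a rI sub lo] at this

theorem VG.low (h : VG X₀ H R U V (n + 1)) (h' : VG X₀ H (fun P => R P ∧ ¬ R' P) U V n) :
    VG X₀ H R' U V (n + 1) :=
  sp_sub (o.ok a) (fun _ hh _ s => s.ac a rI hh) (fun _ s => ⟨s.1, s.2.1, sub _ s.2.2⟩)
    (fun _ _ x s t => ⟨t.1, t.2.1, lo _ _ (Sb_mono H x) s.2.2 t.2.2⟩) h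
    (by rw [SS_diff o a rI sub lo]; exact h')

end split

/-- points fixed by `Y` -/
def Fp (X₀ : Set X) (Y : Subgroup G) : Set X := {x | x ∈ X₀ ∧ ∀ y ∈ Y, y • x = x}

variable [Finite G] [Finite X] [hp : Fact p.Prime]

theorem Adm.fp (a : Adm p X₀ H) {Y : Subgroup G} (le : Y ≤ H) (pg : IsPGroup p Y) :
    ¬ p ∣ (Fp X₀ Y).ncard := by
  let : MulAction Y X₀ :=
    { smul := fun y x => ⟨(y : G) • (x : X), a.inv _ (le y.2) _ x.2⟩
      one_smul := fun x => Subtype.ext (one_smul G (x : X))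
      mul_smul := fun y z x => Subtype.ext (mul_smul (y : G) (z : G) (x : X)) }
  have h := pg.card_modEq_card_fixedPoints X₀
  have e : Nat.card (MulAction.fixedPoints Y X₀) = (Fp X₀ Y).ncard :=
    Nat.card_congr ⟨fun x => ⟨x.1.1, x.1.2, fun y hy => congrArg Subtype.val (x.2 ⟨y, hy⟩)⟩,
      fun x => ⟨⟨x.1, x.2.1⟩, fun y => Subtype.ext (x.2.2 y y.2)⟩, fun _ => rfl, fun _ => rfl⟩
  rw [e] at h
  exact fun c => a.nd ((h.dvd_iff dvd_rfl).2 c)

theorem Adm.ex (a : Adm p X₀ H) {Y : Subgroup G} (le : Y ≤ H) (pg : IsPGroup p Y) :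
    ∃ x ∈ X₀, Y ≤ Sb H [x] := by
  obtain ⟨x, hx⟩ := Set.nonempty_of_ncard_ne_zero (s := Fp X₀ Y) fun e => a.fp le pg (e ▸ dvd_zero p)
  exact ⟨x, hx.1, fun y hy => ⟨le hy, by simpa using hx.2 y hy⟩⟩

theorem Adm.norm (a : Adm p X₀ H) {Y : Subgroup G} (le : Y ≤ H) (pg : IsPGroup p Y) :
    Adm p (Fp X₀ Y) (H ⊓ normalizer (Y : Set G)) :=
  ⟨fun h hh x hx => ⟨a.inv h hh.1 x hx.1, fun y hy => by
      have := hx.2 _ (inv_conj_mem_of_mem_normalizer hh.2 hy)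
      rwa [mul_smul, mul_smul, inv_smul_eq_iff] at this⟩,
    fun x hx => by rw [Sb_inf]; exact (a.pg x hx.1).to_inf_left, a.fp le pg⟩

theorem Fp_le {Y N : Subgroup G} (le : Y ≤ N) {l : List X} (m : ∀ x ∈ l, x ∈ Fp X₀ Y) :
    Y ≤ Sb N l := fun y hy => ⟨le hy, fun x hx => (m x hx).2 y hy⟩

/-- reduction to normalizers -/
theorem red (o : OkG p H R U V) (a : Adm p X₀ H) (j : Subgroup G → Subgroup G) (φ : Subgroup G → ℕ)
    (B : ℕ) (b : ∀ Y, φ Y < B) (iφ : ∀ h ∈ H, ∀ Y, φ (cj h Y) = φ Y)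
    (jI : ∀ h ∈ H, ∀ P, R P → j (cj h P) = cj h (j P)) (jl : ∀ P, R P → j P ≤ P)
    (m : ∀ P P', P ≤ P' → P' ≤ H → IsPGroup p P' → R P → R P' → j P' = j P ∨ φ (j P) < φ (j P'))
    (h : ∀ P ≤ H, IsPGroup p P → R P → VG (Fp X₀ (j P)) (H ⊓ normalizer (j P : Set G))
      (fun Q => R Q ∧ j Q = j P) U V n) : VG X₀ H R U V n := by
  have ok := o.ok a
  refine filt_layer ok (fun l => j (Sb H l)) φ B b iφ
    (fun h hh l s => by rw [Sb_ac hh, jI h hh _ s.2.2])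
    (fun l' l x s t => m _ _ (Sb_mono H x) (Sb_le _ _) (a.pgl s.1 s.2.1) t.2.2 s.2.2) fun Y => ?_
  by_cases ex : ∃ l, SS X₀ H R l ∧ j (Sb H l) = Y
  swap
  · exact van_empty fun l s => ex ⟨l, s⟩
  obtain ⟨l₀, s₀, rfl⟩ := ex
  set Y := j (Sb H l₀)
  have k1 : ∀ l, SS X₀ H R l ∧ j (Sb H l) = Y → Sb H l = Sb (H ⊓ normalizer (Y : Set G)) l :=
    fun l s => by
      rw [Sb_inf, left_eq_inf]
      intro g hg
      rw [mem_normalizer_iff_cj, ← s.2, ← jI g hg.1 _ s.1.2.2, cj_eq_of_mem hg]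
  refine (h _ (Sb_le _ _) (a.pgl s₀.1 s₀.2.1) s₀.2.2).congr (ok.restrict inf_le_left (fun _ s => s.1)
    (fun h hh l s => ⟨ok.sI h hh.1 l s.1, by
      rw [Sb_ac hh.1, jI h hh.1 _ s.1.2.2, s.2, cj_eq_of_mem_normalizer hh.2]⟩)
    fun l₁ l₂ l₃ x y s t z => ⟨z, ?_⟩) (fun l => ⟨fun s => ?_, fun s => ?_⟩)
    (fun l s => by rw [k1 l s]) fun l s => by rw [k1 l s]
  · rcases m _ _ (Sb_mono H x) (Sb_le _ _) (a.pgl s.1.1 s.1.2.1) z.2.2 s.1.2.2 with e | e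
    · rw [← e, s.2]
    · rcases m _ _ (Sb_mono H y) (Sb_le _ _) (a.pgl z.1 z.2.1) t.1.2.2 z.2.2 with f | f
      · rw [f, t.2]
      · rw [t.2] at f; rw [s.2] at e; omega
  · have m0 : ∀ x ∈ l, x ∈ X₀ := fun x hx => (s.2.1 x hx).1
    have e : Sb (H ⊓ normalizer (Y : Set G)) l = Sb H l := by
      by_contra c
      have lt : Sb (H ⊓ normalizer (Y : Set G)) l < Sb H l :=
        lt_of_le_of_ne (by rw [Sb_inf]; exact inf_le_left) c
      obtain ⟨g, hg, ng⟩ := SetLike.exists_of_lt (lt_inf_normalizer_of_lt (a.pgl s.1 m0) lt)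
      refine ng ?_
      rw [Sb_inf]
      refine ⟨hg.1, mem_normalizer_iff_cj.2 ?_⟩
      have := jI g hg.1.1 _ s.2.2.1
      rwa [cj_eq_of_mem_normalizer hg.2, s.2.2.2, eq_comm] at this
    exact ⟨⟨s.1, m0, e ▸ s.2.2.1⟩, e ▸ s.2.2.2⟩
  · refine ⟨s.1.1, fun x hx => ⟨s.1.2.1 x hx, fun y hy => ?_⟩, k1 l s ▸ ⟨s.1.2.2, s.2⟩⟩
    exact (jl _ s.1.2.2 (s.2.symm ▸ hy)).2 x hx

theorem red_cls (o : OkG p H R U V) (a : Adm p X₀ H)
    (h : ∀ P ≤ H, IsPGroup p P → R P → VG (Fp X₀ P) (H ⊓ normalizer (P : Set G))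
      (fun Q => Q = P) U V n) : VG X₀ H R U V n :=
  red o a id (fun Y => Nat.card Y) (Nat.card G + 1) (fun Y => Nat.lt_succ_of_le Y.card_le_card_group)
    (fun h _ Y => card_cj h Y) (fun _ _ _ _ => rfl) (fun _ _ => le_rfl)
    (fun _ _ x _ _ _ _ => x.eq_or_lt.imp Eq.symm card_lt_of_lt) fun P x y z =>
      (h P x y z).iff (a.norm x y) fun _ _ _ _ => ⟨fun s => s.2, fun s => ⟨by rw [s]; exact z, s⟩⟩

/-- fixed points in `D₀` -/
def CD (D₀ : AddSubgroup D) (P : Subgroup G) : AddSubgroup D := D₀ ⊓ Fx D P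

theorem mem_CD {D₀ : AddSubgroup D} {P : Subgroup G} {d : D} :
    d ∈ CD D₀ P ↔ d ∈ D₀ ∧ ∀ a ∈ P, a • d = d := Iff.rfl

theorem CD_anti (D₀ : AddSubgroup D) {P Q : Subgroup G} (le : P ≤ Q) : CD D₀ Q ≤ CD D₀ P :=
  fun _ h => ⟨h.1, fun a ha => h.2 a (le ha)⟩

/-- `D₀` is an `H`-invariant `p`-group -/
structure Md (p : ℕ) (D₀ : AddSubgroup D) (H : Subgroup G) : Prop where
  inv : ∀ h ∈ H, ∀ d ∈ D₀, h • d ∈ D₀
  pg : ∀ d ∈ D₀, ∃ k, p ^ k • d = 0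

variable {D₀ : AddSubgroup D}

theorem Md.mono (m : Md p D₀ H) {H' : Subgroup G} (le : H' ≤ H) : Md p D₀ H' :=
  ⟨fun h hh => m.inv h (le hh), m.pg⟩

theorem Md.cd (m : Md p D₀ H) {h : G} (hh : h ∈ H) {P : Subgroup G} {u : D} (hu : u ∈ CD D₀ P) :
    h • u ∈ CD D₀ (cj h P) := ⟨m.inv h hh u hu.1, fun a ha => by
  have := hu.2 _ (mem_cj.1 ha)
  rwa [mul_smul, mul_smul, inv_smul_eq_iff] at this⟩

theorem Md.ok (m : Md p D₀ H) (i : Itv p H R) : OkG p H R (CD D₀) fun _ => ⊥ :=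
  ⟨i, fun _ hh _ _ _ hu => m.cd hh hu, fun h _ _ _ u hu => by simpa using congrArg (h • ·) hu,
    fun _ _ x _ _ => CD_anti D₀ x, fun _ _ _ _ _ => le_rfl, fun _ _ => bot_le,
    fun _ _ h hh u hu => by rw [hu.2 h hh, sub_self]; rfl⟩

theorem itv_true : Itv p H fun _ => True := ⟨fun _ _ _ _ => trivial, fun _ _ _ _ _ _ _ _ _ => trivial⟩

variable [Finite D]

theorem Md.unit (m : Md p D₀ H) {c : ℕ} (nd : ¬ p ∣ c) : ∃ c' : ℕ, ∀ d ∈ D₀, (c' * c) • d = d := by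
  obtain ⟨n, hn⟩ := ex_pow (D := D₀) (p := p) fun d =>
    let ⟨k, hk⟩ := m.pg d d.2; ⟨k, Subtype.ext hk⟩
  have cp : c.Coprime (p ^ n) := ((hp.out.coprime_iff_not_dvd.2 nd).symm).pow_right n
  refine ⟨c ^ (Nat.totient (p ^ n) - 1), fun d hd => ?_⟩
  have := Nat.ModEq.pow_totient cp
  have e : (p ^ n) • d = 0 := by
    rw [← hn]; exact congrArg Subtype.val (card_nsmul_eq_zero' (x := (⟨d, hd⟩ : D₀)))
  rw [← pow_succ, Nat.sub_add_cancel (Nat.totient_pos.2 (pow_pos hp.out.pos n)),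
    nsmul_eq_mod_nsmul _ e, this, ← nsmul_eq_mod_nsmul _ e, one_nsmul]

theorem full (a : Adm p X₀ H) (m : Md p D₀ H) :
    VG X₀ H (fun _ => True) (CD D₀) (fun _ => ⊥) (n + 1) := fun f c z => by
  obtain ⟨c', hc⟩ := m.unit a.nd
  let s := (Set.toFinite X₀).toFinset
  have ms : ∀ {x}, x ∈ s ↔ x ∈ X₀ := by simp [s]
  have sc : ∀ {x l}, x ∈ s → SS X₀ H (fun _ => True) l → SS X₀ H (fun _ => True) (x :: l) :=
    fun hx t => ⟨by simp, by simpa [ms.1 hx] using t.2.1, trivial⟩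
  have eqv : ∀ l : List X, l.length = n + 1 → SS X₀ H (fun _ => True) l → ∀ h ∈ H,
      ∑ x ∈ s, f (x :: ac h l) = h • ∑ x ∈ s, f (x :: l) := fun l x y h hh => by
    rw [Finset.smul_sum]
    refine (Finset.sum_nbij' (h • ·) (h⁻¹ • ·) (fun x hx => ms.2 (a.inv h hh x (ms.1 hx)))
      (fun x hx => ms.2 (a.inv _ (inv_mem hh) x (ms.1 hx))) (by simp) (by simp) fun w hw => ?_).symm
    exact (sub_eq_zero.1 (c.e (w :: l) (by simp [x]) (sc hw y) h hh)).symm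
  refine ⟨tc (SS X₀ H fun _ => True) fun l => c' • ∑ x ∈ s, f (x :: l), ⟨fun l _ y => tc_neg y,
    fun l x y => ?_, fun l x y h hh => ?_⟩, fun l x y => ?_⟩
  · rw [tc_pos y]
    refine ⟨nsmul_mem (sum_mem fun w hw => (c.m _ (by simp [x]) (sc hw y)).1) _, fun h hh => ?_⟩
    rw [smul_comm, ← eqv l x y h hh.1, ac_eq.2 hh.2]
  · rw [tc_pos y, tc_pos (y.ac a (fun _ _ _ _ => trivial) hh), eqv l x y h hh, smul_comm, sub_self]; rfl
  · rw [cb_congr (g := fun l => c' • ∑ x ∈ s, f (x :: l)) fun l' t q => tc_pos ⟨fun e => by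
      rw [e, x] at q; simp at q, fun w hw => y.2.1 w (t.subset hw), trivial⟩,
      show cb (fun l => c' • ∑ x ∈ s, f (x :: l)) l = c' • cb (fun l => ∑ x ∈ s, f (x :: l)) l from
        (cb_map (nsmulAddMonoidHom c' : D →+ D) _ l).symm, cb_sum,
      Finset.sum_congr rfl (g := fun _ => f l) fun w hw => by
        have := z (w :: l) (by simp [x]) (sc hw y)
        rw [cb_cons] at this
        exact (sub_eq_zero.1 this).symm,
      Finset.sum_const, ← mul_nsmul', ← Set.ncard_eq_toFinset_card, hc _ (c.m l x y).1, sub_self]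
    rfl

/-- `P ∩ K` is not a maximal `p`-subgroup of `K` -/
def MM (p : ℕ) (K P : Subgroup G) : Prop :=
  ∃ Q : Subgroup G, IsPGroup p Q ∧ P ⊓ K < Q ∧ Q ≤ K

/-- `K` acts on `D₀` as a `p`-group -/
def Ply (p : ℕ) (D₀ : AddSubgroup D) (K : Subgroup G) : Prop :=
  ∀ k ∈ K, ∃ i, ∀ d ∈ D₀, k ^ p ^ i • d = d

theorem MM.mono {K P P' : Subgroup G} (h : MM p K P') (le : P ≤ P') : MM p K P :=
  let ⟨Q, a, b, c⟩ := h; ⟨Q, a, (inf_le_inf_right K le).trans_lt b, c⟩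

theorem MM.cj {K P : Subgroup G} (h : MM p K P) {g : G} (hg : g ∈ normalizer (K : Set G)) :
    MM p K (cj g P) := by
  obtain ⟨Q, a, b, c⟩ := h
  refine ⟨_, isPGroup_cj a g, ?_, ?_⟩ <;> rw [← cj_eq_of_mem_normalizer hg]
  · rw [← cj_inf]; exact cj_lt_cj.2 b
  · exact cj_mono g c

theorem van_MM (a : Adm p X₀ H) (m : Md p D₀ H) {K : Subgroup G} (le : K ≤ H)
    (nm : H ≤ normalizer (K : Set G)) (ply : Ply p D₀ K) :
    VG X₀ H (MM p K) (CD D₀) (fun _ => ⊥) (n + 1) := by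
  have rI : ∀ h ∈ H, ∀ P, MM p K P → MM p K (cj h P) := fun h hh P r => r.cj (nm hh)
  have rI' : ∀ h ∈ H, ∀ P, ¬ MM p K P → ¬ MM p K (cj h P) := fun h hh P r c =>
    r (by simpa using c.cj (inv_mem (nm hh)))
  rcases n with _ | n
  swap
  · refine VG.low (m.ok itv_true) a rI (fun _ _ => trivial) (fun _ _ x y _ => y.mono x) (full a m) ?_
    have mx : ∀ P P' : Subgroup G, P ≤ P' → IsPGroup p P' → ¬ MM p K P → P' ⊓ K = P ⊓ K :=
      fun P P' x y z => by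
        by_contra c
        exact z ⟨_, y.to_inf_left, lt_of_le_of_ne (inf_le_inf_right K x) (Ne.symm c), inf_le_right⟩
    refine red (m.ok ⟨fun h hh P r => ⟨trivial, rI' h hh P r.2⟩, fun _ _ _ x _ _ _ y _ =>
      ⟨trivial, fun c => y.2 (c.mono x)⟩⟩) a (· ⊓ K) (fun _ => 0) 1 (fun _ => one_pos)
      (fun _ _ _ => rfl) (fun h hh P _ => by rw [cj_inf, cj_eq_of_mem_normalizer (nm hh)])
      (fun _ _ => inf_le_left) (fun P P' x _ y z _ => Or.inl (mx P P' x y z.2)) fun P x y z => ?_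
    have a' := a.norm (inf_le_left.trans x : P ⊓ K ≤ H) y.to_inf_left
    refine (full a' (m.mono inf_le_left)).iff a' fun l _ t pg => iff_true_intro ?_
    have l1 := Fp_le (le_inf (inf_le_left.trans x) le_normalizer : P ⊓ K ≤ H ⊓ _) t
    have n1 : ¬ MM p K (P ⊓ K) := fun ⟨Q, b, c, d⟩ => z.2 ⟨Q, b, by simpa using c, d⟩
    exact ⟨⟨trivial, fun c => n1 (c.mono l1)⟩, by simpa using mx _ _ l1 pg n1⟩
  intro f c z
  have up : ∀ {l}, SS X₀ H (MM p K) l → SS X₀ H (fun _ => True) l := fun s => ⟨s.1, s.2.1, trivial⟩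
  obtain ⟨e, e1, e2⟩ := full (n := 0) a m f ⟨fun l x y => c.z l x fun q => y (up q), fun l x _ => by
    by_cases q : SS X₀ H (MM p K) l
    · exact c.m l x q
    · rw [c.z l x q]; exact zero_mem _, fun l x _ h hh => by
      by_cases q : SS X₀ H (MM p K) l
      · exact c.e l x q h hh
      · rw [c.z l x q, c.z _ (by rw [ac_len, x]) fun t => q (by
          simpa using t.ac a rI (inv_mem hh))]
        simp⟩ fun l x y => by
    by_cases q : SS X₀ H (MM p K) l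
    · exact z l x q
    · exact cb_mem _ _ _ fun l' s t => c.z l' (by omega) fun w =>
        q ⟨y.1, y.2.1, w.2.2.mono (Sb_mono H s)⟩
  have s1 : ∀ x ∈ X₀, SS X₀ H (fun _ => True) [x] := fun x hx => ⟨by simp, by simpa, trivial⟩
  have ee : ∀ x ∈ X₀, ∀ h ∈ H, e [h • x] = h • e [x] := fun x hx h hh =>
    sub_eq_zero.1 (e1.e [x] rfl (s1 x hx) h hh)
  have eq : ∀ x ∈ X₀, ∀ y ∈ X₀, ¬ MM p K (Sb H [x, y]) → e [y] = e [x] := fun x hx y hy q => by
    have := e2 [x, y] rfl ⟨by simp, by simp [hx, hy], trivial⟩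
    rw [c.z _ rfl fun t => q t.2.2, cb_two, zero_sub, neg_mem_iff] at this
    exact sub_eq_zero.1 this
  obtain ⟨T, hT⟩ := exists_isSylowIn p K
  have nT : ∀ P, T ≤ P → ¬ MM p K P := fun P x ⟨Q, b, c, d⟩ =>
    ((le_inf x hT.le).trans_lt c).ne' (hT.eq_of_le b ((le_inf x hT.le).trans c.le) d)
  obtain ⟨x₀, hx₀, fx⟩ := a.ex (hT.le.trans le) hT.isPGroup
  have d0 := e1.m _ rfl (s1 x₀ hx₀)
  have fK : ∀ k ∈ K, k • e [x₀] = e [x₀] := by
    let C : Subgroup G := K ⊓ ⨅ d : D₀, MulAction.stabilizer G (d : D)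
    have mC : ∀ {g}, g ∈ C ↔ g ∈ K ∧ ∀ d ∈ D₀, g • d = d := by simp [C, mem_iInf]
    have : (C.subgroupOf K).Normal := ⟨fun x hx g => mem_subgroupOf.2 (mC.2 ⟨(g * x * g⁻¹).2,
      fun d hd => by
        rw [coe_mul, coe_mul, mul_smul, mul_smul, (mC.1 (mem_subgroupOf.1 hx)).2 _
          (m.inv _ (le (g⁻¹).2) d hd), coe_inv, smul_inv_smul]⟩)⟩
    have pg : IsPGroup p (K ⧸ C.subgroupOf K) := fun x => by
      obtain ⟨x, rfl⟩ := QuotientGroup.mk_surjective x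
      obtain ⟨i, hi⟩ := ply x x.2
      exact ⟨i, by
        rw [← QuotientGroup.mk_pow, QuotientGroup.eq_one_iff]
        exact mem_subgroupOf.2 (mC.2 ⟨(x ^ p ^ i).2, hi⟩)⟩
    obtain ⟨i, hi⟩ := IsPGroup.iff_card.1 pg
    have := hT.le_sup_of_relIndex (N := C) inf_le_left hi
    intro k hk
    exact sup_le (c := MulAction.stabilizer G (e [x₀])) (fun t ht => d0.2 t (fx ht))
      (fun t ht => (mC.1 ht).2 _ d0.1) (this.symm ▸ hk)
  have fH : ∀ h ∈ H, h • e [x₀] = e [x₀] := fun h hh => by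
    obtain ⟨k, hk, y, hy, rfl⟩ := hT.frattini (nm hh)
    have yH : y ∈ H := by simpa using mul_mem (inv_mem (le hk)) hh
    rw [mul_smul, ← ee x₀ hx₀ y yH, eq x₀ hx₀ _ (a.inv y yH _ hx₀) (nT _ fun t ht =>
      ⟨(fx ht).1, by
        have := (fx (inv_conj_mem_of_mem_normalizer hy ht)).2 x₀ (by simp)
        rw [mul_smul, mul_smul, inv_smul_eq_iff] at this
        simpa [this] using (fx ht).2⟩), fK k hk]
  have cst : ∀ x ∈ X₀, ¬ MM p K (Sb H [x]) → e [x] = e [x₀] := fun x hx q => by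
    have sy : IsSylowIn p (Sb H [x] ⊓ K) K := isSylowIn_of_maximal (a.pg x hx).to_inf_left
      inf_le_right fun Q b c d => by
        by_contra w
        exact q ⟨Q, b, lt_of_le_not_ge c w, d⟩
    obtain ⟨k, hk, ek⟩ := hT.exists_cj_eq sy
    rw [← fH k (le hk), ← ee x₀ hx₀ k (le hk)]
    refine eq _ (a.inv k (le hk) _ hx₀) x hx fun ⟨Q, b, c, d⟩ => q ⟨Q, b, lt_of_le_of_lt ?_ c, d⟩
    refine le_inf (fun t ht => ⟨ht.1.1, ?_⟩) inf_le_right
    have := (fx (mem_cj.1 (ek.symm ▸ ht))).2 x₀ (by simp)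
    rw [mul_smul, mul_smul, inv_smul_eq_iff] at this
    simpa [this] using ht.1.2
  refine ⟨tc (SS X₀ H (MM p K)) fun l => e l - e [x₀], ⟨fun l _ y => tc_neg y, fun l x y => ?_,
    fun l x y h hh => ?_⟩, fun l x y => ?_⟩
  · rw [tc_pos y]
    exact sub_mem (e1.m l x (up y)) ⟨d0.1, fun t ht => fH t ht.1⟩
  · rw [tc_pos y, tc_pos (y.ac a rI hh), smul_sub, fH h hh, sub_sub_sub_cancel_right]
    exact e1.e l x (up y) h hh
  · obtain ⟨u, v, rfl⟩ := List.length_eq_two.1 x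
    have k : ∀ w ∈ X₀, tc (SS X₀ H (MM p K)) (fun l => e l - e [x₀]) [w] = e [w] - e [x₀] :=
      fun w hw => by
        by_cases q : SS X₀ H (MM p K) [w]
        · exact tc_pos q
        · rw [tc_neg q, cst w hw fun t => q ⟨by simp, by simpa, t⟩, sub_self]
    have := e2 _ x (up y)
    rw [cb_two] at this ⊢
    rwa [k u (y.2.1 u (by simp)), k v (y.2.1 v (by simp)), sub_sub_sub_cancel_right]

theorem pow_mul_nm {K : Subgroup G} {y k : G} (hy : y ∈ normalizer (K : Set G)) (hk : k ∈ K) (i : ℕ) :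
    ∃ k' ∈ K, (y * k) ^ i = y ^ i * k' := by
  induction i with
  | zero => exact ⟨1, one_mem _, by simp⟩
  | succ i ih =>
    obtain ⟨k', a, b⟩ := ih
    exact ⟨_, mul_mem (inv_conj_mem_of_mem_normalizer hy a) hk, by rw [pow_succ, b, pow_succ]; group⟩

theorem prune_aux (c : ℕ) : ∀ (X₀ : Set X) (H : Subgroup G) (R : Subgroup G → Prop) (K : Subgroup G),
    Adm p X₀ H → Md p D₀ H → K ≤ H → H ≤ normalizer (K : Set G) → Ply p D₀ K → Itv p H R →
    (∀ P ≤ H, IsPGroup p P → R P → MM p K P ∧ Nat.card G < Nat.card P + c) →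
    ∀ n, VG X₀ H R (CD D₀) (fun _ => ⊥) n := by
  induction c with
  | zero =>
    intro X₀ H R K a _ _ _ _ _ h n
    exact van_empty fun l s => by
      have := (h _ (Sb_le _ _) (a.pgl s.1 s.2.1) s.2.2).2
      have := (Sb H l).card_le_card_group
      omega
  | succ c ih =>
    intro X₀ H R K a m le nm ply i h n
    refine red_cls (m.ok i) a fun P PH pg r => ?_
    obtain ⟨⟨Q₁, q1, q2, q3⟩, cd⟩ := h P PH pg r
    have a' := a.norm PH pg
    set N := H ⊓ normalizer (P : Set G)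
    have m' : Md p D₀ N := m.mono inf_le_left
    have PN : P ≤ N := le_inf PH le_normalizer
    set K' := N ⊓ (P ⊔ K)
    have PK : P ≤ K' := le_inf PN le_sup_left
    have nm' : N ≤ normalizer (K' : Set G) := fun g hg => mem_normalizer_iff_cj.2 (by
      rw [cj_inf, cj_sup, cj_eq_of_mem hg, cj_eq_of_mem_normalizer hg.2,
        cj_eq_of_mem_normalizer (nm hg.1)])
    have ply' : Ply p D₀ K' := fun g hg => by
      have : g ∈ ((P ⊔ K : Subgroup G) : Set G) := hg.2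
      rw [coe_mul_of_left_le_normalizer_right P K (PH.trans nm)] at this
      obtain ⟨y, hy, k, hk, rfl⟩ := this
      obtain ⟨j, hj⟩ := pg ⟨y, hy⟩
      obtain ⟨k', b, e⟩ := pow_mul_nm (nm (PH hy)) hk (p ^ j)
      rw [show y ^ p ^ j = 1 from congrArg Subtype.val hj, one_mul] at e
      obtain ⟨i, hi⟩ := ply k' b
      exact ⟨j + i, by simpa only [pow_add, pow_mul, e] using hi⟩
    obtain ⟨Q, pQ, lQ, QK⟩ : ∃ Q : Subgroup G, IsPGroup p Q ∧ P < Q ∧ Q ≤ K' := by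
      obtain ⟨T, PT, hT⟩ := exists_isSylowIn_ge pg (le_sup_left : P ≤ P ⊔ K)
      have := (hT.inf_of_normalized le_sup_right (sup_le (PH.trans nm) le_normalizer)).card_le q1 q3
      have lt : P < T := lt_of_le_of_ne PT fun e => by
        have := card_lt_of_lt q2
        subst e; omega
      exact ⟨_, hT.isPGroup.to_inf_left, lt_inf_normalizer_of_lt hT.isPGroup lt,
        le_inf (inf_le_inf_right _ (hT.le.trans (sup_le PH le))) (inf_le_left.trans hT.le)⟩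
    have mP : MM p K' P := ⟨Q, pQ, inf_le_left.trans_lt lQ, QK⟩
    rcases n with _ | n
    · intro f c z
      refine ⟨fun _ => 0, ⟨fun _ _ _ => rfl, fun _ _ _ => zero_mem _, fun _ _ _ _ _ => by simp⟩,
        fun l x y => ?_⟩
      obtain ⟨u, rfl⟩ := List.length_eq_one_iff.1 x
      obtain ⟨w, hw, fw⟩ := a'.ex (QK.trans inf_le_left) pQ
      have mm : ∀ x ∈ [u, w], x ∈ Fp X₀ P := by simpa using ⟨y.2.1 u (by simp), hw⟩
      have := z [u, w] rfl ⟨by simp, mm, le_antisymm (y.2.2 ▸ Sb_mono N (by simp)) (Fp_le PN mm)⟩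
      rw [cb_two, c.z [w] rfl fun t => lQ.not_ge (t.2.2 ▸ fw)] at this
      simpa [cb_cons] using this
    have iM : Itv p N (MM p K') := ⟨fun h hh P r => r.cj (nm' hh), fun _ _ _ _ x _ _ _ y => y.mono x⟩
    refine VG.iff (R' := fun Q => MM p K' Q ∧ Q ≤ P) a' (fun l _ t _ =>
      ⟨fun e => by rw [e]; exact ⟨mP, le_rfl⟩, fun e => le_antisymm e.2 (Fp_le PN t)⟩) ?_
    refine VG.low (m'.ok iM) a' (fun h hh Q r => ⟨iM.rI h hh Q r.1, by
      rw [← cj_eq_of_mem_normalizer hh.2]; exact cj_mono h r.2⟩) (fun _ r => r.1)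
      (fun _ _ x y z => ⟨z, x.trans y.2⟩) (van_MM a' m' inf_le_left nm' ply') ?_
    refine VG.iff (R' := fun Q => MM p K' Q ∧ P < Q) a' (fun l _ t _ => ⟨fun e => ⟨e.1,
      lt_of_le_not_ge (Fp_le PN t) fun q => e.2 ⟨e.1, q⟩⟩, fun e => ⟨e.1, fun q => e.2.not_ge q.2⟩⟩) ?_
    refine ih _ N _ K' a' m' inf_le_left nm' ply' ⟨fun h hh Q r => ⟨iM.rI h hh Q r.1, by
      rw [← cj_eq_of_mem_normalizer hh.2]; exact cj_lt_cj.2 r.2⟩, fun _ _ _ x y _ _ z w =>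
        ⟨w.1.mono y, z.2.trans_le x⟩⟩ (fun Q _ _ r => ⟨r.1, ?_⟩) n
    have := card_lt_of_lt r.2
    omega

/-- **Pruning.** -/
theorem prune (a : Adm p X₀ H) (m : Md p D₀ H) {K : Subgroup G} (le : K ≤ H)
    (nm : H ≤ normalizer (K : Set G)) (ply : Ply p D₀ K) (i : Itv p H R)
    (h : ∀ P ≤ H, IsPGroup p P → R P → MM p K P) : VG X₀ H R (CD D₀) (fun _ => ⊥) n :=
  prune_aux (Nat.card G) X₀ H R K a m le nm ply i
    (fun P x y z => ⟨h P x y z, by have := card_pos' P; omega⟩) n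

end CF.Ex.M
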