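import Cfsg.Agent.Ex.A
import Cfsg.Agent.Fus.Real

/-! S5242: fusion systems that agree with a group fusion system modulo a central subgroup. -/

set_option autoImplicit false

namespace CF.Ex

open Subgroup CF.Fus Set

section
variable {G Gb : Type*} [Group G] [Group Gb] [Finite G] {p : ℕ} [Fact p.Prime] {π : G →* Gb} {S : Subgroup G}
  {F : Cfsg.FusionSystem S}

/-- `F` and the fusion system of `G` agree modulo the central subgroup `ker π` -/
structure Md (p : ℕ) (π : G →* Gb) (F : Cfsg.FusionSystem S) : Prop where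
  sur : Function.Surjective π
  cen : π.ker ≤ Subgroup.center G
  le : π.ker ≤ S
  syl : SylIn p S ⊤
  sat : Sat F p
  ctr : F.IsCentral π.ker
  lift : ∀ (g : G) (P : Subgroup G), π.ker ≤ P → P ≤ S → (∀ u ∈ P, g⁻¹ * u * g ∈ S) →
    ∃ f, Mor F P f ∧ ∀ u ∈ P, π (f u) = π (g⁻¹ * u * g)
  push : ∀ {P f}, Mor F P f → ∃ g : G, ∀ u ∈ P, π (f u) = π (g⁻¹ * u * g)

omit [Finite G] [Fact p.Prime] in
theorem Md.mem_of_eq {P : Subgroup G} (hZ : π.ker ≤ P) {x y : G} (hx : x ∈ P) (e : π x = π y) : y ∈ P := by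
  have : x⁻¹ * y ∈ π.ker := by rw [MonoidHom.mem_ker, map_mul, map_inv, e, inv_mul_cancel]
  simpa using mul_mem hx (hZ this)

omit [Finite G] [Fact p.Prime] in
theorem Md.ker_le_img (h : Md p π F) {P : Subgroup G} {f : G → G} (hf : Mor F P f) (hZ : π.ker ≤ P) :
    π.ker ≤ img f P := fun z hz => central_fix h.ctr hf (hZ hz) hz ▸ mem_img_of_mem (hZ hz)

omit [Fact p.Prime] in
/-- the image of an `F`-map is a conjugate in `G` -/
theorem Md.img_eq (h : Md p π F) {P : Subgroup G} {f : G → G} (hf : Mor F P f) (hZ : π.ker ≤ P) {g : G}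
    (e : ∀ u ∈ P, π (f u) = π (g⁻¹ * u * g)) : img f P = img (cj g⁻¹) P := by
  refine (eq_of_le_of_card_ge (img_le_iff.2 fun u hu => ?_) (by rw [card_img_cj, hf.card_img])).symm
  exact Md.mem_of_eq (h.ker_le_img hf hZ) (mem_img_of_mem hu) (by rw [e u hu]; simp)

theorem Md.fn (h : Md p π F) {P : Subgroup G} (hP : P ≤ S) (hZ : π.ker ≤ P)
    (hs : SylIn p (NS S P) (NS ⊤ P)) : F.IsFullyNormalized P := by
  refine fn_iff.2 ⟨hP, fun Q f hf => ?_⟩
  obtain ⟨g, e⟩ := h.push hf.mor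
  have e1 : img (cj g) Q = P := by
    rw [← hf.img_eq, h.img_eq hf.mor hZ e, img_cj_cj, mul_inv_cancel, img_cj_one]
  rw [← card_img_cj g (NS S Q)]
  refine hs.card_le (img_le_iff.2 fun x hx => ⟨mem_top _, ?_⟩) ((piso_cj g _).isPGroup (h.syl.pg.to_le NS_le))
  exact e1 ▸ (piso_cj_top g).norm_apply le_top (mem_top x) hx.2

/-- a morphism trivial modulo the kernel is inner on a subgroup with `N_S(P)` Sylow in `N_G(P)` -/
theorem Md.inn (h : Md p π F) {P : Subgroup G} {f : G → G} (hf : Mor F P f) (hZ : π.ker ≤ P) (e : ∀ u ∈ P, π (f u) = π u)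
    (hs : SylIn p (NS S P) (NS ⊤ P)) : ∃ s ∈ S, ∀ u ∈ P, f u = s⁻¹ * u * s := by
  have hP := hf.le
  have h1 := h.sat.syl_of_fn (h.fn hP hZ hs)
  obtain ⟨α, hα, eα⟩ := (hf.iso_self fun u hu => Md.mem_of_eq hZ hu (e u hu).symm).exists_aut
  let K : Subgroup (MulAut P) :=
    { carrier := {β | β ∈ F.autGroup P ∧ ∀ u ∈ P, π (Fus.fn β u) = π u}
      mul_mem' := fun {a b} ha hb => ⟨mul_mem ha.1 hb.1, fun u hu => by
        rw [fn_mul, ha.2 _ (fn_mem b hu), hb.2 u hu]⟩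
      one_mem' := ⟨one_mem _, fun u _ => by rw [fn_one]⟩
      inv_mem' := fun {a} ha => ⟨inv_mem ha.1, fun u hu => by rw [← ha.2 _ (fn_mem a⁻¹ hu), fn_fn_inv]⟩ }
  have fx : ∀ β ∈ F.autGroup P, ∀ z ∈ π.ker, Fus.fn β z = z := fun β hβ z hz =>
    central_fix h.ctr (mor_fn hP hβ) (hZ hz) hz
  have dz : ∀ β ∈ K, ∀ u ∈ P, u⁻¹ * Fus.fn β u ∈ π.ker := fun β hβ u hu => by
    rw [MonoidHom.mem_ker, map_mul, map_inv, hβ.2 u hu, inv_mul_cancel]
  have hK : IsPGroup p K := by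
    obtain ⟨k, hk⟩ := IsPGroup.iff_card.1 (h.syl.pg.to_le h.le)
    refine isPGroup_iff_mem.2 fun β hβ => ⟨k, aut_ext fun u hu => ?_⟩
    have : ∀ n : ℕ, Fus.fn (β ^ n) u = u * (u⁻¹ * Fus.fn β u) ^ n := fun n => by
      induction n with
      | zero => simp
      | succ n ih =>
        rw [fn_pow_succ, ih, mulOn_fn β hu (hZ (pow_mem (dz β hβ u hu) n)), fx β hβ.1 _ (pow_mem (dz β hβ u hu) n),
          pow_succ', ← mul_assoc, mul_inv_cancel_left]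
    have h2 := congrArg Subtype.val (pow_card_eq_one' (x := (⟨_, dz β hβ u hu⟩ : π.ker)))
    rw [hk] at h2
    rw [this, fn_one, show (u⁻¹ * Fus.fn β u) ^ p ^ k = 1 from h2, mul_one]
  have cj1 : ∀ γ ∈ F.autGroup P, ∀ β ∈ K, γ * β * γ⁻¹ ∈ K := fun γ hγ β hβ =>
    ⟨mul_mem (mul_mem hγ hβ.1) (inv_mem hγ), fun u hu => by
      have h3 := fn_mem γ⁻¹ hu
      have h4 := dz β hβ _ h3
      rw [fn_mul, fn_mul, show Fus.fn β (Fus.fn γ⁻¹ u) = Fus.fn γ⁻¹ u * ((Fus.fn γ⁻¹ u)⁻¹ * Fus.fn β (Fus.fn γ⁻¹ u)) by group,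
        mulOn_fn γ h3 (hZ h4), fx γ hγ _ h4, fn_fn_inv, map_mul, h4, mul_one]⟩
  have h5 := h1.le_of_norm (C := K) (fun _ hβ => hβ.1) hK fun γ hγ => mem_normalizer_of (cj1 γ (h1.le hγ)) fun β hβ => by
    simpa using cj1 γ⁻¹ (inv_mem (h1.le hγ)) β hβ
  obtain ⟨s, hs, e'⟩ := mem_autInducedBy'.1 (h5 (show α ∈ K from ⟨hα, fun u hu => by rw [eα u hu, e u hu]⟩))
  exact ⟨s⁻¹, inv_mem hs, fun u hu => by rw [← eα u hu, e' u hu, inv_inv]⟩
end

end CF.Ex
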