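/-
Interface of the cohomological part of S5242.
-/
import Cfsg.Agent.Transfer.SylowIn

set_option autoImplicit false

namespace CF.Ex.M
open Subgroup CF.Transfer

variable {G : Type*} [Group G]

/-- `P/A` is `p`-centric in `G/A` -/
def Cc (p : ℕ) (A P : Subgroup G) : Prop :=
  ∀ x : G, (∃ k : ℕ, x ^ p ^ k = 1) → (∀ y ∈ P, x * y * x⁻¹ * y⁻¹ ∈ A) → x ∈ P

/-- on `P`, the map `f` is the commutator with an element of `P` that is central modulo `A` -/
def II (A P : Subgroup G) (f : G → G) : Prop :=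
  ∃ z ∈ P, (∀ y ∈ P, z * y * z⁻¹ * y⁻¹ ∈ A) ∧ ∀ u ∈ P, f u = z * u * z⁻¹ * u⁻¹

/-- on `P`, the map `f` is a homomorphism into `A` that kills `A` -/
def HomA (A P : Subgroup G) (f : G → G) : Prop :=
  (∀ u ∈ P, f u ∈ A) ∧ (∀ u ∈ P, ∀ v ∈ P, f (u * v) = f u * f v) ∧ ∀ a ∈ A, f a = 1

end CF.Ex.M
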