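import Cfsg.Agent.Ex.F0
import Cfsg.Agent.Ex.K0

/-! S5242: a fusion system that agrees with a group modulo a central subgroup is realizable, given the twisting character. -/

set_option autoImplicit false

namespace CF.Ex

open Subgroup CF.Fus CF.Ex.M

/-- the conclusion of the cohomological part -/
def KIs {G : Type*} [Group G] (p : ℕ) (A S : Subgroup G) : Prop := ∀ δ : G → G → G,
    (∀ g, Cc p A (S ⊓ Transfer.cj g S) → HomA A (S ⊓ Transfer.cj g S) (δ g)) → (∀ s ∈ S, II A S (δ s)) →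
    (∀ g h, Cc p A (S ⊓ Transfer.cj g S ⊓ Transfer.cj (g * h) S) →
      II A (S ⊓ Transfer.cj g S ⊓ Transfer.cj (g * h) S) fun u => δ (g * h) u * (δ g u * δ h (g⁻¹ * u * g))⁻¹) →
    ∃ χ : G → G, HomA A S χ ∧ ∀ g, Cc p A (S ⊓ Transfer.cj g S) →
      II A (S ⊓ Transfer.cj g S) fun u => δ g u * χ u * (χ (g⁻¹ * u * g))⁻¹

variable {G Gb : Type*} [Group G] [Group Gb] [Finite G] {p : ℕ} [Fact p.Prime] {π : G →* Gb} {S P : Subgroup G}
  {F : Cfsg.FusionSystem S} {f φ ψ l : G → G}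

omit [Finite G] [Fact p.Prime] in
theorem ker_of_eq {x y : G} (e : π x = π y) : y⁻¹ * x ∈ π.ker := by
  rw [MonoidHom.mem_ker, map_mul, map_inv, e, inv_mul_cancel]

namespace Md

omit [Finite G] [Fact p.Prime] in
theorem cm (h : Md p π F) {a : G} (ha : a ∈ π.ker) (g : G) : g * a = a * g := mem_center_iff.1 (h.cen ha) g

omit [Finite G] [Fact p.Prime] in
theorem cjk (h : Md p π F) {a : G} (ha : a ∈ π.ker) (g : G) : g⁻¹ * a * g = a := by
  rw [h.cm ha, inv_mul_cancel_right]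

omit [Finite G] [Fact p.Prime] in
theorem fixa (h : Md p π F) (hf : Mor F P f) (hZ : π.ker ≤ P) {u a : G} (hu : u ∈ P) (ha : a ∈ π.ker) : f (u * a) = f u * a := by
  rw [hf.mul.map_mul hu (hZ ha), central_fix h.ctr hf (hZ ha) ha]

omit [Finite G] [Fact p.Prime] in
/-- two morphisms that agree modulo the kernel differ by a morphism -/
theorem diff (h : Md p π F) (hφ : Mor F P φ) (hψ : Mor F P ψ) (hZ : π.ker ≤ P) (hl : ∀ u ∈ P, l u ∈ π.ker)
    (e : ∀ u ∈ P, φ u = ψ u * l u) : Mor F P fun u => u * l u := by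
  have q : ∀ u ∈ P, φ u = ψ (u * l u) := fun u hu => by rw [h.fixa hψ hZ hu (hl u hu), e u hu]
  refine (hφ.comp hψ.symm fun u hu => q u hu ▸ mem_img_of_mem (mul_mem hu (hZ (hl u hu)))).congr fun u hu => ?_
  rw [Function.comp_apply, q u hu, hψ.piso.pinv_apply (mul_mem hu (hZ (hl u hu)))]

/-- a morphism trivial modulo the kernel is conjugation by a `p`-element -/
theorem kk (h : Md p π F) (hf : Mor F P f) (hZ : π.ker ≤ P) (e : ∀ u ∈ P, π (f u) = π u) :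
    ∃ z : G, (∃ k, z ^ p ^ k = 1) ∧ ∀ u ∈ P, f u = z⁻¹ * u * z := by
  have hP := h.syl.pg.to_le hf.le
  obtain ⟨T, hPT, hT⟩ := exists_sylIn_ge (le_NS le_top : P ≤ NS ⊤ P) hP
  obtain ⟨b, -, hb⟩ := h.syl.exists_conj le_top hT.pg
  have hT' := hT.map_piso ((piso_cj_top b).restrict le_top)
  rw [(piso_cj_top b).img_NS le_top] at hT'
  have hs : SylIn p (NS S (img (cj b) P)) (NS ⊤ (img (cj b) P)) := by
    have := hT'.max (NS S (img (cj b) P)) (le_inf (img_le_iff.2 hb) (hT'.le.trans NS_le_norm)) (NS_mono le_top)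
      (h.syl.pg.to_le NS_le)
    rwa [this]
  obtain ⟨φ, hφ, eφ⟩ := h.lift b⁻¹ P hZ hf.le fun u hu => by rw [inv_inv]; exact hb u (hPT hu)
  simp only [inv_inv] at eφ
  have hZ' : π.ker ≤ img (cj b) P := fun a ha => mem_img_cj.2 (by rw [h.cjk ha]; exact hZ ha)
  have fP : ∀ u ∈ P, f u ∈ P := fun u hu => by simpa using mul_mem hu (hZ (ker_of_eq (e u hu)))
  have ie : img φ P = img (cj b) P := by
    refine le_antisymm (img_le_iff.2 fun u hu => ?_) (img_le_iff.2 fun u hu => ?_)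
    · exact Md.mem_of_eq hZ' (mem_img_of_mem (f := cj b) hu) (eφ u hu).symm
    · exact Md.mem_of_eq (h.ker_le_img hφ hZ) (mem_img_of_mem hu) (eφ u hu)
  have hα := (hφ.symm.comp hf fun _ => hφ.piso.pinv_mem).comp hφ fun _ hy => fP _ (hφ.piso.pinv_mem hy)
  have fe : ∀ u ∈ P, φ (f u) = φ u * (u⁻¹ * f u) := fun u hu => by
    rw [← h.fixa hφ hZ hu (ker_of_eq (e u hu)), mul_inv_cancel_left]
  obtain ⟨s, hs1, hs2⟩ := h.inn hα (ie ▸ hZ') (fun y hy => by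
    obtain ⟨u, hu, rfl⟩ := hφ.mem_img.1 hy
    simp only [Function.comp_apply, hφ.piso.pinv_apply hu]
    rw [fe u hu, map_mul, ker_of_eq (e u hu), mul_one]) (ie ▸ hs)
  obtain ⟨k, hk⟩ := isPGroup_iff_mem.1 h.syl.pg s hs1
  refine ⟨b⁻¹ * s * b, ⟨k, by simpa [hk] using conj_pow (a := b⁻¹) (b := s) (i := p ^ k)⟩, fun u hu => ?_⟩
  have q := hs2 _ (mem_img_of_mem hu)
  simp only [Function.comp_apply, hφ.piso.pinv_apply hu] at q
  have ha := ker_of_eq (eφ u hu)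
  have hl := ker_of_eq (e u hu)
  obtain ⟨a, ea⟩ : ∃ a, (b * u * b⁻¹)⁻¹ * φ u = a := ⟨_, rfl⟩
  obtain ⟨c, ec⟩ : ∃ c, u⁻¹ * f u = c := ⟨_, rfl⟩
  rw [fe u hu, ec, inv_mul_eq_iff_eq_mul.1 ea, mul_assoc _ a c] at q
  rw [ea] at ha
  rw [ec] at hl
  rw [inv_mul_eq_iff_eq_mul.1 ec]
  have q2 : b * u * b⁻¹ * c = s⁻¹ * (b * u * b⁻¹) * s := by
    apply mul_right_cancel (b := a)
    calc _ = b * u * b⁻¹ * a * c := by rw [mul_assoc _ c a, h.cm ha c, ← mul_assoc]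
      _ = s⁻¹ * (b * u * b⁻¹ * a) * s := by rw [mul_assoc _ a c]; exact q
      _ = _ := by rw [mul_assoc s⁻¹ _ s, mul_assoc _ a s, ← h.cm ha s]; group
  calc u * c = b⁻¹ * (b * u * b⁻¹ * c) * b := by rw [mul_assoc b⁻¹ _ b, mul_assoc _ c b, ← h.cm hl b]; group
    _ = _ := by rw [q2]; group

theorem ii (h : Md p π F) (hc : Cc p π.ker P) (hZ : π.ker ≤ P) (hl : ∀ u ∈ P, l u ∈ π.ker) (hf : Mor F P fun u => u * l u) :
    II π.ker P l := by
  obtain ⟨z, ⟨k, hk⟩, e⟩ := h.kk hf hZ fun u hu => by rw [map_mul, hl u hu, mul_one]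
  have q : ∀ u ∈ P, l u = z⁻¹ * u * z⁻¹⁻¹ * u⁻¹ := fun u hu => by
    rw [inv_inv, ← e u hu, h.cm (hl u hu), mul_inv_cancel_right]
  exact ⟨z⁻¹, hc _ ⟨k, by rw [inv_pow, hk, inv_one]⟩ fun y hy => q y hy ▸ hl y hy, fun y hy => q y hy ▸ hl y hy, q⟩

omit [Finite G] in
theorem ccS (h : Md p π F) : Cc p π.ker S := fun x ⟨k, hk⟩ hx => by
  haveI := h.sat.fin
  have hn : x ∈ normalizer (S : Set G) := mem_normalizer_of_le le_rfl fun y hy => by
    simpa using mul_mem (h.le (hx y hy)) hy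
  have := h.syl.max (zpowers x ⊔ S) le_sup_right le_top
    (isPGroup_sup_of_norm (isPGroup_zpowers hk) h.syl.pg (zpowers_le.2 hn))
  exact this ▸ mem_sup_left (mem_zpowers x)

/-- centric radical subgroups of `G` have centric image -/
theorem cc_of (h : Md p π F) (hc : (FG ⊤ S h.syl.le).IsCentric P) (hr : (FG ⊤ S h.syl.le).IsRadical p P) :
    π.ker ≤ P ∧ Cc p π.ker P := by
  have hP := h.syl.pg.to_le hc.1
  have c := (centricG_iff h.syl hc.1).1 hc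
  have hZ : π.ker ≤ P := c _ (fun a ha => mem_CS.2 ⟨trivial, fun x _ => h.cm ha x⟩) (h.syl.pg.to_le h.le)
  refine ⟨hZ, fun x ⟨k, hk⟩ hx => ?_⟩
  have hn : x ∈ normalizer (P : Set G) := mem_normalizer_of_le le_rfl fun y hy => by
    simpa using mul_mem (hZ (hx y hy)) hy
  let K : Subgroup (MulAut P) :=
    { carrier := {α | α ∈ (FG ⊤ S h.syl.le).autGroup P ∧ ∀ y ∈ P, π (Fus.fn α y) = π y}
      mul_mem' := fun ha hb => ⟨mul_mem ha.1 hb.1, fun y hy => by rw [fn_mul, ha.2 _ (fn_mem _ hy), hb.2 y hy]⟩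
      one_mem' := ⟨one_mem _, fun y _ => by rw [fn_one]⟩
      inv_mem' := fun {a} ha => ⟨inv_mem ha.1, fun y hy => by rw [← ha.2 _ (fn_mem a⁻¹ hy), fn_fn_inv]⟩ }
  have el : ∀ α ∈ (FG ⊤ S h.syl.le).autGroup P, ∃ s : G, ∀ y ∈ P, Fus.fn α y = s * y * s⁻¹ := fun α hα =>
    let ⟨s, _, e⟩ := morG_elt (mor_fn hc.1 hα); ⟨s, e⟩
  have hK : IsPGroup p K := isPGroup_of_fix_triv (Q := π.ker) hP (fun α hα a ha => by
    obtain ⟨s, e⟩ := el α hα.1
    rw [e a (hZ ha), h.cm ha, mul_inv_cancel_right]) fun α hα y hy => ker_of_eq (hα.2 y hy)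
  have nK : ∀ β ∈ (FG ⊤ S h.syl.le).autGroup P, ∀ α ∈ K, β * α * β⁻¹ ∈ K := fun β hβ α hα =>
    ⟨mul_mem (mul_mem hβ hα.1) (inv_mem hβ), fun y hy => by
      obtain ⟨s, e⟩ := el β hβ
      rw [fn_mul, fn_mul, e _ (fn_mem _ (fn_mem _ hy)), map_mul, map_mul, hα.2 _ (fn_mem _ hy), ← map_mul, ← map_mul,
        ← e _ (fn_mem _ hy), fn_fn_inv]⟩
  have h1 : cA P x ∈ Cfsg.Inn P := by
    rw [← (radical_iff.1 hr).2]
    refine le_OpIn (C := K) (fun _ q => q.1) (fun β hβ => mem_normalizer_of (nK β hβ) fun α hα => ?_) hK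
      ⟨(morG_cj _ hc.1 (mem_top x) fun y hy => hc.1 (conj_mem_of_norm hn hy)).aut_mem' fun y hy => fn_cA hn hy, fun y hy => ?_⟩
    · simpa using nK _ (inv_mem hβ) α hα
    · have := hx y hy
      rwa [MonoidHom.mem_ker, map_mul, map_inv, mul_inv_eq_one, ← fn_cA hn hy] at this
  obtain ⟨q, hq, e⟩ := mem_Inn.1 h1
  have h2 := (cA_eq_cA_iff (le_normalizer hq) hn).1 e
  obtain ⟨j, hj⟩ := isPGroup_iff_mem.1 (isPGroup_sup_of_norm (isPGroup_zpowers hk) hP (zpowers_le.2 hn)) (q⁻¹ * x)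
    (mul_mem (mem_sup_right (inv_mem hq)) (mem_sup_left (mem_zpowers x)))
  simpa using mul_mem hq (c _ (zpowers_le.2 ⟨trivial, h2⟩) (isPGroup_zpowers hj) (mem_zpowers _))

/-- the twisting character -/
theorem chi (h : Md p π F) (ki : KIs p π.ker S) : ∃ χ : G → G, HomA π.ker S χ ∧ ∀ (g : G) (P : Subgroup G), Cc p π.ker P → P ≤ S →
    (∀ u ∈ P, g⁻¹ * u * g ∈ S) → ∃ f, Mor F P f ∧ ∀ u ∈ P, ∀ a ∈ π.ker,
      f u * a = g⁻¹ * u * g * (χ (g⁻¹ * u * g) * (χ u)⁻¹ * a) := by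
  have mem : ∀ {g u : G}, u ∈ S ⊓ Transfer.cj g S ↔ u ∈ S ∧ g⁻¹ * u * g ∈ S := by
    intro g u; rw [mem_inf, Transfer.mem_cj]
  have kP : ∀ g, π.ker ≤ S ⊓ Transfer.cj g S := fun g a ha => mem.2 ⟨h.le ha, by rw [h.cjk ha]; exact h.le ha⟩
  choose Φ hΦ eΦ using fun g => h.lift g (S ⊓ Transfer.cj g S) (kP g) inf_le_left fun u hu => (mem.1 hu).2
  let δ : G → G → G := fun g u => (g⁻¹ * u * g)⁻¹ * Φ g u
  have dk : ∀ g, ∀ u ∈ S ⊓ Transfer.cj g S, δ g u ∈ π.ker := fun g u hu => ker_of_eq (eΦ g u hu)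
  have de : ∀ g u, Φ g u = g⁻¹ * u * g * δ g u := fun g u => (mul_inv_cancel_left _ _).symm
  have da : ∀ g, ∀ u ∈ S ⊓ Transfer.cj g S, ∀ a ∈ π.ker, δ g (u * a) = δ g u := fun g u hu a ha => by
    simp only [δ]
    rw [h.fixa (hΦ g) (kP g) hu ha, de g u, mul_assoc _ _ a, h.cm ha (δ g u), ← mul_assoc g⁻¹ u a, mul_assoc _ a g, ← h.cm ha g]
    group
  obtain ⟨χ, hχ, e⟩ := ki δ (fun g _ => ⟨dk g, fun u hu v hv => by
      apply mul_left_cancel (a := g⁻¹ * (u * v) * g)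
      rw [← de, (hΦ g).mul.map_mul hu hv, de g u, de g v, mul_assoc _ (δ g u), ← mul_assoc (δ g u), ← h.cm (dk g u hu)]
      group, fun a ha => by
      simp only [δ]
      rw [central_fix h.ctr (hΦ g) (kP g ha) ha, h.cjk ha, inv_mul_cancel]⟩)
    (fun s hs => by
      have m : ∀ u ∈ S, u ∈ S ⊓ Transfer.cj s S := fun u hu => mem.2 ⟨hu, mul_mem (mul_mem (inv_mem hs) hu) hs⟩
      refine h.ii h.ccS h.le (fun u hu => dk s u (m u hu)) ((((hΦ s).mono m).cj_comp hs).congr fun u hu => ?_)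
      rw [Function.comp_apply, cj_apply, de, mul_assoc s _ s⁻¹, mul_assoc _ _ s⁻¹, ← h.cm (dk s u (m u hu))]
      group)
    (fun g k hc => by
      have m1 : S ⊓ Transfer.cj g S ⊓ Transfer.cj (g * k) S ≤ S ⊓ Transfer.cj (g * k) S := inf_le_inf_right _ inf_le_left
      have m2 : ∀ u ∈ S ⊓ Transfer.cj g S ⊓ Transfer.cj (g * k) S, g⁻¹ * u * g ∈ S ⊓ Transfer.cj k S := fun u hu =>
        mem.2 ⟨(mem.1 hu.1).2, by simpa [mul_assoc] using (mem.1 (m1 hu)).2⟩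
      have hZ : π.ker ≤ S ⊓ Transfer.cj g S ⊓ Transfer.cj (g * k) S := le_inf (kP g) ((kP _).trans inf_le_right)
      have hl : ∀ u ∈ S ⊓ Transfer.cj g S ⊓ Transfer.cj (g * k) S, δ (g * k) u * (δ g u * δ k (g⁻¹ * u * g))⁻¹ ∈ π.ker :=
        fun u hu => mul_mem (dk _ u (m1 hu)) (inv_mem (mul_mem (dk g u hu.1) (dk k _ (m2 u hu))))
      refine h.ii hc hZ hl (h.diff ((hΦ (g * k)).mono m1) (((hΦ g).mono inf_le_left).comp (hΦ k) fun u hu => ?_) hZ hl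
        fun u hu => ?_)
      · rw [de]; exact mul_mem (m2 u hu) (kP k (dk g u hu.1))
      · rw [Function.comp_apply, de g u, h.fixa (hΦ k) (kP k) (m2 u hu) (dk g u hu.1), de k, de (g * k),
          ← h.cm (dk _ u (m1 hu)), h.cm (dk k _ (m2 u hu)) (δ g u)]
        group)
  refine ⟨χ, hχ, fun g P hc hP hg => ?_⟩
  have le : P ≤ S ⊓ Transfer.cj g S := fun u hu => mem.2 ⟨hP hu, hg u hu⟩
  obtain ⟨z, hz, hb, ez⟩ := e g fun x hx hy => le (hc x hx fun y hy' => hy y (le hy'))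
  have q : ∀ u ∈ P, z⁻¹ * u * z⁻¹⁻¹ = u * (z * u * z⁻¹ * u⁻¹)⁻¹ := fun u hu => by
    rw [h.cm (inv_mem (hb u (le hu))), eq_inv_mul_iff_mul_eq, ← h.cm (hb u (le hu)), inv_inv]
    calc _ = z⁻¹ * (u * z * (z * u * z⁻¹ * u⁻¹)) := by group
      _ = z⁻¹ * (u * (z * u * z⁻¹ * u⁻¹) * z) := by rw [mul_assoc u z, h.cm (hb u (le hu)) z, ← mul_assoc u]
      _ = z⁻¹ * ((z * u * z⁻¹ * u⁻¹) * u * z) := by rw [h.cm (hb u (le hu)) u]
      _ = u := by group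
  refine ⟨_, (hΦ g).comp_cj (inv_mem hz.1) hP fun u hu => q u hu ▸ mul_mem (le hu) (kP g (inv_mem (hb u (le hu)))),
    fun u hu a _ => ?_⟩
  rw [Function.comp_apply, cj_apply, q u hu, h.fixa (hΦ g) (kP g) (le hu) (inv_mem (hb u (le hu))), ← ez u (le hu), de g u]
  have := h.cm (dk g u (le hu)) (χ (g⁻¹ * u * g) * (χ u)⁻¹)
  calc _ = g⁻¹ * u * g * ((δ g u * (χ (g⁻¹ * u * g) * (χ u)⁻¹)) * (δ g u)⁻¹ * a) := by group
    _ = _ := by rw [← this]; group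

theorem real' (h : Md p π F) (ki : KIs p π.ker S) : ∃ j : G → G, Real F p j ⊤ := by
  obtain ⟨χ, ⟨c1, c2, c3⟩, e⟩ := h.chi ki
  have ca : ∀ u ∈ S, ∀ a ∈ π.ker, χ (u * a) = χ u := fun u hu a ha => by rw [c2 u hu a (h.le ha), c3 a ha, mul_one]
  let j : G → G := fun u => u * (χ u)⁻¹
  have jS : ∀ u ∈ S, j u ∈ S := fun u hu => mul_mem hu (inv_mem (h.le (c1 u hu)))
  have jm : MulOn j S := fun u hu v hv => by
    simp only [j]
    rw [c2 u hu v hv, mul_assoc u (χ u)⁻¹, ← mul_assoc (χ u)⁻¹, ← h.cm (inv_mem (c1 u hu)) v,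
      h.cm (c1 v hv) (χ u)]
    group
  have ji : ∀ v ∈ S, j (v * χ v) = v := fun v hv => by
    simp only [j]; rw [ca v hv _ (c1 v hv), mul_inv_cancel_right]
  have ij : ∀ u ∈ S, j u * χ (j u) = u := fun u hu => by
    simp only [j]; rw [ca u hu _ (inv_mem (c1 u hu)), inv_mul_cancel_right]
  have im : img j S = S := le_antisymm (img_le_iff.2 jS) fun v hv =>
    ji v hv ▸ mem_img_of_mem (mul_mem hv (h.le (c1 v hv)))
  have al := (satG h.syl).alperin (M := fun P f => ∃ f', Mor F (P ⊔ π.ker) f' ∧ ∀ x ∈ P, f' (x * χ x) = f x * χ (f x))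
    (fun _ ⟨f', h1, h2⟩ le q => ⟨f', h1.mono (sup_le_sup_right le _), fun x hx => by rw [h2 x (le hx), q x hx]⟩)
    (fun {P Q f g} hf _ ⟨f', h1, h2⟩ ⟨g', h3, h4⟩ q => ⟨g' ∘ f', h1.comp h3 (h1.mul.maps_sup (fun x hx => by
        have := h.fixa h1 le_sup_right (mem_sup_left hx) (c1 x (hf.le hx))
        rw [h2 x hx] at this
        rw [← mul_inv_eq_iff_eq_mul.2 this]
        exact mul_mem (mul_mem (mem_sup_left (q x hx)) (mem_sup_right (c1 _ (hf.maps hx))))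
          (inv_mem (mem_sup_right (c1 x (hf.le hx)))))
        fun a ha => by rw [central_fix h.ctr h1 (mem_sup_right ha) ha]; exact mem_sup_right ha),
      fun x hx => by rw [Function.comp_apply, h2 x hx, h4 _ (q x hx), Function.comp_apply]⟩)
    (fun P hP α hα => by
      obtain ⟨-, hc, hr⟩ := (satG h.syl).ess_or_top_cr hP
      obtain ⟨hZ, cc⟩ := h.cc_of hc hr
      obtain ⟨s, -, es⟩ := morG_elt (mor_fn hc.1 hα)
      obtain ⟨f', h1, h2⟩ := e s⁻¹ P cc hc.1 fun u hu => by rw [inv_inv, ← es u hu]; exact hc.1 (fn_mem α hu)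
      refine ⟨f', by rwa [sup_eq_left.2 hZ], fun x hx => ?_⟩
      rw [h.fixa h1 hZ hx (c1 x (hc.1 hx)), h2 x hx _ (c1 x (hc.1 hx)), inv_inv, ← es x hx, inv_mul_cancel_right])
  have mor : ∀ {P g}, P ≤ S → (∀ x ∈ P, g * j x * g⁻¹ ∈ S) → ∃ f, Mor F P f ∧ ∀ x ∈ P, g * j x * g⁻¹ = j (f x) := by
    intro P g hP hg
    have m : ∀ y ∈ img j P, g * y * g⁻¹ ∈ S := fun y hy => by
      obtain ⟨x, hx, rfl⟩ := (jm.mono hP).mem_img.1 hy
      exact hg x hx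
    obtain ⟨f', h1, h2⟩ := al (img j P) (cj g) (morG_cj _ (img_le_iff.2 fun x hx => jS x (hP hx)) (mem_top g) m)
    refine ⟨f', h1.mono fun x hx => ?_, fun x hx => ?_⟩
    · rw [← ij x (hP hx)]
      exact mul_mem (mem_sup_left (mem_img_of_mem hx)) (mem_sup_right (c1 _ (jS x (hP hx))))
    · have := h2 _ (mem_img_of_mem hx)
      rw [ij x (hP hx)] at this
      rw [this, cj_apply, ji _ (hg x hx)]
  refine ⟨j, inferInstance, jm, fun s hs q => ?_, im.symm ▸ h.syl, fun {P f} hf => ?_, fun hP _ hg => mor hP (im ▸ hg)⟩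
  · have q' : s = χ s := mul_inv_eq_one.1 q
    rw [q', c3 s (q' ▸ c1 s hs)]
  · obtain ⟨f1, h1, e1, -⟩ := central_ext h.ctr hf
    obtain ⟨g, hg⟩ := h.push h1
    have pj : ∀ u ∈ S, π (j u) = π u := fun u hu => by simp only [j]; rw [map_mul, map_inv, c1 u hu, inv_one, mul_one]
    obtain ⟨f2, h2, e2⟩ := mor (g := g⁻¹) h1.le fun x hx => by
      have : π (g⁻¹ * j x * g⁻¹⁻¹) = π (f1 x) := by rw [hg x hx, inv_inv, map_mul, map_mul, pj x (h1.le hx), ← map_mul, ← map_mul]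
      simpa using mul_mem (h1.maps hx) (h.le (ker_of_eq this))
    have hl : ∀ u ∈ P ⊔ π.ker, (f2 u)⁻¹ * f1 u ∈ π.ker := fun u hu => ker_of_eq (by
      rw [hg u hu, ← pj _ (h2.maps hu), ← e2 u hu, inv_inv, map_mul, map_mul, map_mul, map_mul, pj u (h1.le hu)])
    obtain ⟨z, -, ez⟩ := h.kk (h.diff h1 h2 le_sup_right hl fun u _ => (mul_inv_cancel_left _ _).symm) le_sup_right
      fun u hu => by rw [map_mul, hl u hu, mul_one]
    refine ⟨g⁻¹ * z⁻¹, trivial, fun x hx => ?_⟩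
    have hx' : x ∈ P ⊔ π.ker := mem_sup_left hx
    obtain ⟨a, ea⟩ : ∃ a, (f2 x)⁻¹ * f1 x = a := ⟨_, rfl⟩
    have ha := hl x hx'
    have q := ez x hx'
    simp only [ea] at ha q
    rw [← e1 x hx, inv_mul_eq_iff_eq_mul.1 ea, jm.map_mul (h2.maps hx') (h.le ha), ← e2 x hx']
    simp only [j]
    rw [c3 a ha, inv_one, mul_one, inv_inv, mul_assoc _ g a, h.cm ha g]
    have q1 := h.cm (inv_mem (c1 x (hf.le hx))) z
    have q2 := h.cm ha (χ x)⁻¹
    calc _ = g⁻¹ * (z⁻¹ * x * ((χ x)⁻¹ * z)) * g := by group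
      _ = g⁻¹ * (x * a * (χ x)⁻¹) * g := by rw [← q1, ← mul_assoc _ z, ← q]
      _ = _ := by rw [mul_assoc x a, ← q2]; group

end Md

end CF.Ex
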