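import Cfsg.Agent.Ex.F0

/-! S5242: the passage between `F`, `F/A` and groups. -/

set_option autoImplicit false

namespace CF.Ex.F2

open Subgroup CF.Fus Set Cfsg Cfsg.FusionSystem

universe u

section
variable {Ω : Type u} [Group Ω] {S : Subgroup Ω} {F : FusionSystem S} {p : ℕ} [Fact p.Prime]

theorem rz_of_real {G : Type*} [Group G] {t : Ω → G} {H : Subgroup G} (h : Real F p t H) : F.IsRealizable p := by
  haveI := h.fin
  have e : H ≃* Shrink.{u} H := Shrink.mulEquiv.symm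
  have h1 := h.restrict.map (mulOn_hom e.toMonoidHom ⊤) fun s hs e' =>
    h.restrict.inj s hs (e.map_eq_one_iff.1 e')
  rw [img_hom, map_top_of_surjective _ e.surjective] at h1
  exact ⟨_, _, Finite.of_equiv _ e.toEquiv, h1.mul.hom, (realized_iff _ h1.mul.hom_apply
    h1.mul.img_eq_range.symm).2 h1.iso, h1.mul.img_eq_range ▸ h1.syl.exists_sylow⟩

omit [Fact p.Prime] in
theorem real_of_rz (h : F.IsRealizable p) :
    ∃ (G : Type u) (_ : Group G) (_ : Finite G) (t : Ω → G), Real F p t ⊤ := by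
  obtain ⟨G, _, _, ι, h1, T, h2⟩ := h
  exact ⟨G, _, ‹_›, _, ((realized_iff ι (fun x => (ext_coe ι x).symm) h2.symm).1 h1).toReal (sylIn_top T)⟩
end

variable {Ω Ω' Gb G : Type*} [Group Ω] [Group Ω'] [Group Gb] [Group G] {S A : Subgroup Ω} {S' : Subgroup Ω'}
  {F : FusionSystem S} {E : FusionSystem S'} {p : ℕ} [Fact p.Prime] {v : Ω → Ω'} {w : Ω' → Gb}

/-- a factor system of a realizable system by a normal subgroup is realizable -/
theorem easy (hv : Fac F v E) (hA : F.IsNormal (pre v S ⊥)) (h : F.IsRealizable p) : E.IsRealizable p := by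
  obtain ⟨G, _, _, t, h0⟩ := real_of_rz h
  have h1 := h0.norm hA
  have hn : NS ⊤ (img t (pre v S ⊥)) ≤ normalizer (img t (pre v S ⊥) : Set G) := NS_le_norm
  generalize NS ⊤ (img t (pre v S ⊥)) = K at h1 hn
  haveI : ((img t (pre v S ⊥)).subgroupOf K).Normal := normal_subgroupOf_of_le_normalizer hn
  obtain ⟨w, h2, -⟩ := h1.fac hv ((piso_toSub K).mul.comp
    (mulOn_hom (QuotientGroup.mk' ((img t (pre v S ⊥)).subgroupOf K)) ⊤) fun _ _ => mem_top _) fun s hs => by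
      rw [Function.comp_apply, QuotientGroup.mk'_apply, QuotientGroup.eq_one_iff, mem_subgroupOf,
        coe_toSub (h1.maps hs), h1.piso.mem_img_iff pre_le hs, hv.mul.mem_ker]
      exact and_iff_right hs
  exact rz_of_real h2

omit [Fact p.Prime] in
theorem mulOn_t (hv : Fac F v E) (hw : Real E p w ⊤) : MulOn (w ∘ v) S := hv.mul.comp hw.mul fun _ => hv.maps
omit [Fact p.Prime] in
theorem img_t (hv : Fac F v E) : img (w ∘ v) S = img w S' := by rw [← hv.mul.img_img, hv.img_eq]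
omit [Fact p.Prime] in
theorem ker_t (hv : Fac F v E) (hw : Real E p w ⊤) : ∀ s ∈ S, (w ∘ v) s = 1 ↔ s ∈ pre v S ⊥ := fun s hs => by
  rw [hv.mul.mem_ker, Function.comp_apply, hw.piso.eq_one_iff (hv.maps hs)]; exact (and_iff_right hs).symm

omit [Fact p.Prime] in
/-- lifts of the conjugation maps of a group realizing the factor system -/
theorem ex_lift (hv : Fac F v E) (hA : F.IsCentral (pre v S ⊥)) (hw : Real E p w ⊤) :
    ∃ Φ : Gb → Ω → Ω, Lift S (pre v S ⊥) (w ∘ v) (img w S') Φ ∧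
      ∀ (g : Gb) (P : Subgroup Ω), P ≤ S → (∀ u ∈ P, g⁻¹ * w (v u) * g ∈ img w S') → Mor F P (Φ g) := by
  have key : ∀ g : Gb, ∃ f, Mor F (pre v S (pre w S' (img (cj g) (img w S')))) f ∧
      ∀ u ∈ pre v S (pre w S' (img (cj g) (img w S'))), w (v (f u)) = g⁻¹ * w (v u) * g := fun g => by
    obtain ⟨f', h1, e1⟩ := hw.mor (P := pre w S' (img (cj g) (img w S'))) pre_le (mem_top g⁻¹) fun x hx => by
      rw [inv_inv]; exact mem_img_cj.1 (hw.mul.mem_pre.1 hx).2
    obtain ⟨f, h2, e2⟩ := hv.lift h1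
    exact ⟨f, h2, fun u hu => by rw [← e2 u hu, ← e1 _ (hv.mul.mem_pre.1 hu).2, inv_inv]⟩
  choose Φ h1 h2 using key
  have hm : ∀ (g : Gb) (u : Ω), u ∈ S → g⁻¹ * w (v u) * g ∈ img w S' →
      u ∈ pre v S (pre w S' (img (cj g) (img w S'))) := fun g u hu h =>
    mem_pre_of hu (mem_pre_of (hv.maps hu) (mem_img_cj.2 h))
  exact ⟨Φ, ⟨fun g u hu h => ⟨(h1 g).maps (hm g u hu h), h2 g u (hm g u hu h)⟩,
    fun g u hu u' hu' h h' => (h1 g).mul (hm g u hu h) (hm g u' hu' h'),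
    fun g a ha => central_fix hA (h1 g) (ker_le_pre ha) ha⟩,
    fun g P hP h => (h1 g).mono fun u hu => hm g u (hP hu) (h u hu)⟩

/-- the transported system agrees with the extension group modulo the kernel -/
theorem ex_md (hF : Sat F p) (hv : Fac F v E) (hA : F.IsCentral (pre v S ⊥)) (hw : Real E p w ⊤)
    {π : G →* Gb} {j : Ω → G} (sur : Function.Surjective π) (hj : MulOn j S) (inj : ∀ s ∈ S, j s = 1 → s = 1)
    (e : ∀ s ∈ S, π (j s) = (w ∘ v) s) (hk : π.ker = img j (pre v S ⊥)) (hc : π.ker ≤ Subgroup.center G) :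
    ∃ D : FusionSystem (img j S), FIso F j D ∧ Md p π D := by
  haveI := hF.fin
  have hp : PIso j S (img j S) := ⟨hj, hj.inj_iff.1 (le_bot_iff.1 fun x hx =>
    inj x (hj.mem_ker.1 hx).1 (hj.mem_ker.1 hx).2), rfl⟩
  obtain ⟨D, hD⟩ := exists_fiso F hp
  obtain ⟨Φ, hΦ, hΦ'⟩ := ex_lift hv hA hw
  have hle : π.ker ≤ img j S := hk ▸ img_mono pre_le
  have hS : img j S = (img w S').comap π := le_antisymm
    (img_le_iff.2 fun s hs => by rw [mem_comap, e s hs]; exact mem_img_of_mem (hv.maps hs)) fun x hx => by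
      obtain ⟨s, hs, e'⟩ := (mulOn_t hv hw).mem_img.1 ((img_t hv).ge (mem_comap.1 hx))
      exact Md.mem_of_eq hle (mem_img_of_mem hs) ((e s hs).trans e')
  have hsat := hD.sat' hF
  refine ⟨D, hD, sur, hc, hle, ?_, hsat, hk ▸ hD.central hA, fun g P _ hP h => ?_, fun {P f} hf => ?_⟩
  · have := hw.syl.comap π (hsat.pg.to_le hle) fun x _ => sur x
    rwa [← hS, comap_top] at this
  · obtain ⟨P0, h0, rfl⟩ := hD.exists_img hP
    have h1 : ∀ u ∈ P0, (π g)⁻¹ * w (v u) * π g ∈ img w S' := fun u hu => by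
      have := hS.le (h _ (mem_img_of_mem hu))
      rwa [mem_comap, map_mul, map_mul, map_inv, e u (h0 hu)] at this
    obtain ⟨f, h2, e2⟩ := hD.mph.push (hΦ' (π g) P0 h0 h1)
    refine ⟨f, h2, fun y hy => ?_⟩
    obtain ⟨u, hu, rfl⟩ := (hj.mono h0).mem_img.1 hy
    have h3 := hΦ.mem (π g) u (h0 hu) (h1 u hu)
    rw [e2 u hu, e _ h3.1, h3.2, map_mul, map_mul, map_inv, e u (h0 hu)]
  · obtain ⟨P0, h0, rfl⟩ := hD.exists_img hf.le
    obtain ⟨f0, h1, e1⟩ := hD.pull h0 hf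
    obtain ⟨f', h2, e2⟩ := (hv.smph hF (sc_of_normal (normal_of_central hA))).push h1
    obtain ⟨g, -, e3⟩ := hw.real h2
    obtain ⟨g0, rfl⟩ := sur g
    refine ⟨g0⁻¹, fun y hy => ?_⟩
    obtain ⟨u, hu, rfl⟩ := (hj.mono h0).mem_img.1 hy
    rw [e1 u hu, e _ (h1.maps hu), inv_inv, map_mul, map_mul, map_inv, e u (h0 hu), Function.comp_apply,
      Function.comp_apply, ← e2 u hu, e3 _ (mem_img_of_mem hu)]

end CF.Ex.F2
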