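/-
Transvections on an abelian 2-group: braid relations, purity, control of fixed points.
-/
import Cfsg.Agent.Ex.T1

set_option autoImplicit false
set_option linter.unusedSectionVars false

namespace CF.Ex.T
open Subgroup CF.Transfer

variable {G D : Type*} [Group G] [AddCommGroup D] [DistribMulAction G D]

namespace Tv
variable {a b c : G} {u w x : D}

theorem mv (h : Tv a u) {v : D} (m : a • v ≠ v) : a • v = v + u := (h.2 v).resolve_left m

theorem ne0 (h : Tv a u) : u ≠ 0 := fun e => let ⟨_, m⟩ := h.1; m (by rw [h.mv m, e, add_zero])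

theorem fix (h : Tv a u) : a • u = u := by
  obtain ⟨v, m⟩ := h.1
  rcases h.2 (v + u) with e | e <;> rw [smul_add, h.mv m] at e
  · have : a • u = 0 := by simpa using e
    exact absurd (by simpa using congrArg (a⁻¹ • ·) this) h.ne0
  · simpa using e

theorem two (h : Tv a u) : u + u = 0 := by
  obtain ⟨v, m⟩ := h.1
  rcases h.2 (v + v) with e | e <;> rw [smul_add, h.mv m] at e
  · linear_combination (norm := abel) e
  · exact absurd (by linear_combination (norm := abel) e) h.ne0

theorem uq (h : Tv a u) (k : Tv a w) : u = w := by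
  obtain ⟨v, m⟩ := h.1
  simpa using (h.mv m).symm.trans (k.mv m)

theorem cj (h : Tv a u) (g : G) : Tv (g * a * g⁻¹) (g • u) := by
  obtain ⟨v, m⟩ := h.1
  refine ⟨⟨g • v, by simpa [mul_smul] using m⟩, fun v => ?_⟩
  rcases h.2 (g⁻¹ • v) with e | e <;> simp [mul_smul, e]

theorem add_mv (h : Tv a u) {v v' : D} (m : a • v ≠ v) (m' : a • v' ≠ v') :
    a • (v + v') = v + v' := by
  rw [smul_add, h.mv m, h.mv m']; linear_combination (norm := abel) h.two

theorem fix_add {v v' : D} (m : a • v' = v') : a • (v + v') = v + v' ↔ a • v = v := by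
  rw [smul_add, m, add_left_inj]

theorem mv_add (h : Tv a u) {v v' : D} (m : a • v' ≠ v') : a • (v + v') = v + v' ↔ a • v ≠ v :=
  ⟨fun e c => m (by rwa [smul_add, c, add_right_inj] at e), fun e => h.add_mv e m⟩

theorem ss (h : Tv a u) (v : D) : a • a • v = v := by
  rcases h.2 v with e | e
  · rw [e, e]
  · rw [e, smul_add, e, h.fix]; linear_combination (norm := abel) h.two

theorem of_cm (k : Tv b w) (e : a * b = b * a) : a • w = w := by
  have := k.cj a
  rw [e, mul_inv_cancel_right] at this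
  exact this.uq k

variable [FaithfulSMul G D]

theorem ext' (h : ∀ v : D, a • v = b • v) : a = b := FaithfulSMul.eq_of_smul_eq_smul h

theorem sq (h : Tv a u) : a * a = 1 := ext' (D := D) fun v => by rw [mul_smul, h.ss, one_smul]

theorem inv (h : Tv a u) : a⁻¹ = a := inv_eq_of_mul_eq_one_right h.sq

theorem ne1 (h : Tv a u) : a ≠ 1 := fun e => let ⟨_, m⟩ := h.1; m (by rw [e, one_smul])

theorem eq (h : Tv a u) (k : Tv b u) (ax : ∀ v : D, a • v = v ↔ b • v = v) : a = b :=
  ext' (D := D) fun v => by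
    by_cases c : a • v = v
    · rw [c, (ax v).1 c]
    · rw [h.mv c, k.mv fun e => c ((ax v).2 e)]

theorem cm (h : Tv a u) (k : Tv b w) (e : a • w = w) (f : b • u = u) : a * b = b * a :=
  ext' (D := D) fun v => by
    rcases h.2 v with c | c <;> rcases k.2 v with d | d <;>
      simp only [mul_smul, smul_add, c, d, e, f]
    abel

theorem braid (h : Tv a u) (k : Tv b w) (e : a • w ≠ w) (f : b • u ≠ u) : a * b * a = b * a * b :=
  ext' (D := D) fun v => by
    have e := h.mv e
    have f := k.mv f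
    have h2 := h.two
    have k2 := k.two
    rcases h.2 v with c | c <;> rcases k.2 v with d | d <;>
      simp only [mul_smul, smul_add, c, d, e, f, h.fix, k.fix]
    · linear_combination (norm := abel) - k2
    · linear_combination (norm := abel) h2
    · linear_combination (norm := abel) h2 - k2

/-- if `a` fixes the centre of `b`, the conjugate of `a` by `b` has the axis of `a` -/
theorem axis (k : Tv b w) (e : a • w = w) (v : D) : (b * a * b⁻¹) • v = v ↔ a • v = v := by
  rw [mul_smul, mul_smul, smul_eq_iff_eq_inv_smul, k.inv]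
  rcases k.2 v with d | d <;> rw [d]
  exact fix_add e

theorem braid' (h : Tv a u) (k : Tv b w) (e : a • w ≠ w) (f : b • u ≠ u) :
    a * b * a⁻¹ = b * a * b⁻¹ := by rw [h.inv, k.inv, h.braid k e f]

end Tv

variable [FaithfulSMul G D] [Finite G] [Finite D]

theorem cube {T : Subgroup G} (hT : IsPGroup 2 T) {x : G} (hx : x ∈ T) (e : x ^ 3 = 1) : x = 1 := by
  obtain ⟨k, hk⟩ := orderOf_eq_pow_of_mem hT hx
  have h3 := orderOf_dvd_of_pow_eq_one e
  have : (orderOf x).Coprime 3 := by rw [hk]; exact Nat.Coprime.pow_left k (by norm_num)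
  exact orderOf_eq_one_iff.1 (this.eq_one_of_dvd h3)

theorem Tv.nb {T : Subgroup G} (hT : IsPGroup 2 T) {a b : G} {u w : D} (h : Tv a u) (k : Tv b w)
    (m : a * b ∈ T) (e : a • w ≠ w) (f : b • u ≠ u) : False := by
  have := cube hT m (by
    calc (a * b) ^ 3 = a * b * a * (b * a * b) := by simp only [pow_succ, pow_zero]; group
      _ = b * a * (b * b) * a * b := by rw [h.braid k e f]; group
      _ = 1 := by rw [k.sq, mul_one, mul_assoc b, h.sq, mul_one, k.sq])
  have : a = b := by rw [eq_inv_of_mul_eq_one_left this, k.inv]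
  subst this
  exact e k.fix

/-- no two transvections of `H` have the same axis -/
def NoOv (D : Type*) [AddCommGroup D] [DistribMulAction G D] (H : Subgroup G) : Prop :=
  ∀ a ∈ H, ∀ b ∈ H, ∀ u w : D, Tv a u → Tv b w → (∀ v : D, a • v = v ↔ b • v = v) → a = b

theorem NoOv.sym {H : Subgroup G} (n : NoOv D H) {a b : G} {u w : D} (ha : a ∈ H) (hb : b ∈ H)
    (h : Tv a u) (k : Tv b w) (e : a • w = w) : b • u = u := by
  have := n _ (mul_mem (mul_mem hb ha) (inv_mem hb)) _ ha _ _ (h.cj b) h (k.axis e)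
  exact h.of_cm (mul_inv_eq_iff_eq_mul.1 this)

theorem NoOv.cm {H T : Subgroup G} (n : NoOv D H) (hT : IsPGroup 2 T) (le : T ≤ H) {a b : G}
    {u w : D} (ha : a ∈ T) (hb : b ∈ T) (h : Tv a u) (k : Tv b w) : a * b = b * a := by
  have e : a • w = w := by
    by_contra c
    exact h.nb hT k (mul_mem ha hb) c fun d => c (n.sym (le hb) (le ha) k h d)
  exact h.cm k e (n.sym (le ha) (le hb) h k e)

/-- a transvection determined by its axis and by its centre -/
def Pure (a : G) (u : D) : Prop :=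
  Tv a u ∧ (∀ (b : G) (w : D), Tv b w → (∀ v : D, b • v = v ↔ a • v = v) → b = a) ∧
    ∀ b : G, Tv b u → b = a

theorem Pure.sym {a b : G} {u w : D} (h : Pure a u) (k : Tv b w) : a • w = w ↔ b • u = u :=
  ⟨fun e => h.1.of_cm (mul_inv_eq_iff_eq_mul.1 (h.2.1 _ _ (h.1.cj b) (k.axis e))), fun e => by
    have := h.1.cj b
    rw [e] at this
    exact k.of_cm (mul_inv_eq_iff_eq_mul.1 (h.2.2 _ this)).symm⟩

theorem Pure.cj {a : G} {u : D} (h : Pure a u) (g : G) : Pure (g * a * g⁻¹) (g • u) := by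
  refine ⟨h.1.cj g, fun b w k ax => ?_, fun b k => ?_⟩
  · have := h.2.1 _ _ (k.cj g⁻¹) fun v => by
      have := ax (g • v)
      simp only [mul_smul, inv_smul_smul, smul_left_cancel_iff, inv_inv] at this ⊢
      rw [← this, inv_smul_eq_iff]
    rw [← this]; group
  · have := k.cj g⁻¹
    rw [inv_smul_smul] at this
    rw [← h.2.2 _ this]; group

theorem Pure.cm {T : Subgroup G} (hT : IsPGroup 2 T) {a b : G} {u w : D} (h : Pure a u)
    (k : Tv b w) (ha : a ∈ T) (hb : b ∈ T) : a * b = b * a := by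
  have e : a • w = w := by
    by_contra c
    exact h.1.nb hT k (mul_mem ha hb) c fun d => c ((h.sym k).2 d)
  exact h.1.cm k e ((h.sym k).1 e)

theorem Pure.cm' {a b : G} {u w : D} (h : Pure a u) (k : Tv b w) (e : a • w = w) :
    a * b = b * a := h.1.cm k e ((h.sym k).1 e)

theorem Pure.braid {a b : G} {u w : D} (h : Pure a u) (k : Tv b w) (e : a • w ≠ w) :
    a * b * a⁻¹ = b * a * b⁻¹ := h.1.braid' k e fun d => e ((h.sym k).2 d)

/-- a transvection braided with a pure one is pure -/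
theorem Pure.of_mv {a b : G} {u w : D} (h : Pure a u) (k : Tv b w) (e : a • w ≠ w) : Pure b w := by
  have e1 : b = a⁻¹ * b * a * (a⁻¹ * b)⁻¹ := by
    have := h.braid k e
    calc b = a⁻¹ * (a * b * a⁻¹) * a := by group
      _ = _ := by rw [this]; group
  have := h.cj (a⁻¹ * b)
  rw [← e1] at this
  rwa [k.uq this.1]

/-- the transvections in `T` -/
def TS (D : Type*) [AddCommGroup D] [DistribMulAction G D] (T : Subgroup G) : Set G :=
  {a | a ∈ T ∧ ∃ u : D, Tv a u}

/-- the subgroup generated by the transvections in `T` -/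
def WT (D : Type*) [AddCommGroup D] [DistribMulAction G D] (T : Subgroup G) : Subgroup G :=
  closure (TS D T)

theorem WT_le (T : Subgroup G) : WT D T ≤ T := (closure_le _).2 fun _ h => h.1

theorem TS.cj {T : Subgroup G} {a : G} (h : a ∈ TS D T) (g : G) : g * a * g⁻¹ ∈ TS D (cj g T) :=
  let ⟨h1, _, h2⟩ := h; ⟨conj_mem_cj h1, _, h2.cj g⟩

theorem TS.cj' {T : Subgroup G} {a g : G} (h : a ∈ TS D (Transfer.cj g T)) :
    g⁻¹ * a * g ∈ TS D T := by
  simpa using TS.cj h g⁻¹

theorem TS.mono {T T' : Subgroup G} (le : T ≤ T') : TS D T ⊆ TS D T' := fun _ h => ⟨le h.1, h.2⟩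

theorem WT_cj_le {T T' : Subgroup G} {g : G} (h : cj g (WT D T) ≤ T') :
    cj g (WT D T) ≤ WT D T' := by
  rw [WT, cj_closure, closure_le]
  rintro _ ⟨x, hx, rfl⟩
  obtain ⟨u, hu⟩ := hx.2
  exact subset_closure ⟨h (conj_mem_cj (subset_closure hx)), _, hu.cj g⟩

theorem WT_cj (g : G) (T : Subgroup G) : WT D (cj g T) = cj g (WT D T) := by
  refine le_antisymm ?_ (WT_cj_le (cj_mono g (WT_le T)))
  rw [le_cj_iff]
  exact WT_cj_le (by simpa using cj_mono g⁻¹ (WT_le (cj g T)))

theorem WT_cm {T : Subgroup G} {s : G} (h : ∀ b ∈ TS D T, s * b = b * s) {g : G}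
    (hg : g ∈ WT D T) : s * g = g * s := by
  have : WT D T ≤ centralizer {s} := (closure_le _).2 fun b hb =>
    mem_centralizer_singleton_iff.2 (h b hb).symm
  exact (mem_centralizer_singleton_iff.1 (this hg)).symm

theorem Tv.pg {a : G} {u : D} (h : Tv a u) : IsPGroup 2 (zpowers a) :=
  isPGroup_zpowers (k := 1) ((orderOf_eq_prime (p := 2) (by rw [pow_two, h.sq]) h.ne1).trans rfl)

theorem maxT {H T : Subgroup G} (hT : IsSylowIn 2 T H) {s : G} {x : D} (hs : s ∈ H) (h : Tv s x)
    (cm : ∀ b ∈ TS D T, s * b = b * s) : s ∈ T := by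
  have pg : IsPGroup 2 (zpowers s ⊔ WT D T : Subgroup G) :=
    h.pg.to_sup_of_normal_right' (hT.isPGroup.to_le (WT_le T)) (by
      rw [zpowers_le, mem_normalizer_iff_cj]
      exact cj_eq_of_mem_centralizer fun g hg => (WT_cm cm hg).symm)
  obtain ⟨g, -, le⟩ := hT.exists_cj_le pg (sup_le (zpowers_le.2 hs) ((WT_le T).trans hT.le))
  have mp : Set.MapsTo (fun y => g * y * g⁻¹) (TS D T) (TS D T) := fun y hy =>
    let ⟨_, hu⟩ := hy.2
    ⟨le (conj_mem_cj (mem_sup_right (subset_closure hy))), _, hu.cj g⟩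
  obtain ⟨y, hy, e⟩ := (((Set.toFinite _).injOn_iff_bijOn_of_mapsTo mp).1
    (fun _ _ _ _ e => by simpa using e)).surjOn
    (show g * s * g⁻¹ ∈ TS D T from ⟨le (conj_mem_cj (mem_sup_left (mem_zpowers s))), _, h.cj g⟩)
  have : y = s := by simpa using e
  exact this ▸ hy.1

/-- `a ∈ T` is solitary in `H`, with partner `a'` -/
def LSol (D : Type*) [AddCommGroup D] [DistribMulAction G D] (H T : Subgroup G) (a a' : G) : Prop :=
  a ∈ T ∧ a' ∈ H ∧ (∃ u u' : D, Tv a u ∧ Tv a' u' ∧ a • u' ≠ u') ∧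
    ∀ b ∈ TS D T, b ≠ a → a' * b = b * a'

theorem pair_sum {u : D} (u0 : u ≠ 0) (Z : Finset D) (t : ∀ y ∈ Z, y + y = 0) (uu : u + u = 0)
    (h : ∀ y ∈ Z, y + u ∈ Z) : ∃ n, Z.card = 2 * n ∧ ∑ y ∈ Z, y = n • u := by
  classical
  induction Z using Finset.strongInduction with
  | H Z ih =>
    rcases Z.eq_empty_or_nonempty with rfl | ⟨w, hw⟩
    · exact ⟨0, by simp⟩
    have ne : w ≠ w + u := by simpa using u0
    have sub : {w, w + u} ⊆ Z := by
      intro y hy
      rcases Finset.mem_insert.1 hy with rfl | hy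
      · exact hw
      · rw [Finset.mem_singleton.1 hy]; exact h w hw
    obtain ⟨n, h1, h2⟩ := ih _ (Finset.sdiff_ssubset sub ⟨w, by simp⟩)
      (fun y hy => t y (Finset.mem_sdiff.1 hy).1) fun y hy => by
        simp only [Finset.mem_sdiff, Finset.mem_insert, Finset.mem_singleton, not_or] at hy ⊢
        refine ⟨h y hy.1, fun e => hy.2.2 ?_, fun e => hy.2.1 (by simpa using e)⟩
        linear_combination (norm := abel) e - uu
    refine ⟨n + 1, ?_, ?_⟩
    · rw [← Finset.card_sdiff_add_card_eq_card sub, h1, Finset.card_pair ne]; ring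
    · rw [← Finset.sum_sdiff sub, h2, Finset.sum_pair ne, succ_nsmul]
      linear_combination (norm := abel) t w hw

/-- control of fixed points when there are only transvections -/
theorem ctl_tv {H T : Subgroup G} (hT : IsSylowIn 2 T H) (n : NoOv D H) {v : D} (v2 : 2 • v = 0)
    (h1 : ∀ g ∈ H, cj g (WT D T) = WT D T → g • v = v)
    (h2 : ∀ a a', LSol D H T a a' → a' • v = v) : ∀ g ∈ H, g • v = v := by
  have wc : ∀ g ∈ H, cj g (WT D T) ≤ T → cj g (WT D T) = WT D T := fun g _ le =>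
    mem_normalizer_iff_cj.1 (mem_normalizer_of_cj_le (WT_cj_le le))
  refine norm_arg hT (WT_le T) wc h1 fun g hg mv => ?_
  have cmT : ∀ a ∈ TS D T, ∀ b ∈ TS D T, a * b = b * a := fun a ⟨a1, _, a2⟩ b ⟨b1, _, b2⟩ =>
    n.cm hT.isPGroup hT.le a1 b1 a2 b2
  have sv : IsSylowIn 2 T (H ⊓ MulAction.stabilizer G v) := hT.of_le (fun t ht => ⟨hT.le ht,
    h1 t (hT.le ht) (wc t (hT.le ht) (cj_le_of_le_of_mem (WT_le T) ht))⟩) inf_le_left
  have fg : ∀ x ∈ cj g T, x • g • v = g • v := fun x hx => by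
    have : (g⁻¹ * x * g) • v = v := (sv.le (mem_cj.1 hx)).2
    rwa [mul_smul, mul_smul, inv_smul_eq_iff] at this
  obtain ⟨a, ha, ma⟩ : ∃ a ∈ TS D T, a • g • v ≠ g • v := by
    by_contra c
    push Not at c
    obtain ⟨x, hx, m⟩ := mv
    exact m ((closure_le (MulAction.stabilizer G (g • v))).2 c hx)
  obtain ⟨u, hu⟩ := ha.2
  by_cases two : ∃ b ∈ TS D T, b ≠ a ∧ b • g • v ≠ g • v
  · obtain ⟨b, hb, ne, mb⟩ := two
    obtain ⟨w, hw⟩ := hb.2
    have uw : u ≠ w := by
      rintro rfl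
      refine ma (fg a (maxT (hT.cj_of_mem hg) (hT.le ha.1) hu fun c ⟨c1, x, c2⟩ => ?_))
      have cH := (hT.cj_of_mem hg).le c1
      have f : c • u = u := by
        by_contra f
        have e1 : a • x ≠ x := fun e => f (n.sym (hT.le ha.1) cH hu c2 e)
        have e2 : b • x ≠ x := fun e => f (n.sym (hT.le hb.1) cH hw c2 e)
        have ab : Tv (a * b) u := by
          refine ⟨?_, fun y => ?_⟩
          · by_contra q
            push Not at q
            have : a * b = 1 := Tv.ext' (D := D) fun y => by rw [q, one_smul]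
            exact ne (by rw [eq_inv_of_mul_eq_one_left this, hw.inv])
          · rcases hu.2 y with d | d <;> rcases hw.2 y with d' | d' <;>
              simp only [mul_smul, smul_add, d, d', hu.fix, true_or, or_true]
            left; linear_combination (norm := abel) hu.two
        refine f (n.sym (mul_mem (hT.le ha.1) (hT.le hb.1)) cH ab c2 ?_)
        rw [mul_smul, hw.mv e2, smul_add, hu.mv e1, hu.fix]
        linear_combination (norm := abel) hu.two
      exact hu.cm c2 (n.sym cH (hT.le ha.1) c2 hu f) f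
    have t : ∀ y ∈ orb (WT D T) (g • v), y + y = 0 := fun y hy => by
      obtain ⟨x, -, rfl⟩ := mem_orb.1 hy
      rw [← smul_add, ← smul_add, ← two_nsmul, v2, smul_zero, smul_zero]
    have cl : ∀ c ∈ TS D T, ∀ z : D, Tv c z → c • g • v ≠ g • v →
        ∀ y ∈ orb (WT D T) (g • v), y + z ∈ orb (WT D T) (g • v) := fun c hc z hz m y hy => by
      obtain ⟨x, hx, rfl⟩ := mem_orb.1 hy
      have e := WT_cm (cmT c hc) hx
      refine mem_orb.2 ⟨x * c, mul_mem hx (subset_closure hc), ?_⟩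
      rw [mul_smul, hz.mv m, smul_add, hz.of_cm e.symm]
    obtain ⟨i, i1, i2⟩ := pair_sum hu.ne0 _ t hu.two (cl a ha u hu ma)
    obtain ⟨j, j1, j2⟩ := pair_sum hw.ne0 _ t hw.two (cl b hb w hw mb)
    have : i = j := by omega
    subst this
    rw [i2]
    rw [i2, nsmul_eq_mod_nsmul _ ((two_nsmul u).trans hu.two),
      nsmul_eq_mod_nsmul i ((two_nsmul w).trans hw.two)] at j2
    rw [nsmul_eq_mod_nsmul _ ((two_nsmul u).trans hu.two)]
    rcases Nat.mod_two_eq_zero_or_one i with c | c <;> rw [c] at j2 ⊢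
    · simp
    · exact absurd (by simpa using j2) uw
  exfalso
  push Not at two
  have sw : IsSylowIn 2 (cj g T) (H ⊓ MulAction.stabilizer G (g • v)) :=
    (hT.cj_of_mem hg).of_le (fun x hx => ⟨(hT.cj_of_mem hg).le hx, fg x hx⟩) inf_le_left
  have l0 : closure (TS D T \ {a}) ≤ T := (closure_le _).2 fun x hx => hx.1.1
  obtain ⟨k, hk, le⟩ := sw.exists_cj_le (hT.isPGroup.to_le l0) ((closure_le _).2 fun x hx =>
    ⟨hT.le hx.1.1, two x hx.1 hx.2⟩)
  rw [cj_le_iff, cj_cj] at le
  have k1 := (mem_inf.1 hk).1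
  have k2 : k⁻¹ • g • v = g • v := inv_mem (mem_inf.1 hk).2
  set g₁ := k⁻¹ * g with hg₁
  have g1 : g₁ ∈ H := mul_mem (inv_mem k1) hg
  have e1 : g₁ • v = g • v := by rw [hg₁, mul_smul, k2]
  have cd : (TS D (cj g₁ T)).ncard = (TS D T).ncard := by
    refine (Set.ncard_congr (fun x _ => g₁ * x * g₁⁻¹) (fun x hx => TS.cj hx g₁)
      (fun _ _ _ _ e => by simpa using e) fun y hy => ⟨_, TS.cj' hy, by group⟩).symm
  obtain ⟨a', na, ea⟩ := (Set.exists_eq_insert_iff_ncard (s := TS D T \ {a})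
    (t := TS D (cj g₁ T))).2 ⟨fun x hx => ⟨le (subset_closure hx), hx.1.2⟩, by
      rw [cd, Set.ncard_diff_singleton_add_one ha]⟩
  have ha' : a' ∈ TS D (cj g₁ T) := ea ▸ Set.mem_insert _ _
  obtain ⟨u', hu'⟩ := ha'.2
  have s1 := hT.cj_of_mem g1
  have f' : a' • g • v = g • v := by
    have : (g₁⁻¹ * a' * g₁) • v = v := (sv.le (mem_cj.1 ha'.1)).2
    rwa [mul_smul, mul_smul, inv_smul_eq_iff, e1] at this
  have m' : a • u' ≠ u' := fun e => by
    have c := hu.cm hu' e (n.sym (hT.le ha.1) (s1.le ha'.1) hu hu' e)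
    have := maxT hT (s1.le ha'.1) hu' fun b hb => by
      by_cases q : b = a
      · rw [q, c]
      · obtain ⟨w, hw⟩ := hb.2
        exact n.cm s1.isPGroup s1.le ha'.1 (le (subset_closure ⟨hb, q⟩)) hu' hw
    refine na ⟨⟨this, _, hu'⟩, fun q => ma ?_⟩
    rw [← show a' = a from q, f']
  have := h2 (g₁⁻¹ * a' * g₁) (g₁⁻¹ * a * g₁) ⟨mem_cj.1 ha'.1,
    mul_mem (mul_mem (inv_mem g1) (hT.le ha.1)) g1,
    ⟨g₁⁻¹ • u', g₁⁻¹ • u, by simpa using hu'.cj g₁⁻¹, by simpa using hu.cj g₁⁻¹, fun e => m' (by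
      rw [mul_smul, mul_smul, smul_inv_smul, smul_left_cancel_iff] at e
      exact n.sym (s1.le ha'.1) (hT.le ha.1) hu' hu e)⟩, fun b hb ne => by
    have := TS.cj hb g₁
    rw [← ea] at this
    rcases this with q | q
    · exact absurd (by rw [← q]; group) ne
    · have := cmT a ha _ q.1
      calc _ = g₁⁻¹ * (a * (g₁ * b * g₁⁻¹)) * g₁ := by group
        _ = _ := by rw [this]; group⟩
  rw [mul_smul, mul_smul, inv_smul_eq_iff, e1] at this
  exact ma this

end CF.Ex.T
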