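/-
Solitary transvections: from a normalizer to the whole group.
-/
import Cfsg.Agent.Ex.T2

set_option autoImplicit false
set_option linter.unusedSectionVars false

namespace CF.Ex.T
open Subgroup CF.Transfer

variable {G D : Type*} [Group G] [AddCommGroup D] [DistribMulAction G D]
variable [FaithfulSMul G D] [Finite G] [Finite D]

theorem ex_cen {p : ℕ} [Fact p.Prime] {B P : Subgroup G} (hB : IsPGroup p B) (hP : IsPGroup p P)
    (nm : ∀ y ∈ P, ∀ b ∈ B, y * b * y⁻¹ ∈ B) {b : G} (hb : b ∈ B) (b1 : b ≠ 1) :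
    ∃ b ∈ B, b ≠ 1 ∧ ∀ y ∈ P, y * b = b * y := by
  have le : P ≤ normalizer (B : Set G) := fun y hy =>
    mem_normalizer_of_cj_le (cj_le_iff_forall.2 (nm y hy))
  let : MulAction P B := MulAction.compHom B (inclusion le)
  have h1 : (1 : B) ∈ MulAction.fixedPoints P B := fun t => Subtype.ext (by
    change (t : G) * 1 * (t : G)⁻¹ = 1; simp)
  have : Nontrivial B := ⟨⟨b, hb⟩, 1, fun e => b1 (congrArg Subtype.val e)⟩
  obtain ⟨n, h0, hn⟩ := hB.nontrivial_iff_card.1 this
  obtain ⟨c, hc, c1⟩ := hP.exists_fixed_point_of_prime_dvd_card_of_fixed_point B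
    (by rw [hn]; exact dvd_pow_self p h0.ne') h1
  refine ⟨c, c.2, fun e => c1 (Subtype.ext e).symm, fun y hy => ?_⟩
  have : y * c * y⁻¹ = c := congrArg Subtype.val (hc ⟨y, hy⟩)
  exact mul_inv_eq_iff_eq_mul.1 this

theorem Tv.br {a b : G} {u w : D} (h : Tv a u) (k : Tv b w) (e : a • w ≠ w) (f : b • u ≠ u) :
    b = a * b * a * (a * b)⁻¹ := by
  calc b = a⁻¹ * (a * b * a⁻¹) * a := by group
    _ = a * (b * a * b⁻¹) * a⁻¹ := by rw [h.braid' k e f, h.inv]
    _ = _ := by group

/-- `a ∈ S` is a pure transvection, solitary in `G` with partner `a'` -/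
def Sol (D : Type*) [AddCommGroup D] [DistribMulAction G D] (S : Subgroup G) (a a' : G) : Prop :=
  a ∈ S ∧ (∃ u u' : D, Pure a u ∧ Tv a' u' ∧ a • u' ≠ u') ∧
    ∀ b ∈ TS D S, b ≠ a → a' * b = b * a'

theorem LSol.cen {H T P : Subgroup G} (hT : IsSylowIn 2 T H) (n : NoOv D H) (le : P ≤ T)
    (nm : ∀ g ∈ H, ∀ y ∈ P, g * y * g⁻¹ ∈ P) {a a' : G} (h : LSol D H T a a') :
    ∀ y ∈ P, y * a = a * y ∧ y * a' = a' * y := by
  obtain ⟨aT, aH, ⟨u, u', hu, hu', e⟩, sl⟩ := h
  have f : a' • u ≠ u := fun c => e (n.sym aH (hT.le aT) hu' hu c)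
  have c1 : ∀ y ∈ P, y * a = a * y := fun y hy => by
    by_contra c
    have bT : y * a * y⁻¹ ∈ T := mul_mem (mul_mem (le hy) aT) (inv_mem (le hy))
    have hb := hu.cj y
    have ne : y * a * y⁻¹ ≠ a := fun q => c (mul_inv_eq_iff_eq_mul.1 q)
    have m : y * a * y⁻¹ * a ∈ P := by
      have := mul_mem hy (nm a (hT.le aT) _ (inv_mem hy))
      rw [hu.inv] at this
      simpa [mul_assoc] using this
    set b := y * a * y⁻¹
    have k1 := sl b ⟨bT, _, hb⟩ ne
    have k2 := n.cm hT.isPGroup hT.le aT bT hu hb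
    have m2 := mul_mem m (nm a' aH _ m)
    have : b * a * (a' * (b * a) * a'⁻¹) = a * (a' * a * a'⁻¹) := by
      calc _ = b * (a * (a' * b)) * a * a'⁻¹ := by group
        _ = b * b * a * a' * a * a'⁻¹ := by rw [k1, ← mul_assoc a, k2]; group
        _ = _ := by rw [hb.sq]; group
    rw [this] at m2
    refine hu.nb (hT.isPGroup.to_le le) (hu.cj a') m2 ?_ ?_
    · rw [hu'.mv f, smul_add, hu.fix, hu.mv e]
      intro q; exact hu.ne0 (by linear_combination (norm := abel) q)
    · rw [mul_smul, mul_smul, hu'.inv, hu'.mv f, smul_add, hu.fix, hu.mv e, smul_add, smul_add,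
        hu'.mv f, hu'.fix]
      intro q
      have : u' = u := by linear_combination (norm := abel) q - hu'.two - hu.two
      exact e (by rw [this, hu.fix])
  refine fun y hy => ⟨c1 y hy, ?_⟩
  have := c1 _ (nm (a * a')⁻¹ (inv_mem (mul_mem (hT.le aT) aH)) y hy)
  have b := hu.br hu' e f
  set r := a * a'
  calc y * a' = r * (r⁻¹ * y * r⁻¹⁻¹ * a) * r⁻¹ := by (conv_lhs => rw [b]); group
    _ = a' * y := by rw [this]; (conv_rhs => rw [b]); group

/-- a solitary transvection centralised with its partner by `P` is pure -/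
theorem pure_of {H P : Subgroup G} (n : NoOv D H) (hP : IsPGroup 2 P)
    (cH : ∀ g, (∀ y ∈ P, y * g = g * y) → g ∈ H) {a a' : G} {u u' : D} (hu : Tv a u)
    (hu' : Tv a' u') (e : a • u' ≠ u') (c : ∀ y ∈ P, y * a = a * y ∧ y * a' = a' * y) :
    Pure a u := by
  have aH := cH a fun y hy => (c y hy).1
  have aH' := cH a' fun y hy => (c y hy).2
  have f : a' • u ≠ u := fun q => e (n.sym aH' aH hu' hu q)
  have cs : ∀ {x y : G}, y * x = x * y → ∀ v : D, x • y⁻¹ • v = y⁻¹ • x • v := fun {x y} q v => by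
    rw [eq_inv_smul_iff, ← mul_smul, q, mul_smul, smul_inv_smul]
  refine ⟨hu, fun b w k ax => ?_, fun b k => ?_⟩
  · by_contra ne
    let B : Subgroup G :=
      { carrier := {g | (∀ v : D, a • v = v → g • v = v) ∧ ∀ v : D, a' • (g • v - v) = g • v - v}
        one_mem' := ⟨fun v _ => one_smul _ _, fun v => by simp⟩
        mul_mem' := fun {g h} hg hh => ⟨fun v q => by rw [mul_smul, hh.1 v q, hg.1 v q], fun v => by
          have : (g * h) • v - v = (g • h • v - h • v) + (h • v - v) := by rw [mul_smul]; abel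
          rw [this, smul_add, hg.2, hh.2]⟩
        inv_mem' := fun {g} hg => ⟨fun v q => by rw [inv_smul_eq_iff, hg.1 v q], fun v => by
          have := hg.2 (g⁻¹ • v)
          rw [smul_inv_smul] at this
          rw [← neg_sub, smul_neg, this]⟩ }
    obtain ⟨v₀, m₀⟩ := hu.1
    have tv : ∀ g : G, (∀ v : D, a • v = v → g • v = v) → g ≠ 1 →
        Tv g (g • v₀ - v₀) ∧ ∀ v : D, g • v = v ↔ a • v = v := fun g hg g1 => by
      have q : ∀ v : D, a • v ≠ v → g • v = v + (g • v₀ - v₀) := fun v hv => by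
        have := hg _ (hu.add_mv hv m₀)
        have t := hg _ (hu.add_mv m₀ m₀)
        rw [smul_add] at this t
        have t2 := hg _ (show a • (v - v₀) = v - v₀ by
          rw [smul_sub, hu.mv hv, hu.mv m₀]; abel)
        rw [smul_sub] at t2
        linear_combination (norm := abel) t2
      have z : g • v₀ ≠ v₀ := fun z => g1 (Tv.ext' (D := D) fun v => by
        by_cases hv : a • v = v
        · rw [hg v hv, one_smul]
        · rw [q v hv, z]; simp)
      refine ⟨⟨⟨v₀, z⟩, fun v => ?_⟩, fun v => ⟨fun x => ?_, hg v⟩⟩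
      · by_cases hv : a • v = v
        · exact Or.inl (hg v hv)
        · exact Or.inr (q v hv)
      · by_contra hv
        rw [q v hv] at x
        exact z (by linear_combination (norm := abel) x)
    have pg : IsPGroup 2 B := fun g => ⟨1, Subtype.ext (by
      by_cases g1 : (g : G) = 1
      · simp [g1]
      · simpa [pow_two] using (tv g g.2.1 g1).1.sq)⟩
    obtain ⟨g, hg, g1⟩ : ∃ g ∈ B, g ≠ 1 := by
      by_cases q : a' • w = w
      · refine ⟨b, ⟨fun v x => (ax v).2 x, fun v => ?_⟩, k.ne1⟩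
        rcases k.2 v with x | x <;> simp [x, q]
      · refine ⟨b * a, ⟨fun v x => by rw [mul_smul, x, (ax v).2 x], fun v => ?_⟩, fun x =>
          ne (by rw [eq_inv_of_mul_eq_one_left x, hu.inv])⟩
        by_cases x : a • v = v
        · simp [mul_smul, x, (ax v).2 x]
        · rw [mul_smul, hu.mv x, smul_add, k.mv fun y => x ((ax v).1 y), (ax u).2 hu.fix]
          have : v + w + u - v = w + u := by abel
          rw [this, hu'.add_mv q f]
    obtain ⟨g, hg, g1, cg⟩ := ex_cen pg hP (fun y hy g hg => ⟨fun v x => by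
      rw [mul_smul, mul_smul, hg.1 _ (by rw [cs (c y hy).1, x]), smul_inv_smul], fun v => by
        have := hg.2 (y⁻¹ • v)
        have e2 : (y * g * y⁻¹) • v - v = y • (g • y⁻¹ • v - y⁻¹ • v) := by
          rw [smul_sub, smul_inv_smul, mul_smul, mul_smul]
        rw [e2, ← mul_smul, ← (c y hy).2, mul_smul, this]⟩) hg g1
    obtain ⟨t1, t2⟩ := tv g hg.1 g1
    have := n g (cH g cg) a aH _ _ t1 hu t2
    have h2 := hg.2 v₀
    rw [this, hu.mv m₀, add_sub_cancel_left] at h2
    exact f h2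
  · by_contra ne
    have fu : ∀ g : G, (∀ v : D, g • v = v ∨ g • v = v + u) → g • u = u := fun g hg => by
      rcases hg u with x | x
      · exact x
      · rw [hu.two] at x
        exact absurd (by simpa using congrArg (g⁻¹ • ·) x) hu.ne0
    let B : Subgroup G :=
      { carrier := {g | (∀ v : D, g • v = v ∨ g • v = v + u) ∧ g • u' = u'}
        one_mem' := ⟨fun v => Or.inl (one_smul _ _), one_smul _ _⟩
        mul_mem' := fun {g h} hg hh => ⟨fun v => by
          rcases hh.1 v with x | x <;> rcases hg.1 v with y | y <;>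
            simp only [mul_smul, smul_add, x, y, fu g hg.1, true_or, or_true]
          left; linear_combination (norm := abel) hu.two, by rw [mul_smul, hh.2, hg.2]⟩
        inv_mem' := fun {g} hg => ⟨fun v => by
          rcases hg.1 v with x | x
          · left; rw [inv_smul_eq_iff, x]
          · right; rw [inv_smul_eq_iff, smul_add, x, fu g hg.1]
            linear_combination (norm := abel) - hu.two, by rw [inv_smul_eq_iff, hg.2]⟩ }
    have tv : ∀ g ∈ B, g ≠ 1 → Tv g u := fun g hg g1 => ⟨by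
      by_contra q
      push Not at q
      exact g1 (Tv.ext' (D := D) fun v => by rw [q, one_smul]), hg.1⟩
    have pg : IsPGroup 2 B := fun g => ⟨1, Subtype.ext (by
      by_cases g1 : (g : G) = 1
      · simp [g1]
      · simpa [pow_two] using (tv g g.2 g1).sq)⟩
    obtain ⟨g, hg, g1⟩ : ∃ g ∈ B, g ≠ 1 := by
      by_cases q : b • u' = u'
      · exact ⟨b, ⟨k.2, q⟩, k.ne1⟩
      · refine ⟨b * a, ⟨fun v => ?_, ?_⟩, fun x => ne (by rw [eq_inv_of_mul_eq_one_left x, hu.inv])⟩
        · rcases hu.2 v with x | x <;> rcases k.2 v with y | y <;>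
            simp only [mul_smul, smul_add, x, y, k.fix, true_or, or_true]
          left; linear_combination (norm := abel) hu.two
        · rw [mul_smul, hu.mv e, smul_add, k.mv q, k.fix]
          linear_combination (norm := abel) hu.two
    obtain ⟨g, hg, g1, cg⟩ := ex_cen pg hP (fun y hy g hg => ⟨fun v => by
      rcases hg.1 (y⁻¹ • v) with x | x <;> simp [mul_smul, x, hu.of_cm (c y hy).1], by
        have := hu'.of_cm (c y hy).2
        rw [mul_smul, mul_smul, inv_smul_eq_iff.2 this.symm, hg.2, this]⟩) hg g1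
    exact f (n.sym (cH g cg) aH' (tv g hg g1) hu' hg.2)

theorem uniq2 {H T : Subgroup G} (hT : IsSylowIn 2 T H) {a a' c : G} {u u' x : D} (aT : a ∈ T)
    (pu : Pure a u) (aH : a' ∈ H) (cH : c ∈ H) (hu' : Tv a' u') (hc : Tv c x) (e : a • u' ≠ u')
    (ex : a • x ≠ x) (s1 : ∀ b ∈ TS D T, b ≠ a → a' * b = b * a')
    (s2 : ∀ b ∈ TS D T, b ≠ a → c * b = b * c) : c = a' ∨ c = a * a' * a⁻¹ := by
  have f : a' • u ≠ u := fun q => e ((pu.sym hu').2 q)
  have ca : ∀ b ∈ TS D T, a * b = b * a := fun b ⟨b1, _, b2⟩ => pu.cm hT.isPGroup b2 aT b1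
  have key : ∀ (c : G) (x : D), c ∈ H → Tv c x → a • x ≠ x → a' • x ≠ x →
      (∀ b ∈ TS D T, b ≠ a → c * b = b * c) → c = a * a' * a⁻¹ := fun c x cH hc ex q s2 => by
    have hs := hc.cj a'
    rw [hu'.mv q] at hs
    have sa := pu.cm' hs (pu.1.add_mv ex e)
    have sT := maxT hT (mul_mem (mul_mem aH cH) (inv_mem aH)) hs fun b hb => by
      by_cases z : b = a
      · rw [z, sa]
      · calc _ = a' * (c * (a'⁻¹ * b * a')) * a'⁻¹ := by group
          _ = a' * (c * b) * a'⁻¹ := by rw [mul_assoc a'⁻¹, ← s1 b hb z]; group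
          _ = _ := by rw [s2 b hb z, ← mul_assoc, s1 b hb z]; group
    by_cases z : a' * c * a'⁻¹ = a
    · rw [pu.braid hu' e, ← z, hu'.inv]
      calc c = (a' * a') * c * (a' * a') := by rw [hu'.sq]; group
        _ = _ := by group
    · have := s1 _ ⟨sT, _, hs⟩ z
      have := hs.of_cm this
      rw [smul_add, hu'.fix, add_left_inj] at this
      exact absurd this q
  by_cases q : a' • x = x
  · left
    have := key _ _ (mul_mem (mul_mem (hT.le aT) cH) (inv_mem (hT.le aT))) (hc.cj a)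
      (by rw [pu.1.ss]; exact fun z => ex z.symm)
      (by rw [pu.1.mv ex, smul_add, q, ne_eq, add_right_inj]; exact f) fun b hb z => by
        calc _ = a * (c * (a⁻¹ * b * a)) * a⁻¹ := by group
          _ = a * (c * b) * a⁻¹ := by rw [mul_assoc a⁻¹, ← ca b hb]; group
          _ = _ := by rw [s2 b hb z, ← mul_assoc, ca b hb]; group
    simpa using this
  · exact Or.inr (key c x cH hc ex q s2)

/-- local solitary transvections are solitary in `G` -/
theorem LSol.sol {S P : Subgroup G} (hS : IsPGroup 2 S) (le : P ≤ S)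
    (hT : IsSylowIn 2 (S ⊓ normalizer (P : Set G)) (normalizer (P : Set G)))
    (n : NoOv D (normalizer (P : Set G))) {a a' : G}
    (h : LSol D (normalizer (P : Set G)) (S ⊓ normalizer (P : Set G)) a a') :
    Sol D S a a' ∧ a ∉ P := by
  have c := h.cen hT n (le_inf le le_normalizer) fun g hg y hy => conj_mem_of_mem_normalizer hg hy
  obtain ⟨aT, aH, ⟨u, u', hu, hu', e⟩, sl⟩ := h
  have cH : ∀ g, (∀ y ∈ P, y * g = g * y) → g ∈ normalizer (P : Set G) := fun g hg =>
    centralizer_le_normalizer _ hg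
  have pu := pure_of n (hS.to_le le) cH hu hu' e c
  have f : a' • u ≠ u := fun q => e ((pu.sym hu').2 q)
  refine ⟨⟨aT.1, ⟨u, u', pu, hu', e⟩, ?_⟩, fun q => e (hu'.of_cm (c a q).2)⟩
  set C := S ⊓ centralizer {a} with hC
  have mC : ∀ {r}, r ∈ C → r * a = a * r := fun hr => mem_centralizer_singleton_iff.1 hr.2
  have sw : ∀ {r}, r ∈ C → r * (a * a' * a⁻¹) * r⁻¹ = a * (r * a' * r⁻¹) * a⁻¹ := fun {r} hr => by
    calc _ = r * a * a' * (r * a)⁻¹ := by group
      _ = _ := by rw [mC hr]; group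
  have aa : a * (a * a' * a⁻¹) * a⁻¹ = a' := by
    calc _ = (a * a) * a' * (a * a)⁻¹ := by group
      _ = _ := by rw [hu.sq]; group
  let R : Subgroup G :=
    { carrier := {r | r ∈ C ∧ (r * a' * r⁻¹ = a' ∨ r * a' * r⁻¹ = a * a' * a⁻¹)}
      one_mem' := ⟨one_mem _, Or.inl (by group)⟩
      mul_mem' := fun {r s} hr hs => ⟨mul_mem hr.1 hs.1, by
        have : r * s * a' * (r * s)⁻¹ = r * (s * a' * s⁻¹) * r⁻¹ := by group
        rw [this]
        rcases hs.2 with x | x <;> rcases hr.2 with y | y <;>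
          simp only [x, y, sw hr.1, aa, true_or, or_true]⟩
      inv_mem' := fun {r} hr => ⟨inv_mem hr.1, by
        rcases hr.2 with x | x
        · left; conv_lhs => rw [← x]
          group
        · right
          have := sw hr.1
          rw [x, aa] at this
          conv_lhs => rw [← this]
          group⟩ }
  have all : C ≤ R := by
    by_contra q
    obtain ⟨m, hm, nm⟩ := SetLike.exists_of_lt (lt_inf_normalizer_of_lt (hS.to_le inf_le_left)
      (lt_of_le_not_ge (show R ≤ C from fun r hr => hr.1) q))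
    have mu : m • u = u := hu.of_cm (mC hm.1)
    have hc := hu'.cj m
    have ex : a • m • u' ≠ m • u' := by
      rw [← mul_smul, ← mC hm.1, mul_smul, ne_eq, smul_left_cancel_iff]; exact e
    have cm : ∀ r ∈ R, r * a' = a' * r → r * (m * a' * m⁻¹) = m * a' * m⁻¹ * r := fun r hr z => by
      have := (inv_conj_mem_of_mem_normalizer hm.2 hr).2
      have e2 : r * (m * a' * m⁻¹) * r⁻¹ = m * (m⁻¹ * r * m * a' * (m⁻¹ * r * m)⁻¹) * m⁻¹ := by group
      rcases this with x | x <;> rw [x] at e2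
      · exact mul_inv_eq_iff_eq_mul.1 e2
      · exfalso
        rw [sw hm.1] at e2
        have := (e2 ▸ hc.cj r).uq (hc.cj a)
        have k : a' • r • m • u' = r • m • u' ↔ a' • m • u' = m • u' := by
          rw [← mul_smul, ← z, mul_smul, smul_left_cancel_iff]
        rw [this, hu.mv ex, hu'.mv_add f] at k
        tauto
    refine nm ⟨hm.1, uniq2 hT aT pu aH (cH _ fun y hy => cm y ⟨⟨le hy,
      mem_centralizer_singleton_iff.2 (c y hy).1⟩, Or.inl (by rw [(c y hy).2]; group)⟩ (c y hy).2)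
      hu' hc e ex sl fun b hb z => (cm b ⟨⟨hb.1.1, ?_⟩, Or.inl (by rw [← sl b hb z]; group)⟩
        (sl b hb z).symm).symm⟩
    obtain ⟨w, hw⟩ := hb.2
    exact mem_centralizer_singleton_iff.2 (pu.cm hS hw aT.1 hb.1.1).symm
  rintro b ⟨bS, w, hw⟩ ne
  rcases (all ⟨bS, mem_centralizer_singleton_iff.2 (pu.cm hS hw aT.1 bS).symm⟩).2 with x | x
  · exact (mul_inv_eq_iff_eq_mul.1 x).symm
  · have p' := pu.of_mv hu' e
    by_cases z : a' • w = w
    · exact p'.cm' hw z
    · rw [← p'.braid hw z, pu.braid hu' e] at x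
      exact absurd (by simpa using x) ne

theorem Sol.uq {S : Subgroup G} (hS : IsSylowIn 2 S ⊤) {a a' c : G} (h : Sol D S a a')
    (k : Sol D S a c) : c = a' ∨ c = a * a' * a⁻¹ := by
  obtain ⟨aS, ⟨u, u', pu, hu', e⟩, s1⟩ := h
  obtain ⟨-, ⟨_, x, -, hc, ex⟩, s2⟩ := k
  exact uniq2 hS aS pu trivial trivial hu' hc e ex s1 s2

theorem Sol.cj {S : Subgroup G} {a a' g : G} (h : Sol D S a a') (hg : cj g (WT D S) = WT D S) :
    Sol D S (g * a * g⁻¹) (g * a' * g⁻¹) := by
  obtain ⟨aS, ⟨u, u', pu, hu', e⟩, s1⟩ := h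
  refine ⟨WT_le (D := D) S (hg ▸ conj_mem_cj (subset_closure ⟨aS, u, pu.1⟩)), ⟨_, _, pu.cj g, hu'.cj g,
    by simpa [mul_smul] using e⟩, fun b hb ne => ?_⟩
  obtain ⟨w, hw⟩ := hb.2
  have := s1 (g⁻¹ * b * g) ⟨WT_le (D := D) S (mem_cj.1 (hg.symm ▸ subset_closure hb)), _,
    by simpa using hw.cj g⁻¹⟩ fun q => ne (by rw [← q]; group)
  calc _ = g * (a' * (g⁻¹ * b * g)) * g⁻¹ := by group
    _ = _ := by rw [this]; group

theorem cj_WT {S : Subgroup G} {g : G} (hg : g ∈ S) : cj g (WT D S) = WT D S := by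
  rw [← WT_cj, cj_eq_of_mem hg]

/-- good offenders centralise solitary lines -/
theorem Sol.good {S A : Subgroup G} (hS : IsSylowIn 2 S ⊤) {a a' : G} (h : Sol D S a a')
    (le : A ≤ S) (gd : Good 2 D A) : ∀ r ∈ A, r * a' = a' * r := by
  classical
  have os : ∀ w : D, w + w = 0 → (∃ g ∈ A, g • w ≠ w) → ∑ y ∈ orb A w, y = 0 := fun w hw mv =>
    orb_sum (hS.isPGroup.to_le le) (fun M hM => ⟨A, le_rfl, gd, hM⟩) ((two_nsmul w).trans hw) mv
  obtain ⟨aS, ⟨u, u', pu, hu', e⟩, s1⟩ := id h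
  have f : a' • u ≠ u := fun q => e ((pu.sym hu').2 q)
  have fu : ∀ r ∈ A, r • u = u := by
    by_contra q
    push Not at q
    have z := os u pu.1.two q
    have um : u ∈ orb A u := mem_orb.2 ⟨1, one_mem _, one_smul _ _⟩
    have : a' • ∑ y ∈ (orb A u).erase u, y = ∑ y ∈ (orb A u).erase u, y := by
      rw [Finset.smul_sum]
      refine Finset.sum_congr rfl fun y hy => ?_
      rw [Finset.mem_erase] at hy
      obtain ⟨r, hr, rfl⟩ := mem_orb.1 hy.2
      have t := pu.1.cj r
      refine t.of_cm (s1 _ ⟨mul_mem (mul_mem (le hr) aS) (inv_mem (le hr)), _, t⟩ fun q => hy.1 ?_)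
      exact (q ▸ t).uq pu.1
    have z2 := congrArg (a' • ·) z
    simp only [smul_zero] at z2
    rw [← Finset.add_sum_erase _ _ um] at z z2
    rw [smul_add, this, ← z, add_left_inj] at z2
    exact f z2
  have ca : ∀ r ∈ A, r * a * r⁻¹ = a := fun r hr => pu.2.2 _ (fu r hr ▸ pu.1.cj r)
  have or : ∀ r ∈ A, r • u' = u' ∨ r • u' = u' + u := fun r hr => by
    have k := h.cj (cj_WT (D := D) (le hr))
    rw [ca r hr] at k
    rcases h.uq hS k with x | x
    · exact Or.inl ((x ▸ hu'.cj r).uq hu')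
    · right; rw [← pu.1.mv e]; exact (x ▸ hu'.cj r).uq (hu'.cj a)
  have fu' : ∀ r ∈ A, r • u' = u' := by
    by_contra q
    push Not at q
    have z := os u' hu'.two q
    obtain ⟨r, hr, m⟩ := q
    have : orb A u' = {u', u' + u} := by
      ext y
      simp only [mem_orb, Finset.mem_insert, Finset.mem_singleton]
      constructor
      · rintro ⟨g, hg, rfl⟩; exact or g hg
      · rintro (rfl | rfl)
        · exact ⟨1, one_mem _, one_smul _ _⟩
        · exact ⟨r, hr, (or r hr).resolve_left m⟩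
    rw [this, Finset.sum_pair (by simpa using pu.1.ne0)] at z
    exact pu.1.ne0 (by linear_combination (norm := abel) z - hu'.two)
  intro r hr
  exact mul_inv_eq_iff_eq_mul.1 ((pu.of_mv hu' e).2.2 _ (fu' r hr ▸ hu'.cj r))

end CF.Ex.T
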