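/-
Partial cocycles on the subgroups containing an offender are coboundaries (Glauberman-Lynd).
-/
import Cfsg.Agent.Ex.T3

set_option autoImplicit false
set_option linter.unusedSectionVars false

namespace CF.Ex.T
open Subgroup CF.Transfer

variable {G D : Type*} [Group G] [AddCommGroup D] [DistribMulAction G D] {p : ℕ}
variable [FaithfulSMul G D] [Finite G] [Finite D]

/-- generated by the good offenders -/
def JG (p : ℕ) (D : Type*) [AddCommGroup D] [DistribMulAction G D] (T : Subgroup G) : Subgroup G :=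
  sSup {A | A ≤ T ∧ Good p D A}

theorem JG_le (T : Subgroup G) : JG p D T ≤ T := sSup_le fun _ h => h.1

theorem le_JG {T A : Subgroup G} (le : A ≤ T) (h : Good p D A) : A ≤ JG p D T :=
  le_sSup (s := {A | A ≤ T ∧ Good p D A}) ⟨le, h⟩

theorem JG_cj_le {T T' : Subgroup G} {g : G} (h : cj g (JG p D T) ≤ T') :
    cj g (JG p D T) ≤ JG p D T' :=
  cj_le_iff.2 (sSup_le fun _ hA =>
    cj_le_iff.1 (le_JG ((cj_mono g (le_JG hA.1 hA.2)).trans h) (hA.2.cj g)))

theorem JG_cj (g : G) (T : Subgroup G) : JG p D (cj g T) = cj g (JG p D T) := by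
  refine le_antisymm ?_ (JG_cj_le (cj_mono g (JG_le T)))
  rw [le_cj_iff]
  exact JG_cj_le (by simpa using cj_mono g⁻¹ (JG_le (cj g T)))

/-- `T` contains a good offender -/
def HG (p : ℕ) (D : Type*) [AddCommGroup D] [DistribMulAction G D] (T : Subgroup G) : Prop :=
  ∃ A ≤ T, Good p D A

theorem HG.cj {T : Subgroup G} (h : HG p D T) (g : G) : HG p D (cj g T) :=
  let ⟨_, a, b⟩ := h; ⟨_, cj_mono g a, b.cj g⟩

open Classical in
/-- the conjugacy functor -/
noncomputable def WW (p : ℕ) (D : Type*) [AddCommGroup D] [DistribMulAction G D] (T : Subgroup G) :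
    Subgroup G := if HG p D T then JG p D T else WT D T

theorem WW_le (T : Subgroup G) : WW p D T ≤ T := by
  unfold WW; split_ifs; exacts [JG_le T, WT_le T]

theorem WW_cj (g : G) (T : Subgroup G) : WW p D (cj g T) = cj g (WW p D T) := by
  unfold WW
  by_cases h : HG p D T
  · rw [if_pos h, if_pos (h.cj g), JG_cj]
  · rw [if_neg h, if_neg fun c => h (by simpa using c.cj g⁻¹), WT_cj]

theorem Tv.card {b : G} {w : D} (h : Tv b w) {A : Subgroup G} (ne : A ≠ ⊥)
    (fx : ∀ v : D, b • v = v → v ∈ Fx D A) : Nat.card D ≤ Nat.card A * Nat.card (Fx D A) := by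
  have c1 : Nat.card (dl (D := D) b).range ≤ 2 := by
    have : ((dl (D := D) b).range : Set D) ⊆ {0, w} := by
      rintro _ ⟨v, rfl⟩
      rcases h.2 v with e | e <;> simp [dl, e]
    exact (Set.ncard_le_ncard this).trans ((Set.ncard_insert_le _ _).trans (by simp))
  have c2 : Nat.card (dl (D := D) b).ker ≤ Nat.card (Fx D A) :=
    AddSubgroup.card_le_of_le fun v hv => fx v (sub_eq_zero.1 hv)
  have c3 : 2 ≤ Nat.card A := (one_lt_card_iff_ne_bot A).2 ne
  rw [card_dl (D := D) b, mul_comm]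
  exact Nat.mul_le_mul (c1.trans c3) c2

theorem Tv.off {b : G} {w : D} (h : Tv b w) {P : Subgroup G} (m : b ∈ P) : Off D P := by
  have ne : zpowers b ≠ ⊥ := by simpa using h.ne1
  refine ⟨zpowers b, zpowers_le.2 m, ne, ?_, h.card ne fun v hv x hx =>
    (zpowers_le (H := MulAction.stabilizer G v)).2 hv hx⟩
  rintro _ ⟨i, rfl⟩ _ ⟨j, rfl⟩
  exact zpow_mul_comm _ _ _

theorem noOv_of {H T : Subgroup G} (hT : IsSylowIn 2 T H) (ng : ¬ HG 2 D T) : NoOv D H := by
  intro a ha b hb u w h k ax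
  by_contra ne
  have cm := h.cm k ((ax w).2 k.fix) ((ax u).1 h.fix)
  have pg : IsPGroup 2 (zpowers a ⊔ zpowers b : Subgroup G) :=
    h.pg.to_sup_of_normal_right' k.pg (by
      rw [zpowers_le, mem_normalizer_iff_cj, cj_zpowers, cm, mul_inv_cancel_right])
  obtain ⟨g, -, le⟩ := hT.exists_cj_le pg (sup_le (zpowers_le.2 ha) (zpowers_le.2 hb))
  have n0 : (zpowers a ⊔ zpowers b : Subgroup G) ≠ ⊥ := fun e =>
    h.ne1 (mem_bot.1 (e ▸ mem_sup_left (mem_zpowers a)))
  have fx : ∀ v : D, a • v = v → v ∈ Fx D (zpowers a ⊔ zpowers b) := fun v hv x hx =>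
    (sup_le (c := MulAction.stabilizer G v) (zpowers_le.2 hv) (zpowers_le.2 ((ax v).1 hv))) hx
  have c1 : ∀ c, c * a = a * c → c * b = b * c → ∀ x ∈ zpowers a ⊔ zpowers b, x * c = c * x :=
    fun c e f x hx => mem_centralizer_singleton_iff.1 (sup_le (c := centralizer {c})
      (zpowers_le.2 (mem_centralizer_singleton_iff.2 e.symm))
      (zpowers_le.2 (mem_centralizer_singleton_iff.2 f.symm)) hx)
  refine ng ⟨_, le, Good.cj ⟨⟨n0, fun x hx y hy => c1 y (c1 a rfl cm y hy) (c1 b cm.symm rfl y hy) x hx,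
    h.card n0 fx⟩, fun y hy x hx h1 h2 => ?_⟩ g⟩
  simp only [Finset.sum_range_succ, Finset.sum_range_zero, zero_add, pow_zero, one_smul, pow_one]
  by_cases m : a • y = y
  · rw [fx y m x hx, ← two_nsmul, hy]
  · exfalso
    have pw : ∀ i : ℕ, x ^ i • y = y ∨ x ^ i • y = x • y := fun i => by
      induction i with
      | zero => simp
      | succ i ih =>
        rw [pow_succ', mul_smul]
        rcases ih with e | e <;> rw [e]
        · exact Or.inr rfl
        · left; rw [← mul_smul, ← pow_two, h2]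
    have m' : b • y ≠ y := fun e => m ((ax y).2 e)
    obtain ⟨i, hi⟩ := h1 a (mem_sup_left (mem_zpowers a))
    obtain ⟨j, hj⟩ := h1 b (mem_sup_right (mem_zpowers b))
    have e1 := (hi ▸ pw i).resolve_left m
    have e2 := (hj ▸ pw j).resolve_left m'
    have : u = w := by simpa [h.mv m, k.mv m'] using e1.trans e2.symm
    exact ne (h.eq (this ▸ k) ax)

variable [hp : Fact p.Prime]

theorem Off.ww (hD : ∀ d : D, ∃ k, p ^ k • d = 0) {T : Subgroup G} (h : Off D T) :
    Off D (WW p D T) := by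
  unfold WW
  split_ifs with c
  · obtain ⟨A, a, b⟩ := c
    exact ⟨A, le_JG a b, b.1⟩
  · obtain ⟨-, a, ha, u, hu⟩ := (h.cases hD).resolve_left c
    exact hu.off (subset_closure ⟨ha, u, hu⟩)

/-- control of fixed points -/
theorem ctl (hD : ∀ d : D, ∃ k, p ^ k • d = 0) {H T : Subgroup G} (hT : IsSylowIn p T H)
    (o : Off D T) (d : D) (h1 : ∀ g ∈ H, cj g (WW p D T) = WW p D T → g • d = d)
    (h2 : p = 2 → ¬ HG p D T → ∀ a a', LSol D H T a a' → a' • d = d) : ∀ g ∈ H, g • d = d := by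
  refine ctl_D hD hT (fun x => (x ∈ H ∧ cj x (WW p D T) = WW p D T) ∨
    (p = 2 ∧ ¬ HG p D T ∧ ∃ a, LSol D H T a x)) ?_ (fun s hs => Or.inl ⟨hT.le hs, by
      rw [← WW_cj, cj_eq_of_mem hs]⟩) (fun v hv h => ?_) d ?_
  · rintro x (h | ⟨-, -, a, h⟩)
    exacts [h.1, h.2.1]
  · by_cases c : HG p D T
    · simp only [WW, if_pos c] at h
      refine norm_arg hT (JG_le (p := p) (D := D) T) (fun g _ le =>
        mem_normalizer_iff_cj.1 (mem_normalizer_of_cj_le (JG_cj_le le)))
        (fun g hg e => h g (Or.inl ⟨hg, e⟩)) fun g _ mv =>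
        orb_sum (hT.isPGroup.to_le (JG_le T)) (fun M hM => ?_) (by rw [← smul_comm, hv, smul_zero]) mv
      by_contra q
      push Not at q
      exact hM (sSup_le fun A hA => q A (le_JG hA.1 hA.2) hA.2)
    · obtain ⟨rfl, -⟩ := (o.cases hD).resolve_left c
      simp only [WW, if_neg c] at h
      exact ctl_tv hT (noOv_of hT c) hv (fun g hg e => h g (Or.inl ⟨hg, e⟩))
        fun a a' e => h a' (Or.inr ⟨trivial, c, a, e⟩)
  · rintro x (h | ⟨h, h', a, h''⟩)
    exacts [h1 x h.1 h.2, h2 h h' a x h'']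

/-- partial cocycle -/
def Co (D : Type*) [AddCommGroup D] [DistribMulAction G D] (S : Subgroup G) (t : G → D) : Prop :=
  ∀ g h, Off D (S ⊓ cj g S ⊓ cj (g * h) S) → t (g * h) = t g + g • t h

theorem Co.sub {S : Subgroup G} {t : G → D} (c : Co D S t) (z : D) :
    Co D S fun g => t g - (g • z - z) := fun g h o => by
  simp only [c g h o, mul_smul, smul_sub]; abel

theorem Co.on {S P : Subgroup G} {t : G → D} (c : Co D S t) (o : Off D P) {g h : G} (a : P ≤ S)
    (b : P ≤ cj g S) (e : P ≤ cj (g * h) S) : t (g * h) = t g + g • t h :=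
  c g h (o.mono (le_inf (le_inf a b) e))

theorem Co.nm {S P : Subgroup G} {t : G → D} (c : Co D S t) (o : Off D P) (a : P ≤ S) :
    ∀ g ∈ normalizer (P : Set G), ∀ h ∈ normalizer (P : Set G), t (g * h) = t g + g • t h :=
  fun g hg h hh => c.on o a (by rw [← cj_eq_of_mem_normalizer hg]; exact cj_mono g a)
    (by rw [← cj_eq_of_mem_normalizer (mul_mem hg hh)]; exact cj_mono _ a)

theorem Co.tv {S : Subgroup G} {t : G → D} (c : Co D S t) {b : G} {w : D} (k : Tv b w) {g h : G}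
    (a : b ∈ S) (e : g⁻¹ * b * g ∈ S) (f : (g * h)⁻¹ * b * (g * h) ∈ S) :
    t (g * h) = t g + g • t h :=
  c g h (k.off ⟨⟨a, mem_cj.2 e⟩, mem_cj.2 f⟩)

theorem Co.ind (hD : ∀ d : D, ∃ k, p ^ k • d = 0) {S : Subgroup G} (hS : IsSylowIn p S ⊤)
    {t : G → D} (c : Co D S t) (b1 : ∀ g, cj g (WW p D S) = WW p D S → t g = 0)
    (b2 : p = 2 → ∀ a a', Sol D S a a' → (∃ b ∈ TS D S, b ≠ a) → t a' = 0) :
    ∀ g, Off D (S ⊓ cj g S) → t g = 0 := by
  have z0 : ∀ s ∈ S, t s = 0 := fun s hs => b1 s (by rw [← WW_cj, cj_eq_of_mem hs])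
  have AB : ∀ n, (∀ P, IsExtremalIn p P S ⊤ → Off D P →
      n ≤ Nat.card (S ⊓ normalizer (P : Set G) : Subgroup G) → ∀ x ∈ normalizer (P : Set G), t x = 0) →
      ∀ P ≤ S, ∀ g, cj g P ≤ S → Off D P → n ≤ Nat.card P → t g = 0 := fun n A P le g hg =>
    (alperin_induction hS (fun P g => P ≤ S ∧ cj g P ≤ S ∧ (Off D P → n ≤ Nat.card P → t g = 0))
      (fun P Q g le ⟨a, b, e⟩ => ⟨le.trans a, (cj_mono g le).trans b, fun o m =>
        e (o.mono le) (m.trans (card_le_of_le le))⟩)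
      (fun P g h ⟨a, b, e⟩ ⟨_, b', e'⟩ => ⟨a, by rwa [cj_mul], fun o m => by
        rw [c.on (o.cj (h * g)) (by rwa [cj_mul]) (by rw [cj_mul]; exact cj_mono h b) (cj_mono _ a),
          e o m, e' (o.cj g) (by rwa [card_cj]), smul_zero, add_zero]⟩)
      (fun P g ⟨a, b, e⟩ => ⟨b, by simpa using a, fun o m => by
        have o' : Off D P := by simpa using o.cj g⁻¹
        have := c.on (g := g⁻¹) (h := g) o' a (cj_le_iff.1 b) (by simpa using a)
        rwa [inv_mul_cancel, z0 1 (one_mem _), e o' (by rwa [card_cj] at m), smul_zero, add_zero,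
          eq_comm] at this⟩)
      (fun U hU _ x hx => ⟨hU.1, by rw [cj_eq_of_mem_normalizer hx.2]; exact hU.1, fun o m =>
        A U hU o (m.trans (card_le_of_le (le_inf hU.1 le_normalizer))) x hx.2⟩)
      P le g trivial hg).2.2
  have A : ∀ k n, Nat.card S < n + k → ∀ P, IsExtremalIn p P S ⊤ → Off D P →
      n ≤ Nat.card (S ⊓ normalizer (P : Set G) : Subgroup G) →
      ∀ x ∈ normalizer (P : Set G), t x = 0 := by
    intro k
    induction k with
    | zero =>
      intro n hn P _ _ m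
      have := card_le_of_le (inf_le_left : S ⊓ normalizer (P : Set G) ≤ S)
      omega
    | succ k ih =>
      intro n hn P hP o m
      have A' := ih (n + 1) (by omega)
      have B' := AB _ A'
      have hT := hP.2
      rw [top_inf_eq] at hT
      set T := S ⊓ normalizer (P : Set G) with hTd
      have PT : P ≤ T := le_inf hP.1 le_normalizer
      obtain ⟨z, hz, -⟩ := avg hD hT.le hT.not_dvd t (c.nm o hP.1) fun s hs => z0 s hs.1
      have oW := (o.mono PT).ww hD
      have WS : WW p D T ≤ S := (WW_le T).trans inf_le_left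
      have nW : ∀ g, cj g (WW p D T) = WW p D T → t g = 0 := fun g hg => by
        by_cases e : T = S
        · rw [e] at hg; exact b1 g hg
        set W := WW p D T
        have lt : T < S ⊓ normalizer (W : Set G) :=
          (lt_inf_normalizer_of_lt hS.isPGroup (lt_of_le_of_ne inf_le_left e)).trans_le
            fun x hx => ⟨hx.1, mem_normalizer_iff_cj.2 (by
              rw [← WW_cj, cj_eq_of_mem_normalizer hx.2])⟩
        have := card_lt_of_lt lt
        obtain ⟨h, -, ex⟩ := hS.exists_extremal WS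
        obtain ⟨r, -, r1, r2⟩ := ex.exists_cj_normalizer_le hS (mem_top h) rfl
        rw [← r1] at ex r2
        set k := r * h
        have tk : t k = 0 := B' _ inf_le_left k (r2.trans inf_le_left)
          (oW.mono (le_inf WS le_normalizer)) (by omega)
        have e1 : cj (k * g) W = cj k W := by rw [cj_mul, hg]
        have e2 : cj (k * g * k⁻¹) (cj k W) = cj k W := by rw [cj_cj, inv_mul_cancel_right, e1]
        have t2 := A' _ ex (oW.cj k) (by
          have := card_le_of_le r2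
          rw [card_cj] at this
          omega) _ (mem_normalizer_iff_cj.2 e2)
        have q1 := c.on (g := k) (h := g) (oW.cj k) ex.1 (cj_mono k WS) (e1 ▸ cj_mono _ WS)
        have q2 := c.on (g := k * g * k⁻¹) (h := k) (oW.cj k) ex.1 (e2 ▸ cj_mono _ ex.1)
          (by rw [inv_mul_cancel_right, ← e1]; exact cj_mono _ WS)
        rw [inv_mul_cancel_right, q1, t2, tk, smul_zero, zero_add, add_zero] at q2
        simpa using congrArg (k⁻¹ • ·) q2
      have fz := ctl hD hT (o.mono PT) z (fun g hg e => by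
        have := hz g hg
        rw [nW g e] at this
        exact sub_eq_zero.1 this.symm) fun p2 ng a a' h => by
          have := hz a' h.2.1
          obtain ⟨-, b, hb, w, hw⟩ := (o.cases hD).resolve_left fun ⟨A, x, y⟩ => ng ⟨A, x.trans PT, y⟩
          subst p2
          obtain ⟨s, na⟩ := h.sol hS.isPGroup hP.1 hT (noOv_of hT ng)
          rw [b2 rfl a a' s ⟨b, ⟨hP.1 hb, w, hw⟩, fun q => na (q ▸ hb)⟩] at this
          exact sub_eq_zero.1 this.symm
      intro x hx
      rw [hz x hx, fz x hx, sub_self]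
  intro g o
  refine AB 0 (A (Nat.card S + 1) 0 (by omega)) (cj g⁻¹ (S ⊓ cj g S)) (cj_le_iff.2 (by simp)) g
    (by simp) (o.cj _) (Nat.zero_le _)

theorem Co.norm2 {S : Subgroup G} (hS : IsSylowIn 2 S ⊤) {t : G → D} (c : Co D S t)
    (b1 : ∀ g, cj g (WT D S) = WT D S → t g = 0) :
    ∃ z : D, (∀ g, cj g (WT D S) = WT D S → g • z = z) ∧
      ∀ a a', Sol D S a a' → (∃ b ∈ TS D S, b ≠ a) → t a' = a' • z - z := by
  classical
  have z0 : ∀ s ∈ S, t s = 0 := fun s hs => b1 s (cj_WT hs)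
  have cjt : ∀ g, cj g (WT D S) = WT D S → ∀ a a', Sol D S a a' → (∃ b ∈ TS D S, b ≠ a) →
      t (g * a' * g⁻¹) = g • t a' ∧ ∃ b ∈ TS D S, b ≠ g * a * g⁻¹ := by
    rintro g hg a a' s ⟨b, hb, ne⟩
    obtain ⟨w, hw⟩ := hb.2
    have m : g * b * g⁻¹ ∈ S := WT_le (D := D) S (hg ▸ conj_mem_cj (subset_closure hb))
    have cm := s.2.2 b hb ne
    have e : (g * a')⁻¹ * (g * b * g⁻¹) * (g * a') = b := by
      calc _ = a'⁻¹ * (b * a') := by group
        _ = b := by rw [← cm]; group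
    have q1 := c.tv (g := g) (h := a') (hw.cj g) m (by simpa [mul_assoc] using hb.1)
      (by rw [e]; exact hb.1)
    have q2 := c.tv (g := g * a' * g⁻¹) (h := g) (hw.cj g) m (by
      have : (g * a' * g⁻¹)⁻¹ * (g * b * g⁻¹) * (g * a' * g⁻¹) =
          g * ((g * a')⁻¹ * (g * b * g⁻¹) * (g * a')) * g⁻¹ := by group
      rw [this, e]; exact m) (by rw [inv_mul_cancel_right, e]; exact hb.1)
    rw [inv_mul_cancel_right, q1, b1 g hg, smul_zero, zero_add, add_zero] at q2
    exact ⟨q2.symm, _, ⟨m, _, hw.cj g⟩, by simpa using ne⟩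
  let Θ := (Set.toFinite {u : D | ∃ a a', Sol D S a a' ∧ Tv a u ∧ (∃ b ∈ TS D S, b ≠ a) ∧
    t a' ≠ 0}).toFinset
  have mΘ : ∀ {u}, u ∈ Θ ↔ ∃ a a', Sol D S a a' ∧ Tv a u ∧ (∃ b ∈ TS D S, b ≠ a) ∧ t a' ≠ 0 := by
    simp [Θ]
  have iv : ∀ g, cj g (WT D S) = WT D S → ∀ u ∈ Θ, g • u ∈ Θ := fun g hg u hu => by
    obtain ⟨a, a', s, h, o, n⟩ := mΘ.1 hu
    obtain ⟨e, o'⟩ := cjt g hg a a' s o
    exact mΘ.2 ⟨_, _, s.cj hg, h.cj g, o', by
      rw [e]; exact fun q => n (by simpa using congrArg (g⁻¹ • ·) q)⟩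
  refine ⟨∑ u ∈ Θ, u, fun g hg => ?_, fun a a' s o => ?_⟩
  · rw [Finset.smul_sum]
    exact Finset.sum_nbij' (g • ·) (g⁻¹ • ·) (iv g hg) (iv g⁻¹ (cj_eq_iff.1 hg).symm) (by simp)
      (by simp) (by simp)
  obtain ⟨aS, ⟨u, u', pu, hu', e⟩, s1⟩ := id s
  have f : a' • u ≠ u := fun q => e ((pu.sym hu').2 q)
  have oth : ∀ y ∈ Θ, y ≠ u → a' • y = y := fun y hy ne => by
    obtain ⟨b, _, s', h, -⟩ := mΘ.1 hy
    exact h.of_cm (s1 b ⟨s'.1, y, h⟩ fun q => ne ((q ▸ h).uq pu.1))
  rw [Finset.smul_sum, ← Finset.sum_sub_distrib]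
  by_cases z : t a' = 0
  · rw [z]
    refine (Finset.sum_eq_zero fun y hy => sub_eq_zero.2 (oth y hy ?_)).symm
    rintro rfl
    obtain ⟨b, b', s', h, -, n⟩ := mΘ.1 hy
    obtain rfl := pu.2.2 b h
    rcases s.uq hS s' with q | q <;> rw [q] at n
    · exact n z
    · rw [(cjt b (cj_WT aS) b a' s o).1, z, smul_zero] at n
      exact n rfl
  · rw [Finset.sum_eq_single u (fun y hy ne => sub_eq_zero.2 (oth y hy ne))
      fun q => absurd (mΘ.2 ⟨a, a', s, pu.1, o, z⟩) q, hu'.mv f, add_sub_cancel_left]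
    obtain ⟨b, hb, ne⟩ := id o
    obtain ⟨w, hw⟩ := hb.2
    have cen : ∀ x, x * b = b * x → x⁻¹ * b * x ∈ S := fun x q => by
      rw [mul_assoc, ← q, inv_mul_cancel_left]; exact hb.1
    have c1 := s1 b hb ne
    have c2 := pu.cm hS.isPGroup hw aS hb.1
    have q0 := (cjt a (cj_WT aS) a a' s o).1
    have q1 := c.tv (g := a') (h := a * a') hw hb.1 (cen _ c1) (cen _ (by
      simp only [mul_assoc, c1]; rw [← mul_assoc a, c2, mul_assoc, ← mul_assoc, c1, mul_assoc]))
    have q2 := c.tv (g := a) (h := a') hw hb.1 (cen _ c2) (cen _ (by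
      rw [mul_assoc, c1, ← mul_assoc, c2, mul_assoc]))
    rw [pu.braid hu' e, hu'.inv, mul_assoc, q1, q2, z0 a aS, zero_add] at q0
    rcases hu'.2 (a • t a') with x | x <;> rw [x] at q0
    · exact absurd (by simpa using q0) z
    · linear_combination (norm := abel) q0 - hu'.two

/-- **Main theorem.** -/
theorem main (hD : ∀ d : D, ∃ k, p ^ k • d = 0) {S : Subgroup G} (hS : IsSylowIn p S ⊤)
    (t : G → D) (z0 : ∀ s ∈ S, t s = 0)
    (co : ∀ g h, Off D (S ⊓ cj g S ⊓ cj (g * h) S) → t (g * h) = t g + g • t h) :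
    ∃ z : D, (∀ s ∈ S, s • z = z) ∧ ∀ g, Off D (S ⊓ cj g S) → t g = g • z - z := by
  have c : Co D S t := co
  by_cases o : Off D S
  swap
  · exact ⟨0, fun s _ => smul_zero s, fun g h => absurd (h.mono inf_le_left) o⟩
  have sN : ∀ s ∈ S, cj s (WW p D S) = WW p D S := fun s hs => by rw [← WW_cj, cj_eq_of_mem hs]
  have hN : IsSylowIn p S (normalizer (WW p D S : Set G)) :=
    hS.of_le (fun s hs => mem_normalizer_iff_cj.2 (sN s hs)) le_top
  obtain ⟨z, hz, -⟩ := avg hD hN.le hN.not_dvd t (c.nm (o.ww hD) (WW_le S)) z0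
  have c1 := c.sub z
  have b1 : ∀ g, cj g (WW p D S) = WW p D S → t g - (g • z - z) = 0 := fun g hg =>
    sub_eq_zero.2 (hz g (mem_normalizer_iff_cj.2 hg))
  have fz : ∀ s ∈ S, s • z = z := fun s hs => by
    have := hz s (hN.le hs)
    rw [z0 s hs] at this
    exact sub_eq_zero.1 this.symm
  by_cases gd : HG p D S
  · refine ⟨z, fz, fun g h => sub_eq_zero.1 (c1.ind hD hS b1 (fun p2 a a' s _ => b1 a' ?_) g h)⟩
    subst p2
    rw [WW, if_pos gd]
    refine cj_eq_of_mem_centralizer fun r hr => ?_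
    exact mem_centralizer_singleton_iff.1 (sSup_le (a := centralizer {a'}) (fun A hA r hr =>
      mem_centralizer_singleton_iff.2 (s.good hS hA.1 hA.2 r hr)) hr)
  · obtain ⟨rfl, -⟩ := (o.cases hD).resolve_left gd
    have e : WW 2 D S = WT D S := by rw [WW, if_neg gd]
    obtain ⟨y, y1, y2⟩ := c1.norm2 hS (e ▸ b1)
    refine ⟨z + y, fun s hs => by rw [smul_add, fz s hs, y1 s (cj_WT hs)], fun g h => ?_⟩
    have := (c1.sub y).ind hD hS (fun g hg => by
      simp only [b1 g hg, y1 g (e ▸ hg), sub_self]) (fun _ a a' s o => by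
      simp only [y2 a a' s o, sub_self]) g h
    rw [smul_add]
    linear_combination (norm := abel) this

end CF.Ex.T
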