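/-
Best offenders, and the vanishing of `H¹` on the subgroups containing a nontrivial best offender.
-/
import Cfsg.Agent.Ex.C2
import Cfsg.Agent.Ex.T4

set_option autoImplicit false
set_option linter.unusedSectionVars false

namespace CF.Ex.M
open Subgroup CF.Transfer CF.Ex.T

variable {G X D : Type*} [Group G] [MulAction G X] [AddCommGroup D] [DistribMulAction G D] {p : ℕ}

/-- the elements acting trivially on `D₀` -/
def CT (G : Type*) [Group G] [DistribMulAction G D] (D₀ : AddSubgroup D) : Subgroup G where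
  carrier := {g | ∀ d ∈ D₀, g • d = d}
  one_mem' := fun d _ => one_smul _ d
  mul_mem' := fun a b d hd => by rw [mul_smul, b d hd, a d hd]
  inv_mem' := fun a d hd => by rw [inv_smul_eq_iff, a d hd]

/-- the measure -/
noncomputable def mu (D₀ : AddSubgroup D) (A : Subgroup G) : ℕ := Nat.card A * Nat.card (CD D₀ A)

/-- best offender (modulo the kernel of the action) -/
def Best (D₀ : AddSubgroup D) (A : Subgroup G) : Prop :=
  (∀ a ∈ A, ∀ b ∈ A, a * b * a⁻¹ * b⁻¹ ∈ CT G D₀) ∧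
    ∀ B, A ⊓ CT G D₀ ≤ B → B ≤ A → mu D₀ B ≤ mu D₀ A

/-- generated by the best offenders -/
def JB (D₀ : AddSubgroup D) (P : Subgroup G) : Subgroup G := sSup {A | A ≤ P ∧ Best D₀ A}

variable {D₀ D₁ : AddSubgroup D} {H : Subgroup G}

theorem JB_le (P : Subgroup G) : JB D₀ P ≤ P := sSup_le fun _ h => h.1

theorem le_JB {P A : Subgroup G} (le : A ≤ P) (h : Best D₀ A) : A ≤ JB D₀ P :=
  le_sSup (s := {A | A ≤ P ∧ Best D₀ A}) ⟨le, h⟩

theorem JB_mono {P Q : Subgroup G} (le : P ≤ Q) : JB D₀ P ≤ JB D₀ Q :=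
  sSup_le fun _ h => le_JB (h.1.trans le) h.2

theorem JB_JB (P : Subgroup G) : JB D₀ (JB D₀ P) = JB D₀ P :=
  le_antisymm (JB_le _) (sSup_le fun _ h => le_JB (le_JB h.1 h.2) h.2)

theorem le_JB' {P A : Subgroup G} (le : A ≤ P) (h : A ≤ CT G D₀) : A ≤ JB D₀ P :=
  le_JB le ⟨fun a ha b hb => h (mul_mem (mul_mem (mul_mem ha hb) (inv_mem ha)) (inv_mem hb)),
    fun B x y => by rw [le_antisymm y ((le_inf le_rfl h).trans x)]⟩

theorem Md.ct (m : Md p D₀ H) {h c : G} (hh : h ∈ H) (hc : c ∈ CT G D₀) :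
    h * c * h⁻¹ ∈ CT G D₀ := fun d hd => by
  rw [mul_smul, mul_smul, hc _ (m.inv _ (inv_mem hh) d hd), smul_inv_smul]

variable [Finite G] [Finite X] [Finite D] [hp : Fact p.Prime]

theorem Md.mu (m : Md p D₀ H) {h : G} (hh : h ∈ H) (A : Subgroup G) :
    mu D₀ (cj h A) = mu D₀ A := by
  unfold M.mu
  rw [card_cj]
  congr 1
  exact Nat.card_congr ⟨fun d => ⟨h⁻¹ • d.1, by simpa using m.cd (inv_mem hh) d.2⟩,
    fun d => ⟨h • d.1, m.cd hh d.2⟩, fun d => by simp, fun d => by simp⟩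

theorem Md.cjct (m : Md p D₀ H) {h : G} (hh : h ∈ H) : cj h (CT G D₀) = CT G D₀ :=
  mem_normalizer_iff_cj.1 (mem_normalizer_of_cj_le (cj_le_iff_forall.2 fun _ => m.ct hh))

theorem Best.cj (m : Md p D₀ H) {h : G} (hh : h ∈ H) {A : Subgroup G} (b : Best D₀ A) :
    Best D₀ (cj h A) := by
  refine ⟨fun x hx y hy => ?_, fun B x y => ?_⟩
  · convert m.ct hh (b.1 _ (mem_cj.1 hx) _ (mem_cj.1 hy)) using 1; group
  · rw [m.mu hh, ← m.mu (inv_mem hh) B]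
    refine b.2 _ (cj_le_iff.1 ?_) (le_cj_iff.1 y)
    rwa [cj_inf, m.cjct hh]

theorem Md.jb (m : Md p D₀ H) {h : G} (hh : h ∈ H) (P : Subgroup G) :
    JB D₀ (cj h P) = cj h (JB D₀ P) := by
  have k : ∀ h ∈ H, ∀ P : Subgroup G, cj h (JB D₀ P) ≤ JB D₀ (cj h P) := fun h hh P =>
    cj_le_iff.2 (sSup_le fun _ hA => cj_le_iff.1 (le_JB (cj_mono h hA.1) (hA.2.cj m hh)))
  exact le_antisymm (le_cj_iff.2 (by simpa using k _ (inv_mem hh) (cj h P))) (k h hh P)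

theorem card_rel {U W : AddSubgroup D} (le : U ≤ W) : Nat.card U * U.relIndex W = Nat.card W := by
  rw [← (U.addSubgroupOf W).card_mul_index,
    Nat.card_congr (AddSubgroup.addSubgroupOfEquivOfLe le).toEquiv]
  rfl

theorem card_two {U W Z : AddSubgroup D} (a : U ≤ Z) (b : W ≤ Z) :
    Nat.card U * Nat.card W ≤ Nat.card Z * Nat.card (U ⊓ W : AddSubgroup D) := by
  rw [← card_rel b, ← card_rel (inf_le_left : U ⊓ W ≤ U), AddSubgroup.inf_relIndex_left]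
  have := AddSubgroup.relIndex_le_of_le_right (H := W) a AddSubgroup.index_ne_zero_of_finite
  calc _ ≤ Nat.card (U ⊓ W : AddSubgroup D) * W.relIndex Z * Nat.card W := by gcongr
    _ = _ := by ring

theorem Best.res (le : D₁ ≤ D₀) {A : Subgroup G} (b : Best D₀ A) : Best D₁ A := by
  refine ⟨fun x hx y hy d hd => b.1 x hx y hy d (le hd), fun B x y => ?_⟩
  have h1 := b.2 B (le_trans (inf_le_inf_left A (show CT G D₀ ≤ CT G D₁ from
    fun g hg d hd => hg d (le hd))) x) y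
  have h2 := card_two (U := CD D₁ B) (W := CD D₀ A) (Z := CD D₀ B) (fun d hd => ⟨le hd.1, hd.2⟩)
    (CD_anti _ y)
  have e : CD D₁ B ⊓ CD D₀ A = CD D₁ A := le_antisymm (fun d hd => ⟨hd.1.1, hd.2.2⟩)
    fun d hd => ⟨CD_anti _ y hd, le hd.1, hd.2⟩
  rw [e] at h2
  unfold mu at *
  refine Nat.le_of_mul_le_mul_right (c := Nat.card (CD D₀ A)) ?_ Nat.card_pos
  calc _ = Nat.card B * (Nat.card (CD D₁ B) * Nat.card (CD D₀ A)) := by ring
    _ ≤ Nat.card B * Nat.card (CD D₀ B) * Nat.card (CD D₁ A) := by rw [mul_assoc]; gcongr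
    _ ≤ Nat.card A * Nat.card (CD D₀ A) * Nat.card (CD D₁ A) := by gcongr
    _ = _ := by ring

theorem JB_res (le : D₁ ≤ D₀) (P : Subgroup G) : JB D₀ P ≤ JB D₁ P :=
  sSup_le fun _ h => le_JB h.1 (h.2.res le)

/-- the faithful quotient, abstractly -/
theorem Md.quot (m : Md p D₀ H) : ∃ (Γ : Subgroup (D₀ ≃ₗ[ℤ] D₀)) (_ : Finite Γ) (π : H →* Γ),
    Function.Surjective π ∧ ∀ (h : H) (d : D₀), ((π h • d : D₀) : D) = (h : G) • (d : D) := by
  let : DistribMulAction H D₀ :=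
    { smul := fun h d => ⟨(h : G) • (d : D), m.inv _ h.2 _ d.2⟩
      one_smul := fun d => Subtype.ext (one_smul G (d : D))
      mul_smul := fun g h d => Subtype.ext (mul_smul (g : G) (h : G) (d : D))
      smul_zero := fun g => Subtype.ext (smul_zero (g : G))
      smul_add := fun g d e => Subtype.ext (smul_add (g : G) (d : D) e) }
  let ρ : H →* (D₀ ≃ₗ[ℤ] D₀) := DistribMulAction.toModuleAut ℤ D₀
  exact ⟨ρ.range, Finite.of_surjective _ ρ.rangeRestrict_surjective, ρ.rangeRestrict,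
    ρ.rangeRestrict_surjective, fun _ _ => rfl⟩

set_option maxHeartbeats 800000 in
theorem main'' {Γ : Type*} [Group Γ] [Finite Γ] [DistribMulAction Γ D₀] [FaithfulSMul Γ D₀]
    (π : H →* Γ) (sj : Function.Surjective π)
    (hπ : ∀ (h : H) (d : D₀), ((π h • d : D₀) : D) = (h : G) • (d : D)) (m : Md p D₀ H)
    {Y S : Subgroup G} (hS : IsSylowIn p S H) (YS : Y ≤ S)
    (YC : Y ≤ CT G D₀) (mx : ∀ Q : Subgroup G, IsPGroup p Q → Q ≤ H ⊓ CT G D₀ → Q ≤ Y)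
    (t : G → D)
    (tm : ∀ g ∈ H, t g ∈ D₀) (z0 : ∀ s ∈ S, t s = 0)
    (co : ∀ P, Y ≤ P → JB D₀ P ≠ Y → ∀ g ∈ H, ∀ h ∈ H, P ≤ S → P ≤ cj g S → P ≤ cj (g * h) S →
      t (g * h) = t g + g • t h)
    (kc : ∀ P, Y ≤ P → JB D₀ P ≠ Y → ∀ g ∈ H, ∀ c ∈ H ⊓ CT G D₀, P ≤ S → P ≤ cj g S →
      P ≤ cj (c * g) S → t (c * g) = t g) :
    ∃ z ∈ D₀, ∀ g ∈ H, JB D₀ (S ⊓ cj g S) ≠ Y → t g = g • z - z := by
  classical
  set C := H ⊓ CT G D₀ with hC
  have kπ : ∀ h : H, π h = 1 ↔ (h : G) ∈ CT G D₀ := fun h =>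
    ⟨fun e d hd => by simpa [e] using (hπ h ⟨d, hd⟩).symm, fun e =>
      FaithfulSMul.eq_of_smul_eq_smul (α := D₀) fun d => Subtype.ext (by
        rw [hπ, e d d.2, one_smul])⟩
  have nC : H ≤ normalizer (C : Set G) := fun h hh => mem_normalizer_iff_cj.2 (by
    rw [cj_inf, cj_eq_of_mem hh, m.cjct hh])
  have cY : ∀ g ∈ H, cj g Y = Y := fun g hg => mem_normalizer_iff_cj.1 (mem_normalizer_of_cj_le
    (mx _ (isPGroup_cj (hS.isPGroup.to_le YS) _) (by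
      rw [← cj_eq_of_mem_normalizer (nC hg)]
      exact cj_mono _ (le_inf (YS.trans hS.le) YC))))
  have nY : ∀ g ∈ H, Y ≤ cj g S := fun g hg => cY g hg ▸ cj_mono g YS
  have up : ∀ {P P'}, Y ≤ P → P ≤ P' → JB D₀ P ≠ Y → JB D₀ P' ≠ Y := fun a b c e =>
    c (le_antisymm (e ▸ JB_mono b) (le_JB' a YC))
  let bar : Subgroup G → Subgroup Γ := fun P => (P.subgroupOf H).map π
  have bm : ∀ {P Q}, P ≤ Q → bar P ≤ bar Q := fun a => map_mono (comap_mono a)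
  have bc : ∀ (g : H) (P), bar (cj g P) = cj (π g) (bar P) := fun g P => by
    simp only [bar]; rw [← cj_subgroupOf, map_cj]
  have cb1 : ∀ A ≤ H, Nat.card (A ⊓ CT G D₀ : Subgroup G) * Nat.card (bar A) = Nat.card A :=
    fun A le => by
      rw [← relIndex_ker, show π.ker = (CT G D₀).subgroupOf H from ext fun h => kπ h,
        relIndex_subgroupOf le, ← inf_relIndex_left, card_mul_relIndex inf_le_left]
  have cb2 : ∀ A ≤ H, Nat.card (Fx D₀ (bar A)) = Nat.card (CD D₀ A) := fun A le =>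
    Nat.card_congr ⟨fun d => ⟨d.1.1, d.1.2, fun a ha => by
        rw [← hπ ⟨a, le ha⟩, d.2 _ ⟨⟨a, le ha⟩, ha, rfl⟩]⟩,
      fun d => ⟨⟨d.1, d.2.1⟩, by
        rintro _ ⟨a, ha, rfl⟩
        exact Subtype.ext ((hπ a _).trans (d.2.2 a ha))⟩, fun _ => rfl, fun _ => rfl⟩
  have cb3 : ∀ B ≤ CT G D₀, mu D₀ B = Nat.card B * Nat.card D₀ := fun B le => by
    rw [mu, show CD D₀ B = D₀ from inf_eq_left.2 fun d hd a ha => le ha d hd]
  have al : ∀ P ≤ S, JB D₀ P ≠ Y → Y ≤ P → Off D₀ (bar P) := fun P le ne yp => by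
    obtain ⟨A, hA, nl⟩ : ∃ A, (A ≤ P ∧ Best D₀ A) ∧ ¬ A ≤ Y := by
      by_contra c
      push Not at c
      exact ne (le_antisymm (sSup_le c) (le_JB' yp YC))
    have AH := hA.1.trans (le.trans hS.le)
    refine ⟨bar A, bm hA.1, fun e => nl (mx A (hS.isPGroup.to_le (hA.1.trans le)) fun a ha =>
      ⟨AH ha, (kπ ⟨a, AH ha⟩).1 (mem_bot.1 (e ▸ ⟨_, ha, rfl⟩))⟩), ?_, ?_⟩
    · rintro _ ⟨a, ha, rfl⟩ _ ⟨b, hb, rfl⟩
      have := (kπ (a * b * a⁻¹ * b⁻¹)).2 (hA.2.1 a ha b hb)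
      simpa [mul_inv_eq_one, mul_inv_eq_iff_eq_mul] using this
    · have := hA.2.2 _ le_rfl inf_le_left
      rw [cb3 _ inf_le_right, mu, ← cb1 A AH, mul_assoc, ← cb2 A AH] at this
      exact Nat.le_of_mul_le_mul_left this Nat.card_pos
  let pre : Subgroup Γ → Subgroup G := fun P => S ⊓ (P.comap π).map H.subtype
  have mp : ∀ {P g}, g ∈ pre P ↔ ∃ h : g ∈ S, π ⟨g, hS.le h⟩ ∈ P := fun {P g} =>
    ⟨fun ⟨a, ⟨_, b, c⟩⟩ => ⟨a, by subst c; exact b⟩, fun ⟨a, b⟩ => ⟨a, _, b, rfl⟩⟩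
  have yp : ∀ P, Y ≤ pre P := fun P y hy => mp.2 ⟨YS hy, by
    rw [(kπ _).2 (YC hy)]; exact one_mem _⟩
  have be : ∀ P ≤ bar S, Off D₀ P → JB D₀ (pre P) ≠ Y := fun P le ⟨A, AP, hA⟩ e => by
    have e1 : bar (pre A) = A := le_antisymm (by
      rintro _ ⟨a, ha, rfl⟩
      exact (mp.1 ha).2) fun γ hγ => by
        obtain ⟨s, hs, rfl⟩ := le (AP hγ)
        exact ⟨s, mp.2 ⟨hs, hγ⟩, rfl⟩
    have AH : pre A ≤ H := inf_le_left.trans hS.le
    have nl : ¬ pre A ≤ CT G D₀ := fun c => hA.1 (by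
      rw [← e1, eq_bot_iff]
      rintro _ ⟨a, ha, rfl⟩
      exact (kπ a).2 (c ha))
    obtain ⟨B, ⟨b1, b2, b3⟩, bx⟩ := Set.exists_max_image
      {B | pre A ⊓ CT G D₀ ≤ B ∧ B ≤ pre A ∧ ¬ B ≤ CT G D₀} (mu D₀) (Set.toFinite _)
      ⟨pre A, inf_le_left, le_rfl, nl⟩
    refine b3 (le_trans (le_JB (P := pre P) (b2.trans fun g hg =>
      let ⟨a, b⟩ := mp.1 hg; mp.2 ⟨a, AP b⟩) ⟨fun a ha b hb => ?_, fun B' x y => ?_⟩) (e ▸ YC))
    · refine (kπ (⟨a, AH (b2 ha)⟩ * ⟨b, AH (b2 hb)⟩ * ⟨a, AH (b2 ha)⟩⁻¹ * ⟨b, AH (b2 hb)⟩⁻¹)).1 ?_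
      simp only [map_mul, map_inv]
      rw [hA.2.1 _ (mp.1 (b2 ha)).2 _ (mp.1 (b2 hb)).2]; group
    · have x' : pre A ⊓ CT G D₀ ≤ B' := (le_inf b1 inf_le_right).trans x
      by_cases q : B' ≤ CT G D₀
      · refine le_trans ?_ (bx _ ⟨inf_le_left, le_rfl, nl⟩)
        rw [le_antisymm (le_inf (y.trans b2) q) x', cb3 _ inf_le_right, mu, ← cb1 _ AH, mul_assoc,
          ← cb2 _ AH, e1]
        exact Nat.mul_le_mul_left _ hA.2.2
      · exact bx _ ⟨x', y.trans b2, q⟩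
  have lf : ∀ P ≤ S, ∀ g ∈ H, P ≤ C ⊔ cj g S → ∃ c ∈ C, P ≤ cj (c * g) S := fun P le g hg h => by
    have s1 := hS.cj_of_mem hg
    obtain ⟨l, hl, k⟩ := (s1.of_le le_sup_right (sup_le inf_le_left s1.le)).exists_cj_le
      (hS.isPGroup.to_le le) h
    have : l⁻¹ ∈ ((C ⊔ cj g S : Subgroup G) : Set G) := inv_mem hl
    rw [coe_mul_of_right_le_normalizer_left _ _ (s1.le.trans nC)] at this
    obtain ⟨c, hc, s, hs, e⟩ := this
    refine ⟨c, hc, ?_⟩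
    rw [cj_le_iff, ← e, cj_mul, cj_eq_of_mem hs] at k
    rwa [cj_mul]
  have pl : ∀ P (g : H), P ≤ cj (π g) (bar S) → ∃ g' : H, π g' = π g ∧ pre P ≤ cj (g' : G) S :=
    fun P g h => by
      obtain ⟨c, hc, k⟩ := lf (pre P) inf_le_left g g.2 fun y hy => by
        obtain ⟨a, b⟩ := mp.1 hy
        obtain ⟨s, hs, e⟩ := (bc g S).symm ▸ h b
        have : y * (s : G)⁻¹ ∈ C := mem_inf.2 ⟨mul_mem (hS.le a) (inv_mem s.2),
          (kπ (⟨y, hS.le a⟩ * s⁻¹)).1 (by rw [map_mul, map_inv, e, mul_inv_cancel])⟩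
        simpa using mul_mem (mem_sup_left this : _ ∈ C ⊔ cj g S) (mem_sup_right hs)
      exact ⟨⟨c, hc.1⟩ * g, by rw [map_mul, (kπ _).2 hc.2, one_mul], k⟩
  have wd : ∀ g g' : H, π g = π g' → JB D₀ (S ⊓ cj g S) ≠ Y → JB D₀ (S ⊓ cj g' S) ≠ Y →
      t g = t g' := fun g g' e a b => by
    obtain ⟨k, e1, e2⟩ := pl (bar S ⊓ cj (π g) (bar S)) g inf_le_right
    have key : ∀ g : H, π k = π g → JB D₀ (S ⊓ cj g S) ≠ Y →
        pre (bar S ⊓ cj (π g) (bar S)) ≤ cj (k : G) S → t k = t g := fun g e a h => by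
      have := kc _ (le_inf YS (nY g g.2)) a g g.2 (k * g⁻¹ : H) ⟨(k * g⁻¹).2, (kπ _).1 (by
        rw [map_mul, map_inv, e, mul_inv_cancel])⟩ inf_le_left inf_le_right (by
          simp only [coe_mul, coe_inv, inv_mul_cancel_right]
          refine fun y hy => h (mp.2 ⟨hy.1, mem_inf.2 ⟨⟨_, hy.1, rfl⟩, ?_⟩⟩)
          rw [← bc]; exact ⟨_, hy.2, rfl⟩)
      simpa using this
    rw [← key g e1 a e2, key g' (e1.trans e) b (e ▸ e2)]
  let tb : Γ → D₀ := fun γ => if h : ∃ g : H, π g = γ ∧ JB D₀ (S ⊓ cj g S) ≠ Y then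
    ⟨t h.choose, tm _ h.choose.2⟩ else 0
  have tbe : ∀ g : H, JB D₀ (S ⊓ cj g S) ≠ Y → (tb (π g) : D) = t g := fun g a => by
    have h : ∃ g' : H, π g' = π g ∧ JB D₀ (S ⊓ cj g' S) ≠ Y := ⟨g, rfl, a⟩
    simp only [tb, dif_pos h]
    exact wd _ _ h.choose_spec.1 h.choose_spec.2 a
  have sy : IsSylowIn p (bar S) ⊤ := by
    have := hS.subgroupOf_top.map π
    rwa [map_top_of_surjective π sj] at this
  obtain ⟨z, -, hz⟩ := T.main (D := D₀) (fun d => let ⟨k, hk⟩ := m.pg d d.2; ⟨k, Subtype.ext hk⟩)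
    sy tb (by
      rintro _ ⟨s, hs, rfl⟩
      by_cases q : JB D₀ S = Y
      · exact dif_neg fun ⟨g, _, a⟩ => up (le_inf YS (nY g g.2)) inf_le_left a q
      · exact Subtype.ext ((tbe s (by rwa [cj_eq_of_mem (mem_subgroupOf.1 hs), inf_idem])).trans (z0 s hs)))
    fun γ η o => by
      obtain ⟨g, rfl⟩ := sj γ
      obtain ⟨h, rfl⟩ := sj η
      have q := be _ (inf_le_left.trans inf_le_left) o
      obtain ⟨g₁, a1, a2⟩ := pl _ g (inf_le_left.trans inf_le_right :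
        bar S ⊓ cj (π g) (bar S) ⊓ cj (π g * π h) (bar S) ≤ _)
      obtain ⟨k₁, b1, b2⟩ := pl (bar S ⊓ cj (π g) (bar S) ⊓ cj (π g * π h) (bar S)) (g * h)
        (by rw [map_mul]; exact inf_le_right)
      set P := pre (bar S ⊓ cj (π g) (bar S) ⊓ cj (π g * π h) (bar S))
      have PS : P ≤ S := inf_le_left
      have := co P (yp _) q g₁ g₁.2 (g₁⁻¹ * k₁ : H) (g₁⁻¹ * k₁).2 PS a2 (by simpa using b2)
      rw [← tbe g₁ (up (yp _) (le_inf PS a2) q), ← tbe (g₁⁻¹ * k₁) (up (P := cj (g₁ : G)⁻¹ P) (by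
          rw [le_cj_iff, inv_inv, cY _ g₁.2]; exact yp _)
        (le_inf (le_cj_iff.1 a2) (by rw [coe_mul, cj_mul]; exact cj_mono _ b2)) (by
          rwa [m.jb (inv_mem g₁.2), ne_eq, cj_eq_iff, inv_inv, cY _ g₁.2])),
        coe_mul, coe_inv, mul_inv_cancel_left, ← tbe k₁ (up (yp _) (le_inf PS b2) q), ← hπ,
        map_mul, map_inv, a1, b1, map_mul, inv_mul_cancel_left] at this
      exact Subtype.ext this
  refine ⟨z, z.2, fun g hg a => ?_⟩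
  rw [← tbe ⟨g, hg⟩ a, hz _ ((al _ inf_le_left a (le_inf YS (nY g hg))).mono
    (le_inf (bm inf_le_left) (bc ⟨g, hg⟩ S ▸ bm inf_le_right))), ← hπ ⟨g, hg⟩]
  rfl

/-- non-faithful form of `T.main` -/
theorem main' (m : Md p D₀ H) {Y S : Subgroup G} (hS : IsSylowIn p S H) (YS : Y ≤ S)
    (YC : Y ≤ CT G D₀) (mx : ∀ Q : Subgroup G, IsPGroup p Q → Q ≤ H ⊓ CT G D₀ → Q ≤ Y)
    (t : G → D)
    (tm : ∀ g ∈ H, t g ∈ D₀) (z0 : ∀ s ∈ S, t s = 0)
    (co : ∀ P, Y ≤ P → JB D₀ P ≠ Y → ∀ g ∈ H, ∀ h ∈ H, P ≤ S → P ≤ cj g S → P ≤ cj (g * h) S →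
      t (g * h) = t g + g • t h)
    (kc : ∀ P, Y ≤ P → JB D₀ P ≠ Y → ∀ g ∈ H, ∀ c ∈ H ⊓ CT G D₀, P ≤ S → P ≤ cj g S →
      P ≤ cj (c * g) S → t (c * g) = t g) :
    ∃ z ∈ D₀, ∀ g ∈ H, JB D₀ (S ⊓ cj g S) ≠ Y → t g = g • z - z := by
  obtain ⟨Γ, _, π, sj, hπ⟩ := m.quot
  exact main'' π sj hπ m hS YS YC mx t tm z0 co kc

end CF.Ex.M
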