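/-
Oliver's Proposition 3.3 (degrees at least two, all primes).
-/
import Cfsg.Agent.Ex.P1

set_option autoImplicit false
set_option linter.unusedSectionVars false

namespace CF.Ex.M
open Subgroup CF.Transfer CF.Ex.T

variable {G X D : Type*} [Group G] [MulAction G X] [AddCommGroup D] [DistribMulAction G D] {p : ℕ}
variable [Finite G] [Finite X] [Finite D] [hp : Fact p.Prime]
variable {D₀ : AddSubgroup D} {H : Subgroup G} {X₀ : Set X}

theorem Adm.syl (a : Adm p X₀ H) : ∃ x ∈ X₀, IsSylowIn p (Sb H [x]) H := by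
  obtain ⟨S, hS⟩ := exists_isSylowIn p H
  obtain ⟨x, hx, le⟩ := a.ex hS.le hS.isPGroup
  exact ⟨x, hx, (hS.eq_of_le (a.pg x hx) le (Sb_le _ _)).symm ▸ hS⟩

theorem le_Sb {P : Subgroup G} {x : X} {l : List X} (a : P ≤ Sb H [x]) (b : P ≤ Sb H l) :
    P ≤ Sb H (x :: l) := fun g hg => ⟨(a hg).1, by simpa using ⟨by simpa using (a hg).2, (b hg).2⟩⟩

theorem Sb_smul {h : G} (hh : h ∈ H) (x : X) : Sb H [h • x] = cj h (Sb H [x]) := Sb_ac hh [x]

theorem h1q (a : Adm p X₀ H) (m : Md p D₀ H) {Y : Subgroup G} (YH : Y ≤ H) (YC : Y ≤ CT G D₀)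
    (YX : ∀ x ∈ X₀, ∀ y ∈ Y, y • x = x)
    (mx : ∀ Q : Subgroup G, IsPGroup p Q → Q ≤ H ⊓ CT G D₀ → Q ≤ Y) :
    VG X₀ H (fun P => JB D₀ P ≠ Y) (CD D₀) (fun _ => ⊥) 1 := fun f c z => by
  classical
  have up : ∀ {P P'}, Y ≤ P → P ≤ P' → JB D₀ P ≠ Y → JB D₀ P' ≠ Y := fun a b c e =>
    c (le_antisymm (e ▸ JB_mono b) (le_JB' a YC))
  have Y1 : ∀ {l : List X}, (∀ x ∈ l, x ∈ X₀) → Y ≤ Sb H l := fun t y hy =>
    ⟨YH hy, fun x hx => YX x (t x hx) y hy⟩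
  obtain ⟨x₀, hx₀, hS⟩ := a.syl
  set S := Sb H [x₀]
  have YS : Y ≤ S := Y1 (by simpa)
  have pY := hS.isPGroup.to_le YS
  have nC : H ≤ normalizer ((H ⊓ CT G D₀ : Subgroup G) : Set G) := fun h hh =>
    mem_normalizer_iff_cj.2 (by rw [cj_inf, cj_eq_of_mem hh, m.cjct hh])
  have cY : ∀ g ∈ H, cj g Y = Y := fun g hg => mem_normalizer_iff_cj.1 (mem_normalizer_of_cj_le
    (mx _ (isPGroup_cj pY _) (by
      rw [← cj_eq_of_mem_normalizer (nC hg)]; exact cj_mono _ (le_inf YH YC))))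
  have rI : ∀ h ∈ H, ∀ P, JB D₀ P ≠ Y → JB D₀ (cj h P) ≠ Y := fun h hh P r => by
    rwa [m.jb hh, ne_eq, cj_eq_iff, cY _ (inv_mem hh)]
  have s2 : ∀ {P x y}, Y ≤ P → JB D₀ P ≠ Y → x ∈ X₀ → y ∈ X₀ → P ≤ Sb H [x] → P ≤ Sb H [y] →
      SS X₀ H (fun P => JB D₀ P ≠ Y) [x, y] := fun a b hx hy c d =>
    ⟨by simp, by simp [hx, hy], up a (le_Sb c d) b⟩
  have co3 : ∀ {P x y w}, Y ≤ P → JB D₀ P ≠ Y → x ∈ X₀ → y ∈ X₀ → w ∈ X₀ → P ≤ Sb H [x] →
      P ≤ Sb H [y] → P ≤ Sb H [w] → f [x, w] = f [x, y] + f [y, w] :=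
    fun {P x y w} a b hx hy hw c d e => by
      have := z [x, y, w] rfl ⟨by simp, by simp [hx, hy, hw], up a (le_Sb c (le_Sb d e)) b⟩
      rw [cb_three, AddSubgroup.mem_bot] at this
      linear_combination (norm := abel) - this
  have fm : ∀ x y, f [x, y] ∈ D₀ := fun x y => by
    by_cases q : SS X₀ H (fun P => JB D₀ P ≠ Y) [x, y]
    · exact (c.m _ rfl q).1
    · rw [c.z _ rfl q]; exact zero_mem _
  have fe : ∀ h ∈ H, ∀ x y, f [h • x, h • y] = h • f [x, y] := fun h hh x y => by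
    by_cases q : SS X₀ H (fun P => JB D₀ P ≠ Y) [x, y]
    · exact sub_eq_zero.1 (c.e _ rfl q h hh)
    · rw [c.z _ rfl q, c.z [h • x, h • y] rfl fun t => q (by
        simpa [ac] using t.ac a rI (inv_mem hh)), smul_zero]
  have f0 : ∀ x, f [x, x] = 0 := fun x => by
    by_cases q : SS X₀ H (fun P => JB D₀ P ≠ Y) [x, x]
    · have hx := q.2.1 x (by simp)
      have l := Sb_mono H (show [x].Sublist [x, x] by simp)
      simpa using co3 (Y1 q.2.1) q.2.2 hx hx hx l l l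
    · exact c.z _ rfl q
  have kC : ∀ y ∈ X₀, ∀ k ∈ H ⊓ CT G D₀, JB D₀ (Sb H [y, k • y]) ≠ Y → f [y, k • y] = 0 :=
    fun y hy k hk q => by
      set P := Sb H [y, k • y]
      have yp : Y ≤ P := Y1 (by simp [hy, a.inv k hk.1 y hy])
      have p1 : P ≤ Sb H [y] := Sb_mono H (by simp)
      have nk : ∀ g ∈ P, k⁻¹ * g * k ∈ P := fun g hg => by
        have h1 : k⁻¹ * g * k ∈ Sb H [y] := mem_cj.1 (Sb_smul hk.1 y ▸ Sb_mono H (by simp) hg)
        have h2 : k⁻¹ * (g * k * g⁻¹) ∈ Y := mx (Sb H [y] ⊓ CT G D₀) (a.pg y hy).to_inf_left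
          (inf_le_inf_right _ (Sb_le _ _)) (mem_inf.2 ⟨by
            simpa [mul_assoc] using mul_mem h1 (inv_mem (p1 hg)),
            mul_mem (inv_mem (mem_inf.1 hk).2) (m.ct hg.1 hk.2)⟩)
        simpa [mul_assoc] using mul_mem (yp h2) hg
      have pw : ∀ i : ℕ, P ≤ cj (k ^ i) P := fun i => by
        induction i with
        | zero => simp
        | succ i ih =>
          rw [pow_succ, cj_mul]
          exact ih.trans (cj_mono _ fun g hg => mem_cj.2 (nk g hg))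
      have kH : ∀ i : ℕ, k ^ i ∈ H := fun i => pow_mem (mem_inf.1 hk).1 i
      have pi : ∀ i : ℕ, P ≤ Sb H [k ^ i • y] := fun i => by
        rw [Sb_smul (kH i)]; exact (pw i).trans (cj_mono _ p1)
      have e : ∀ i : ℕ, f [y, k ^ i • y] = i • f [y, k • y] := fun i => by
        induction i with
        | zero => simp [f0]
        | succ i ih =>
          rw [co3 yp q hy (a.inv _ (kH i) y hy) (a.inv _ (kH (i + 1)) y hy) p1 (pi i) (pi (i + 1)),
            ih, pow_succ, mul_smul, fe _ (kH i), pow_mem (mem_inf.1 hk).2 i _ (fm _ _), succ_nsmul]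
      have sy : IsSylowIn p Y (H ⊓ CT G D₀) := isSylowIn_of_maximal pY (le_inf YH YC)
        fun Q b _ d => mx Q b d
      have : (Y.subgroupOf (H ⊓ CT G D₀)).Normal := normal_subgroupOf_of_le_normalizer
        fun g hg => mem_normalizer_iff_cj.2 (cY g hg.1)
      have km : k ^ Y.relIndex (H ⊓ CT G D₀) ∈ Y :=
        pow_index_mem (Y.subgroupOf (H ⊓ CT G D₀)) ⟨k, hk⟩
      obtain ⟨c', hc⟩ := m.unit sy.not_dvd
      rw [← hc _ (fm _ _), mul_nsmul', ← e, YX y hy _ km, f0, smul_zero]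
  have gx : ∀ {g}, g ∈ H → g • x₀ ∈ X₀ := fun hg => a.inv _ hg _ hx₀
  have sg : ∀ {g P}, g ∈ H → P ≤ cj g S → P ≤ Sb H [g • x₀] := fun hg b => (Sb_smul hg x₀).symm ▸ b
  obtain ⟨w, wm, hw⟩ := main' m hS YS YC mx (fun g => f [x₀, g • x₀]) (fun _ _ => fm _ _)
    (fun s hs => by rw [hs.2 x₀ (by simp), f0])
    (fun P b q g hg h hh c1 c2 c3 => by
      rw [co3 b q hx₀ (gx hg) (gx (mul_mem hg hh)) c1 (sg hg c2) (sg (mul_mem hg hh) c3), mul_smul,
        fe g hg])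
    fun P b q g hg k hk c1 c2 c3 => by
      have c4 := sg (mul_mem hk.1 hg) c3
      rw [co3 b q hx₀ (gx hg) (gx (mul_mem hk.1 hg)) c1 (sg hg c2) c4, mul_smul,
        kC _ (gx hg) k hk (up b (le_Sb (sg hg c2) (mul_smul k g x₀ ▸ c4)) q), add_zero]
  have ex : ∀ x ∈ X₀, ∃ g ∈ H, Sb H [x] ≤ cj g S := fun x hx => by
    obtain ⟨g, hg, le⟩ := hS.exists_cj_le (a.pg x hx) (Sb_le _ _)
    exact ⟨g⁻¹, inv_mem hg, cj_le_iff.1 le⟩
  choose! γ γH γle using ex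
  have wd : ∀ {P x g}, Y ≤ P → JB D₀ P ≠ Y → x ∈ X₀ → g ∈ H → P ≤ Sb H [x] → P ≤ cj g S →
      γ x • w + f [γ x • x₀, x] = g • w + f [g • x₀, x] := fun {P x g} b q hx hg c1 c2 => by
    have c3 := c1.trans (γle x hx)
    have k := hw _ (mul_mem (inv_mem hg) (γH x hx)) (up (P := cj g⁻¹ P)
      (cY _ (inv_mem hg) ▸ cj_mono _ b) (le_inf (le_cj_iff.1 c2) (by
        rw [cj_mul]; exact cj_mono _ c3)) (rI _ (inv_mem hg) _ q))
    have k2 := fe g hg x₀ ((g⁻¹ * γ x) • x₀)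
    rw [k, mul_smul, smul_inv_smul, smul_sub, mul_smul, smul_inv_smul] at k2
    rw [co3 b q (gx hg) (gx (γH x hx)) hx (sg hg c2) (sg (γH x hx) c3) c1, k2]
    abel
  let e : List X → D := fun l => match l with
    | [x] => γ x • w + f [γ x • x₀, x]
    | _ => 0
  have ee : ∀ x, SS X₀ H (fun P => JB D₀ P ≠ Y) [x] → ∀ h ∈ H, e [h • x] = h • e [x] :=
    fun x s h hh => by
      have hx := s.2.1 x (by simp)
      have s' := s.ac a rI hh
      simp only [e]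
      rw [wd (Y1 s'.2.1) s'.2.2 (a.inv h hh x hx) (mul_mem hh (γH x hx)) le_rfl (by
        rw [Sb_ac hh, cj_mul]; exact cj_mono _ (γle x hx)), mul_smul, mul_smul, fe h hh, smul_add]
  refine ⟨tc (SS X₀ H fun P => JB D₀ P ≠ Y) e, ⟨fun l _ y => tc_neg y, fun l x y => ?_,
    fun l x y h hh => ?_⟩, fun l x y => ?_⟩
  · obtain ⟨u, rfl⟩ := List.length_eq_one_iff.1 x
    rw [tc_pos y]
    refine ⟨add_mem (m.inv _ (γH u (y.2.1 u (by simp))) _ wm) (fm _ _), fun h hh => ?_⟩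
    rw [← ee u y h hh.1, hh.2 u (by simp)]
  · obtain ⟨u, rfl⟩ := List.length_eq_one_iff.1 x
    rw [tc_pos y, tc_pos (y.ac a rI hh)]
    exact sub_eq_zero.2 (ee u y h hh)
  · obtain ⟨u, v, rfl⟩ := List.length_eq_two.1 x
    have hu := y.2.1 u (by simp)
    have hv := y.2.1 v (by simp)
    have l1 := Sb_mono H (show [u].Sublist [u, v] by simp)
    have l2 := Sb_mono H (show [v].Sublist [u, v] by simp)
    have b := Y1 y.2.1
    rw [cb_two, tc_pos ⟨by simp, by simpa, up b l2 y.2.2⟩, tc_pos ⟨by simp, by simpa, up b l1 y.2.2⟩]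
    simp only [e]
    rw [wd b y.2.2 hv (γH u hu) l2 (l1.trans (γle u hu)), co3 b y.2.2 (gx (γH u hu)) hu hv
      (sg (γH u hu) (l1.trans (γle u hu))) l1 l2, AddSubgroup.mem_bot]
    abel

theorem VG.coef {R : Subgroup G → Prop} {U V U' V' : Subgroup G → AddSubgroup D} {n : ℕ}
    (o : OkG p H R U V) (a : Adm p X₀ H) (u : ∀ P, R P → U P = U' P) (v : ∀ P, R P → V P = V' P)
    (h : VG X₀ H R U' V' n) : VG X₀ H R U V n :=
  Van.congr (o.ok a) (fun _ => Iff.rfl) (fun _ s => u _ s.2.2) (fun _ s => v _ s.2.2) h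

/-- **Oliver's Proposition 3.3.** -/
theorem propP (k : ℕ) : ∀ (D₀ : AddSubgroup D) (X₀ : Set X) (H : Subgroup G)
    (R : Subgroup G → Prop), Adm p X₀ H → Md p D₀ H → Itv p H R →
    (∀ P ≤ H, IsPGroup p P → (R P ↔ R (JB D₀ P))) → VG X₀ H R (CD D₀) (fun _ => ⊥) (k + 2) := by
  induction k using Nat.strong_induction_on with
  | _ k ihk =>
  intro D₀
  induction hc : Nat.card D₀ using Nat.strong_induction_on generalizing D₀ with
  | _ c ihc =>
  intro X₀ H R a m i hR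
  refine red (m.ok i) a (JB D₀) (fun Y => Nat.card Y) (Nat.card G + 1)
    (fun Y => Nat.lt_succ_of_le Y.card_le_card_group) (fun h _ Y => card_cj h Y)
    (fun h hh P _ => m.jb hh P) (fun P _ => JB_le P)
    (fun _ _ x _ _ _ _ => (JB_mono x).eq_or_lt.imp Eq.symm card_lt_of_lt) fun P PH pg r => ?_
  set Y := JB D₀ P with hY
  have YH : Y ≤ H := (JB_le P).trans PH
  have pY : IsPGroup p Y := pg.to_le (JB_le P)
  have JY : JB D₀ Y = Y := JB_JB P
  have a' := a.norm YH pY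
  set N := H ⊓ normalizer (Y : Set G)
  have m' : Md p D₀ N := m.mono inf_le_left
  have YN : Y ≤ N := le_inf YH le_normalizer
  refine VG.iff (R' := fun Q => JB D₀ Q = Y) a' (fun l _ _ q => ⟨fun s => s.2, fun s =>
    ⟨(hR _ ((Sb_le _ _).trans inf_le_left) q).2 (by rw [s]; exact (hR P PH pg).1 r), s⟩⟩) ?_
  have rI : ∀ h ∈ N, ∀ Q, JB D₀ Q = Y → JB D₀ (cj h Q) = Y := fun h hh Q e => by
    rw [m'.jb hh, e, cj_eq_of_mem_normalizer hh.2]
  have i' : Itv p N fun Q => JB D₀ Q = Y := ⟨rI, fun _ _ _ x y _ _ z w =>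
    le_antisymm (w ▸ JB_mono y) (z ▸ JB_mono x)⟩
  by_cases YC : Y ≤ CT G D₀
  swap
  · have lt : CD D₀ Y < D₀ := lt_of_le_of_ne inf_le_left fun e => YC fun y hy d hd =>
      (e.symm ▸ hd : d ∈ CD D₀ Y).2 y hy
    have m1 : Md p (CD D₀ Y) N := ⟨fun h hh d hd => cj_eq_of_mem_normalizer hh.2 ▸ m'.cd hh hd,
      fun d hd => m.pg d hd.1⟩
    refine VG.coef (m'.ok i') a' (U' := CD (CD D₀ Y)) (fun Q e => le_antisymm
      (fun d hd => ⟨CD_anti _ (e ▸ JB_le Q) hd, hd.2⟩) fun d hd => ⟨hd.1.1, hd.2⟩) (fun _ _ => rfl) ?_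
    refine ihc _ (hc ▸ Set.Finite.card_lt_card (Set.toFinite _) lt) _ rfl _ N _ a' m1 i'
      fun Q _ _ => ⟨fun e => le_antisymm (e ▸ JB_mono (JB_le Q)) (JY.ge.trans (JB_mono
        (le_JB' (e ▸ JB_le Q) fun y hy d hd => hd.2 y hy))), fun e => le_antisymm ?_
        (e ▸ JB_mono (JB_le Q))⟩
    rw [← e, ← JB_JB Q]
    exact JB_mono (JB_res inf_le_left Q)
  by_cases mx : ∀ Q : Subgroup G, IsPGroup p Q → Q ≤ N ⊓ CT G D₀ → Q ≤ Y
  swap
  · push Not at mx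
    obtain ⟨Q, q1, q2, q3⟩ := mx
    refine prune a' m' (K := N ⊓ CT G D₀) inf_le_left (fun h hh => mem_normalizer_iff_cj.2 (by
      rw [cj_inf, cj_eq_of_mem hh, m'.cjct hh]))
      (fun g hg => ⟨0, fun d hd => by simpa using hg.2 d hd⟩) i'
      fun P' _ _ e => ⟨Q ⊔ Y, q1.to_sup_of_normal_right' pY fun g hg => (q2 hg).1.2,
        lt_of_le_of_lt (e ▸ le_JB' inf_le_left (inf_le_right.trans inf_le_right))
          (lt_of_le_not_ge le_sup_right fun c => q3 (le_sup_left.trans c)),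
        sup_le q2 (le_inf YN YC)⟩
  refine VG.iff (R' := fun Q => JB D₀ Q ≤ Y) a' (fun l _ t _ => ⟨le_of_eq, fun s =>
    le_antisymm s (le_JB' (Fp_le YN t) YC)⟩) ?_
  have rI' : ∀ h ∈ N, ∀ Q, JB D₀ Q ≤ Y → JB D₀ (cj h Q) ≤ Y := fun h hh Q e => by
    rw [m'.jb hh, ← cj_eq_of_mem_normalizer hh.2]; exact cj_mono h e
  refine VG.low (m'.ok itv_true) a' rI' (fun _ _ => trivial) (fun _ _ x y _ => (JB_mono x).trans y)
    (full a' m') ?_
  rcases k with _ | k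
  · exact (h1q a' m' YN YC (fun x hx => hx.2) mx).iff a' fun l _ t _ =>
      ⟨fun s e => s.2 e.le, fun s => ⟨trivial, fun e => s (le_antisymm e (le_JB' (Fp_le YN t) YC))⟩⟩
  · exact ihk k (by omega) D₀ _ N _ a' m' ⟨fun h hh Q r => ⟨trivial, fun c => r.2 (by
      simpa using rI' _ (inv_mem hh) _ c)⟩, fun _ _ _ x _ _ _ y _ =>
        ⟨trivial, fun c => y.2 ((JB_mono x).trans c)⟩⟩ fun Q _ _ => by rw [JB_JB]

end CF.Ex.M
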