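/-
Oliver's Theorem 3.4 for finite groups: higher limits of the centre functor vanish.
-/
import Cfsg.Agent.Ex.P2
import Cfsg.Agent.Ex.K0

set_option autoImplicit false
set_option linter.unusedSectionVars false

namespace CF.Ex.M
open Subgroup CF.Transfer CF.Ex.T

/-- the product of the centres of all subgroups -/
@[ext] structure ZD (G : Type*) [Group G] where
  v : Subgroup G → G
  m : ∀ Q, v Q ∈ Q
  c : ∀ Q, ∀ y ∈ Q, v Q * y = y * v Q

variable {G X : Type*} [Group G] [MulAction G X] {p : ℕ}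

namespace ZD

instance : Zero (ZD G) := ⟨⟨fun _ => 1, fun _ => one_mem _, by simp⟩⟩

instance : Add (ZD G) := ⟨fun a b => ⟨fun Q => a.v Q * b.v Q, fun Q => mul_mem (a.m Q) (b.m Q),
  fun Q y hy => by rw [mul_assoc, b.c Q y hy, ← mul_assoc, a.c Q y hy, mul_assoc]⟩⟩

instance : Neg (ZD G) := ⟨fun a => ⟨fun Q => (a.v Q)⁻¹, fun Q => inv_mem (a.m Q),
  fun Q y hy => by rw [inv_mul_eq_iff_eq_mul, ← mul_assoc, a.c Q y hy, mul_inv_cancel_right]⟩⟩

@[simp] theorem zero_v (Q : Subgroup G) : (0 : ZD G).v Q = 1 := rfl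
@[simp] theorem add_v (a b : ZD G) (Q : Subgroup G) : (a + b).v Q = a.v Q * b.v Q := rfl
@[simp] theorem neg_v (a : ZD G) (Q : Subgroup G) : (-a).v Q = (a.v Q)⁻¹ := rfl

instance : AddCommGroup (ZD G) where
  add_assoc a b c := by ext; simp [mul_assoc]
  zero_add a := by ext; simp
  add_zero a := by ext; simp
  nsmul := nsmulRec
  zsmul := zsmulRec
  neg_add_cancel a := by ext; simp
  add_comm a b := by ext Q; exact a.c Q _ (b.m Q)

theorem sub_v (a b : ZD G) (Q : Subgroup G) : (a - b).v Q = a.v Q * (b.v Q)⁻¹ := by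
  rw [sub_eq_add_neg]; rfl

theorem nsmul_v (n : ℕ) (a : ZD G) (Q : Subgroup G) : (n • a).v Q = a.v Q ^ n := by
  induction n with
  | zero => simp
  | succ n ih => rw [succ_nsmul, add_v, ih, pow_succ]

instance : SMul G (ZD G) := ⟨fun g a => ⟨fun Q => g * a.v (cj g⁻¹ Q) * g⁻¹,
  fun Q => mem_cj_inv.1 (a.m _), fun Q y hy => by
    have := a.c _ _ (conj_mem_cj_inv (g := g) hy)
    calc _ = g * (a.v (cj g⁻¹ Q) * (g⁻¹ * y * g)) * g⁻¹ := by group
      _ = _ := by rw [this]; group⟩⟩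

theorem smul_v (g : G) (a : ZD G) (Q : Subgroup G) : (g • a).v Q = g * a.v (cj g⁻¹ Q) * g⁻¹ := rfl

instance : DistribMulAction G (ZD G) where
  one_smul a := by ext; simp [smul_v]
  mul_smul g h a := by ext; simp [smul_v, cj_mul, mul_assoc]
  smul_zero g := by ext; simp [smul_v]
  smul_add g a b := by ext; simp [smul_v, mul_assoc]

instance [Finite G] : Finite (ZD G) := Finite.of_injective ZD.v fun _ _ => ZD.ext

end ZD

open ZD

/-- `p`-centric `p`-subgroups -/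
def Cen (p : ℕ) (P : Subgroup G) : Prop :=
  IsPGroup p P ∧ ∀ x : G, (∃ k : ℕ, x ^ p ^ k = 1) → (∀ y ∈ P, x * y = y * x) → x ∈ P

theorem Cen.up {P Q : Subgroup G} (h : Cen p P) (le : P ≤ Q) (pg : IsPGroup p Q) : Cen p Q :=
  ⟨pg, fun x a b => le (h.2 x a fun y hy => b y (le hy))⟩

theorem Cen.cj {P : Subgroup G} (h : Cen p P) (g : G) : Cen p (cj g P) :=
  ⟨isPGroup_cj h.1 g, fun x ⟨k, a⟩ b => mem_cj.2 (h.2 _ ⟨k, by
    have := conj_pow (a := g⁻¹) (b := x) (i := p ^ k)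
    simpa [a] using this⟩ fun y hy => by
      have := b _ (conj_mem_cj (g := g) hy)
      calc _ = g⁻¹ * (x * (g * y * g⁻¹)) * g := by group
        _ = _ := by rw [this]; group)⟩

theorem pel {P : Subgroup G} (h : IsPGroup p P) {x : G} (hx : x ∈ P) : ∃ k : ℕ, x ^ p ^ k = 1 :=
  let ⟨k, a⟩ := h ⟨x, hx⟩; ⟨k, congrArg Subtype.val a⟩

/-- families that are constant below `P` -/
def UZ (p : ℕ) (P : Subgroup G) : AddSubgroup (ZD G) where
  carrier := {m | ∀ Q, Cen p Q → Q ≤ P → m.v Q = m.v P}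
  add_mem' := fun a b Q x y => by rw [add_v, add_v, a Q x y, b Q x y]
  zero_mem' := fun _ _ _ => rfl
  neg_mem' := fun a Q x y => by rw [neg_v, neg_v, a Q x y]

/-- families that are trivial below `P` -/
def VZ (p : ℕ) (P : Subgroup G) : AddSubgroup (ZD G) where
  carrier := {m | ∀ Q, Cen p Q → Q ≤ P → m.v Q = 1}
  add_mem' := fun a b Q x y => by rw [add_v, a Q x y, b Q x y, one_mul]
  zero_mem' := fun _ _ _ => rfl
  neg_mem' := fun a Q x y => by rw [neg_v, a Q x y, inv_one]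

theorem UZ.smul {P : Subgroup G} {m : ZD G} (h : m ∈ UZ p P) (g : G) : g • m ∈ UZ p (cj g P) :=
  fun Q x y => by rw [smul_v, smul_v, h _ (x.cj _) (le_cj_iff.1 y), cj_inv_cj]

theorem UZ.anti {P P' : Subgroup G} (le : P ≤ P') (c : Cen p P) : UZ p P' ≤ UZ p P :=
  fun _ h Q x y => by rw [h Q x (y.trans le), h P c le]

theorem VZ_iff {P : Subgroup G} (c : Cen p P) {m : ZD G} (h : m ∈ UZ p P) :
    m ∈ VZ p P ↔ m.v P = 1 := ⟨fun a => a P c le_rfl, fun a Q x y => (h Q x y).trans a⟩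

theorem okZ {H : Subgroup G} {R : Subgroup G → Prop} (i : Itv p H R) (c : ∀ P, R P → Cen p P) :
    OkG p H R (UZ p) (VZ p) :=
  ⟨i, fun h _ _ _ _ hu => UZ.smul hu h, fun h _ P _ u hu Q x y => by
      rw [smul_v, hu _ (x.cj _) (le_cj_iff.1 y)]; group,
    fun _ _ x r _ => UZ.anti x (c _ r), fun _ _ x _ _ _ h Q y z => h Q y (z.trans x),
    fun P r m h Q x y => by rw [h Q x y, h P (c P r) le_rfl], fun P _ h hh u hu Q x y => by
      rw [sub_v, smul_v, hu _ (x.cj _) (cj_le_of_le_of_mem y (inv_mem hh)), hu Q x y, ← u.c P h hh]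
      group⟩

theorem itv_cen {H : Subgroup G} : Itv p H (Cen p) :=
  ⟨fun h _ _ r => r.cj h, fun _ _ _ x y _ z a _ => a.up x (z.to_le y)⟩

/-- families supported at `Y` -/
def DY (Y : Subgroup G) : AddSubgroup (ZD G) where
  carrier := {m | ∀ Q, Q ≠ Y → m.v Q = 1}
  add_mem' := fun a b Q x => by rw [add_v, a Q x, b Q x, one_mul]
  zero_mem' := fun _ _ => rfl
  neg_mem' := fun a Q x => by rw [neg_v, a Q x, inv_one]

theorem DY.ext {Y : Subgroup G} {a b : ZD G} (ha : a ∈ DY Y) (hb : b ∈ DY Y) (e : a.v Y = b.v Y) :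
    a = b := by
  ext Q
  by_cases q : Q = Y
  · rw [q, e]
  · rw [ha Q q, hb Q q]

theorem DY.smul {Y : Subgroup G} {a : ZD G} (ha : a ∈ DY Y) {g : G}
    (hg : g ∈ normalizer (Y : Set G)) : g • a ∈ DY Y := fun Q x => by
  rw [smul_v, ha _ fun e => x (by rw [cj_eq_iff, inv_inv, cj_eq_of_mem_normalizer hg] at e; exact e)]
  group

theorem smul_vY {Y : Subgroup G} (a : ZD G) {g : G} (hg : g ∈ normalizer (Y : Set G)) :
    (g • a).v Y = g * a.v Y * g⁻¹ := by rw [smul_v, cj_eq_of_mem_normalizer (inv_mem hg)]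

theorem DY.fix {Y : Subgroup G} {a : ZD G} (ha : a ∈ DY Y) {g : G}
    (hg : g ∈ normalizer (Y : Set G)) : g • a = a ↔ g * a.v Y = a.v Y * g := by
  rw [← mul_inv_eq_iff_eq_mul, ← smul_vY a hg]
  exact ⟨fun e => by rw [e], DY.ext (DY.smul ha hg) ha⟩

theorem mdY {Y H : Subgroup G} (pg : IsPGroup p Y) (le : H ≤ normalizer (Y : Set G)) :
    Md p (DY Y) H :=
  ⟨fun _ hh _ hd => DY.smul hd (le hh), fun d hd => let ⟨k, a⟩ := pel pg (d.m Y)
    ⟨k, DY.ext (nsmul_mem hd _) (zero_mem _) (by rw [nsmul_v, a, zero_v])⟩⟩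

open Classical in
/-- the family with value `z` on the subgroups satisfying `q` -/
noncomputable def fam (q : Subgroup G → Prop) (z : G)
    (h : ∀ Q, q Q → z ∈ Q ∧ ∀ y ∈ Q, z * y = y * z) : ZD G :=
  ⟨fun Q => if q Q then z else 1, fun Q => by split_ifs with c; exacts [(h Q c).1, one_mem _],
    fun Q y hy => by split_ifs with c; exacts [(h Q c).2 y hy, by simp]⟩

theorem fam_pos {q : Subgroup G → Prop} {z : G} {h} {Q : Subgroup G} (c : q Q) :
    (fam q z h).v Q = z := if_pos c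

theorem fam_neg {q : Subgroup G → Prop} {z : G} {h} {Q : Subgroup G} (c : ¬ q Q) :
    (fam q z h).v Q = 1 := if_neg c

theorem ex_UZ {P : Subgroup G} (c : Cen p P) {z : G} (hz : z ∈ P) (cz : ∀ y ∈ P, z * y = y * z) :
    ∃ m ∈ UZ p P, m.v P = z :=
  ⟨fam (fun Q => Cen p Q ∧ Q ≤ P) z fun Q a => ⟨a.1.2 z (pel c.1 hz) fun y hy => cz y (a.2 hy),
    fun y hy => cz y (a.2 hy)⟩, fun Q x y => by rw [fam_pos ⟨x, y⟩, fam_pos ⟨c, le_rfl⟩],
    fam_pos ⟨c, le_rfl⟩⟩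

theorem ex_DY {Y : Subgroup G} {z : G} (hz : z ∈ Y) (cz : ∀ y ∈ Y, z * y = y * z) :
    ∃ m ∈ DY Y, m.v Y = z :=
  ⟨fam (· = Y) z fun _ a => a ▸ ⟨hz, cz⟩, fun _ x => fam_neg x, fam_pos rfl⟩

variable [Finite G] [Finite X] [hp : Fact p.Prime] {X₀ : Set X} {H : Subgroup G} {n : ℕ}

theorem zrel {R : Subgroup G → Prop} {Y : Subgroup G} (a : Adm p X₀ H) (i : Itv p H R)
    (pg : IsPGroup p Y) (le : H ≤ normalizer (Y : Set G))
    (c : ∀ P, R P → Cen p P ∧ Y ≤ P ∧ ∀ z ∈ P, (∀ y ∈ P, z * y = y * z) → z ∈ Y)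
    (h : VG X₀ H R (CD (DY Y)) (fun _ => ⊥) n) : VG X₀ H R (UZ p) (VZ p) n := by
  refine Van.rel ((okZ i fun P r => (c P r).1).ok a) (((mdY pg le).ok i).ok a) id (fun _ h => h)
    (fun h hh => ⟨h, hh, rfl⟩) (fun _ _ _ => rfl) (fun l =>
      { carrier := {x | x.1 ∈ UZ p (Sb H l) ∧ x.1.v (Sb H l) = x.2.v Y}
        add_mem' := fun a b => ⟨add_mem a.1 b.1, by simp [a.2, b.2]⟩
        zero_mem' := ⟨zero_mem _, rfl⟩
        neg_mem' := fun a => ⟨neg_mem a.1, by simp [a.2]⟩ })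
    (fun l' l x _ t u hu => ⟨UZ.anti (Sb_mono H x) (c _ t.2.2).1 hu.1,
      (hu.1 _ (c _ t.2.2).1 (Sb_mono H x)).trans hu.2⟩)
    (fun g hg l _ u u' r => ⟨by rw [Sb_ac hg]; exact UZ.smul r.1 g, by
      have := r.2
      simp only at this
      simp only [id, Sb_ac hg, smul_vY _ (le hg), smul_v, cj_inv_cj, this]⟩)
    (fun l s u hu => ?_) (fun l s u hu => ?_) (fun l s u hu u' hu' r => ?_) h
  · obtain ⟨-, c2, c3⟩ := c _ s.2.2
    obtain ⟨m, m1, m2⟩ := ex_DY (c3 _ (u.m _) (u.c _)) fun y hy => u.c _ y (c2 hy)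
    exact ⟨m, ⟨m1, fun g hg => (DY.fix m1 (le hg.1)).2 (by rw [m2, u.c _ g hg])⟩, hu, m2.symm⟩
  · obtain ⟨c1, c2, -⟩ := c _ s.2.2
    obtain ⟨m, m1, m2⟩ := ex_UZ c1 (c2 (u.m Y)) fun y hy => ((DY.fix hu.1 (le hy.1)).1 (hu.2 y hy)).symm
    exact ⟨m, m1, m1, m2⟩
  · rw [VZ_iff (c _ s.2.2).1 hu, r.2, AddSubgroup.mem_bot]
    exact ⟨fun e => DY.ext hu'.1 (zero_mem _) e, fun e => by simp [e]⟩

/-- abelian subgroup of `P` of maximal order -/
def MA (P A : Subgroup G) : Prop := A ≤ P ∧ (∀ a ∈ A, ∀ b ∈ A, a * b = b * a) ∧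
  ∀ B ≤ P, (∀ a ∈ B, ∀ b ∈ B, a * b = b * a) → Nat.card B ≤ Nat.card A

/-- the Thompson subgroup -/
def JT (P : Subgroup G) : Subgroup G := sSup {A | MA P A}

theorem ex_MA (P : Subgroup G) : ∃ A, MA P A := by
  obtain ⟨A, a, b⟩ := Set.exists_max_image {A | A ≤ P ∧ ∀ a ∈ A, ∀ b ∈ A, a * b = b * a}
    (fun A : Subgroup G => Nat.card A) (Set.toFinite _) ⟨⊥, bot_le, by simp⟩
  exact ⟨A, a.1, a.2, fun B x y => b B ⟨x, y⟩⟩

/-- the maximal order of an abelian subgroup -/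
noncomputable def da (P : Subgroup G) : ℕ := Nat.card (ex_MA P).choose

theorem MA.card {P A : Subgroup G} (h : MA P A) : Nat.card A = da P :=
  have k := (ex_MA P).choose_spec
  le_antisymm (k.2.2 A h.1 h.2.1) (h.2.2 _ k.1 k.2.1)

theorem MA.le {P A : Subgroup G} (h : MA P A) : A ≤ JT P := le_sSup (s := {A | MA P A}) h

theorem JT_le (P : Subgroup G) : JT P ≤ P := sSup_le fun _ h => h.1

theorem MA.of {P Q A : Subgroup G} (h : MA P A) (le : A ≤ Q) (e : da Q ≤ da P) : MA Q A :=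
  ⟨le, h.2.1, fun B x y => by
    obtain ⟨C, hC⟩ := ex_MA Q
    exact (hC.2.2 B x y).trans (by rw [hC.card, h.card]; exact e)⟩

theorem da_mono {P Q : Subgroup G} (le : P ≤ Q) : da P ≤ da Q := by
  obtain ⟨A, a⟩ := ex_MA P
  obtain ⟨B, b⟩ := ex_MA Q
  rw [← a.card, ← b.card]
  exact b.2.2 A (a.1.trans le) a.2.1

theorem JT_mono {P Q : Subgroup G} (le : JT P ≤ Q) (e : da Q ≤ da P) : JT P ≤ JT Q :=
  sSup_le fun _ h => (MA.of h (h.le.trans le) e).le

theorem da_JT (P : Subgroup G) : da (JT P) = da P := by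
  obtain ⟨A, a⟩ := ex_MA P
  rw [← a.card, (a.of a.le (da_mono (JT_le P))).card]

theorem JT_mid {P Q : Subgroup G} (a : JT P ≤ Q) (b : Q ≤ P) : JT Q = JT P :=
  le_antisymm (JT_mono ((JT_le Q).trans b) (da_JT P ▸ da_mono a)) (JT_mono a (da_mono b))

theorem MA.cj {P A : Subgroup G} (h : MA P A) (g : G) : MA (cj g P) (cj g A) := by
  have k : ∀ (g : G) (B : Subgroup G), (∀ a ∈ B, ∀ b ∈ B, a * b = b * a) →
      ∀ a ∈ Transfer.cj g B, ∀ b ∈ Transfer.cj g B, a * b = b * a := fun g B h a ha b hb => by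
    have := h _ (mem_cj.1 ha) _ (mem_cj.1 hb)
    calc _ = g * (g⁻¹ * a * g * (g⁻¹ * b * g)) * g⁻¹ := by group
      _ = _ := by rw [this]; group
  refine ⟨cj_mono g h.1, k g A h.2.1, fun B x y => ?_⟩
  simpa using h.2.2 _ (le_cj_iff.1 x) (k g⁻¹ B y)

theorem JT_cj (g : G) (P : Subgroup G) : JT (cj g P) = cj g (JT P) := by
  have k : ∀ (g : G) (P : Subgroup G), cj g (JT P) ≤ JT (cj g P) := fun g P =>
    cj_le_iff.2 (sSup_le fun _ hA => cj_le_iff.1 (MA.cj hA g).le)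
  exact le_antisymm (le_cj_iff.2 (by simpa using k g⁻¹ (cj g P))) (k g P)

theorem da_cj (g : G) (P : Subgroup G) : da (cj g P) = da P := by
  obtain ⟨A, a⟩ := ex_MA P
  rw [← (a.cj g).card, card_cj, a.card]

theorem ab_sup {A B : Subgroup G} (a : ∀ x ∈ A, ∀ y ∈ A, x * y = y * x)
    (b : ∀ x ∈ B, ∀ y ∈ B, x * y = y * x) (c : ∀ x ∈ A, ∀ y ∈ B, x * y = y * x) :
    ∀ x ∈ A ⊔ B, ∀ y ∈ A ⊔ B, x * y = y * x := by
  have k : ∀ y : G, (∀ x ∈ A, x * y = y * x) → (∀ x ∈ B, x * y = y * x) →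
      ∀ x ∈ A ⊔ B, x * y = y * x := fun y e f x hx =>
    mem_centralizer_singleton_iff.1 (sup_le (c := centralizer {y})
      (fun x hx => mem_centralizer_singleton_iff.2 (e x hx))
      (fun x hx => mem_centralizer_singleton_iff.2 (f x hx)) hx)
  exact fun x hx y hy => k y (fun x hx => (k x (fun y hy => a y hy x hx)
    (fun y hy => (c x hx y hy).symm) y hy).symm)
    (fun x hx => (k x (fun y hy => c y hy x hx) (fun y hy => b y hy x hx) y hy).symm) x hx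

theorem cen_JT {P : Subgroup G} {z : G} (hz : z ∈ P) (c : ∀ y ∈ JT P, z * y = y * z) : z ∈ JT P := by
  obtain ⟨A, a⟩ := ex_MA P
  have := a.2.2 (A ⊔ zpowers z) (sup_le a.1 (zpowers_le.2 hz)) (ab_sup a.2.1 (by
    rintro _ ⟨i, rfl⟩ _ ⟨j, rfl⟩; exact zpow_mul_comm _ _ _) (by
      rintro x hx _ ⟨j, rfl⟩
      exact (Commute.zpow_right (c x (a.le hx)).symm j).eq))
  exact a.le ((eq_of_le_of_card_ge le_sup_left this).ge (mem_sup_right (mem_zpowers z)))

theorem MA.best {P A Y : Subgroup G} (h : MA P A) (le : Y ≤ P) (nm : P ≤ normalizer (Y : Set G)) :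
    Best (DY Y) A := by
  refine ⟨fun a ha b hb => by rw [h.2.1 a ha b hb]; simp, fun B _ y => ?_⟩
  have cd : ∀ B ≤ A, Nat.card (CD (DY Y) B) =
      Nat.card (Y ⊓ centralizer (Y : Set G) ⊓ centralizer (B : Set G) : Subgroup G) := fun B x => by
    refine Nat.card_congr (Equiv.ofBijective (fun m => ⟨m.1.v Y, ⟨m.1.m Y, fun y hy => (m.1.c Y y hy).symm⟩,
      fun b hb => (DY.fix m.2.1 (nm (h.1 (x hb)))).1 (m.2.2 b hb)⟩) ⟨fun a b e => Subtype.ext
        (DY.ext a.2.1 b.2.1 (congrArg Subtype.val e)), fun z => ?_⟩)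
    obtain ⟨m, m1, m2⟩ := ex_DY z.2.1.1 fun y hy => (z.2.1.2 y hy).symm
    exact ⟨⟨m, m1, fun b hb => (DY.fix m1 (nm (h.1 (x hb)))).2 (m2 ▸ z.2.2 b hb)⟩, Subtype.ext m2⟩
  rw [mu, mu, cd B y, cd A le_rfl]
  set Z := Y ⊓ centralizer (Y : Set G) ⊓ centralizer (B : Set G)
  have h1 := h.2.2 (B ⊔ Z) (sup_le (y.trans h.1) fun z hz => le hz.1.1) (ab_sup
    (fun a ha b hb => h.2.1 a (y ha) b (y hb)) (fun a ha b hb => hb.1.2 a ha.1.1)
    fun a ha b hb => hb.2 a ha)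
  have h2 : Nat.card (B ⊓ Z : Subgroup G) ≤
      Nat.card (Y ⊓ centralizer (Y : Set G) ⊓ centralizer (A : Set G) : Subgroup G) :=
    card_le_of_le fun z hz => ⟨hz.2.1, fun a ha => h.2.1 a ha z (y hz.1)⟩
  refine le_trans ?_ (Nat.mul_le_mul h1 h2)
  rw [← card_mul_relIndex (le_sup_right : Z ≤ B ⊔ Z), ← card_mul_relIndex (inf_le_left : B ⊓ Z ≤ B),
    inf_relIndex_left]
  have := relIndex_le_of_le_right (H := Z) (le_sup_left : B ≤ B ⊔ Z) (relIndex_ne_zero' _ _)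
  calc _ ≤ Nat.card (B ⊓ Z : Subgroup G) * Z.relIndex (B ⊔ Z) * Nat.card Z := by gcongr
    _ = _ := by ring

theorem pg_sup {P : Subgroup G} (pg : IsPGroup p P) {x : G} (hx : ∃ k : ℕ, x ^ p ^ k = 1)
    (nm : x ∈ normalizer (P : Set G)) : IsPGroup p (zpowers x ⊔ P : Subgroup G) := by
  obtain ⟨k, hk⟩ := hx
  obtain ⟨j, -, hj⟩ := (Nat.dvd_prime_pow hp.out).1 (orderOf_dvd_of_pow_eq_one hk)
  exact (isPGroup_zpowers hj).to_sup_of_normal_right' pg (zpowers_le.2 nm)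

/-- **Oliver's Theorem 3.4.** -/
theorem gz (a : Adm p X₀ (⊤ : Subgroup G)) (k : ℕ) :
    VG X₀ (⊤ : Subgroup G) (Cen p) (UZ p) (VZ p) (k + 2) := by
  have cl : ∀ Y : Subgroup G, Nat.card Y ≤ Nat.card G := fun Y => Y.card_le_card_group
  refine red (okZ itv_cen fun _ r => r) a JT (fun Y => da Y * (Nat.card G + 1) + Nat.card Y)
    ((Nat.card G + 1) * (Nat.card G + 1)) (fun Y => ?_) (fun h _ Y => by rw [da_cj, card_cj])
    (fun h _ P _ => JT_cj h P) (fun P _ => JT_le P) (fun P P' x _ _ _ _ => ?_) fun P PH pg r => ?_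
  · have := cl Y
    have : da Y ≤ Nat.card G := cl _
    nlinarith
  · simp only [da_JT]
    rcases (da_mono x).eq_or_lt with e | e
    · rcases (JT_mono ((JT_le P).trans x) e.ge).eq_or_lt with f | f
      · exact Or.inl f.symm
      · right; rw [e]; exact Nat.add_lt_add_left (card_lt_of_lt f) _
    · right
      have := cl (JT P)
      nlinarith
  set Y := JT P with hY
  have pY : IsPGroup p Y := pg.to_le (JT_le P)
  have a' := a.norm le_top pY
  set N := ⊤ ⊓ normalizer (Y : Set G)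
  have i : Itv p N fun Q => Cen p Q ∧ JT Q = Y := ⟨fun h hh Q r => ⟨r.1.cj h, by
    rw [JT_cj, r.2, cj_eq_of_mem_normalizer hh.2]⟩, fun _ _ P₃ x y _ z u w =>
      ⟨u.1.up x (z.to_le y), w.2 ▸ JT_mid (w.2.symm ▸ (u.2 ▸ JT_le _ : Y ≤ _).trans x) y⟩⟩
  have m := mdY (H := N) pY inf_le_right
  refine zrel a' i pY inf_le_right (fun Q r => ⟨r.1, r.2 ▸ JT_le Q, fun z hz c =>
    r.2 ▸ cen_JT hz fun y hy => c y (JT_le Q hy)⟩) ?_
  by_cases c : Cen p Y
  · refine propP k _ _ N _ a' m i fun Q QN q => ⟨fun r => ?_, fun r => ?_⟩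
    · have : Y ≤ JB (DY Y) Q := le_JB' (r.2 ▸ JT_le Q) fun y hy d hd =>
        (DY.fix hd (le_normalizer hy)).2 (d.c Y y hy).symm
      exact ⟨c.up this (q.to_le (JB_le Q)), r.2 ▸ JT_mid (r.2.symm ▸ this) (JB_le Q)⟩
    · have YQ : Y ≤ Q := (r.2.ge.trans (JT_le _)).trans (JB_le Q)
      exact ⟨c.up YQ q, r.2 ▸ (JT_mid (sSup_le fun A hA => le_JB hA.1
        (MA.best hA YQ (QN.trans inf_le_right))) (JB_le Q)).symm⟩
  · simp only [Cen, pY, true_and, not_forall] at c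
    obtain ⟨x, x1, x2, x3⟩ := c
    refine prune a' m (K := centralizer (Y : Set G)) (le_inf le_top (centralizer_le_normalizer _))
      (inf_le_right.trans (normalizer_le_normalizer_centralizer Y))
      (fun g hg => ⟨0, fun d hd => by
        simpa using (DY.fix hd (centralizer_le_normalizer _ hg)).2 (hg _ (d.m Y)).symm⟩) i
      fun Q _ q r => ?_
    have l : Q ⊓ centralizer (Y : Set G) ≤ Y := fun z hz =>
      r.2 ▸ cen_JT hz.1 fun y hy => (hz.2 y (r.2 ▸ hy)).symm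
    exact ⟨_, pg_sup q.to_inf_left x1 (centralizer_le_normalizer _ fun y hy => (x2 y (l hy)).symm),
      lt_of_le_not_ge le_sup_right fun e => x3 (l (e (mem_sup_left (mem_zpowers x)))),
      sup_le (zpowers_le.2 fun y hy => (x2 y hy).symm) inf_le_right⟩

end CF.Ex.M
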