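/-
The centre functor modulo a central `p`-subgroup.
-/
import Cfsg.Agent.Ex.Z1

set_option autoImplicit false
set_option linter.unusedSectionVars false

namespace CF.Ex.M
open Subgroup CF.Transfer CF.Ex.T ZD

variable {G X : Type*} [Group G] [MulAction G X] {p : ℕ} {A : Subgroup G}

theorem OkG.mid {D : Type*} [AddCommGroup D] [DistribMulAction G D] {H : Subgroup G}
    {R : Subgroup G → Prop} {U V W : Subgroup G → AddSubgroup D} (o : OkG p H R U V)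
    (wI : ∀ h ∈ H, ∀ P, R P → ∀ u ∈ W P, h • u ∈ W (cj h P))
    (wM : ∀ P P', P ≤ P' → R P → R P' → W P' ≤ W P) (l1 : ∀ P, R P → V P ≤ W P)
    (l2 : ∀ P, R P → W P ≤ U P) : OkG p H R W V ∧ OkG p H R U W :=
  ⟨⟨o.toItv, wI, o.vI, wM, o.vM, l1, fun P r h hh u hu => o.tr P r h hh u (l2 P r hu)⟩,
    ⟨o.toItv, o.uI, wI, o.uM, wM, l2, fun P r h hh u hu => l1 P r (o.tr P r h hh u hu)⟩⟩

/-- `P` is a `p`-group and `P/A` is `p`-centric -/
def Ct (p : ℕ) (A P : Subgroup G) : Prop := IsPGroup p P ∧ Cc p A P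

theorem Cc.up {P Q : Subgroup G} (h : Cc p A P) (le : P ≤ Q) : Cc p A Q :=
  fun x a b => le (h x a fun y hy => b y (le hy))

theorem Ct.cen {P : Subgroup G} (h : Ct p A P) : Cen p P :=
  ⟨h.1, fun x a b => h.2 x a fun y hy => by rw [b y hy]; simpa using one_mem A⟩

theorem pel_cj {x : G} (a : ∃ k : ℕ, x ^ p ^ k = 1) (g : G) : ∃ k : ℕ, (g * x * g⁻¹) ^ p ^ k = 1 :=
  let ⟨k, a⟩ := a; ⟨k, by rw [conj_pow, a]; simp⟩

section
variable (hA : A ≤ center G)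
include hA

theorem cjA {a : G} (ha : a ∈ A) (g : G) : g * a * g⁻¹ = a := by
  rw [mem_center_iff.1 (hA ha) g]; simp

theorem cmA {z y : G} (h : z * y * z⁻¹ * y⁻¹ ∈ A) (g : G) :
    g * z * g⁻¹ * (g * y * g⁻¹) * (g * z * g⁻¹)⁻¹ * (g * y * g⁻¹)⁻¹ = z * y * z⁻¹ * y⁻¹ := by
  rw [← cjA hA h g]; group

theorem Cc.cj {P : Subgroup G} (h : Cc p A P) (g : G) : Cc p A (cj g P) := fun x a b =>
  mem_cj.2 (h _ (by simpa using pel_cj a g⁻¹) fun y hy => by
    have := b _ (conj_mem_cj (g := g) hy)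
    rw [← cmA hA this g⁻¹] at this
    simpa [mul_assoc] using this)

theorem Ct.cj {P : Subgroup G} (h : Ct p A P) (g : G) : Ct p A (cj g P) :=
  ⟨isPGroup_cj h.1 g, h.2.cj hA g⟩

theorem itv_ct {H : Subgroup G} : Itv p H (Ct p A) :=
  ⟨fun h _ _ r => r.cj hA h, fun _ _ _ x y _ z a _ => ⟨z.to_le y, a.2.up x⟩⟩

theorem Cen.le (pA : IsPGroup p A) {P : Subgroup G} (h : Cen p P) : A ≤ P :=
  fun a ha => h.2 a (pel pA ha) fun y _ => (mem_center_iff.1 (hA ha) y).symm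

/-- the elements centralising `Z(P)` modulo `A` -/
def KK (P : Subgroup G) : Subgroup G where
  carrier := {g | ∀ z ∈ P, (∀ y ∈ P, z * y = y * z) → g * z * g⁻¹ * z⁻¹ ∈ A}
  one_mem' := fun z _ _ => by simpa using one_mem A
  mul_mem' := fun {g h} a b z x y => by
    have := mul_mem (b z x y) (a z x y)
    rw [← cjA hA (b z x y) g] at this
    simpa [mul_assoc] using this
  inv_mem' := fun {g} a z x y => by
    have := inv_mem (a z x y)
    rw [← cjA hA this g⁻¹] at this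
    simpa [mul_assoc] using this

end

variable [Finite G] [Finite X] [hp : Fact p.Prime] {X₀ : Set X} {n : ℕ}

theorem MM.of {K P : Subgroup G} (pg : IsPGroup p P) (AP : A ≤ P) (nc : ¬ Cc p A P) (PK : P ≤ K)
    (xK : ∀ x ∈ normalizer (P : Set G), (∀ y ∈ P, x * y * x⁻¹ * y⁻¹ ∈ A) → x ∈ K) : MM p K P := by
  simp only [Cc, not_forall] at nc
  obtain ⟨x, x1, x2, x3⟩ := nc
  have nm : x ∈ normalizer (P : Set G) := mem_normalizer_fintype fun y hy => by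
    simpa using mul_mem (AP (x2 y hy)) hy
  exact ⟨_, pg_sup pg x1 nm, inf_le_left.trans_lt (lt_of_le_not_ge le_sup_right fun e =>
    x3 (e (mem_sup_left (mem_zpowers x)))), sup_le (zpowers_le.2 (xK x nm x2)) PK⟩

variable (hA : A ≤ center G) (pA : IsPGroup p A) (a : Adm p X₀ (⊤ : Subgroup G))
include hA pA a

theorem gz_diff : VG X₀ (⊤ : Subgroup G) (fun P => Cen p P ∧ ¬ Cc p A P) (UZ p) (VZ p) n := by
  refine red_cls (okZ ⟨fun h _ P r => ⟨r.1.cj h, fun c => r.2 (by simpa using c.cj hA h⁻¹)⟩,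
    fun _ _ _ x y _ z u w => ⟨u.1.up x (z.to_le y), fun c => w.2 (c.up y)⟩⟩ fun _ r => r.1) a
    fun P _ pg r => ?_
  have a' := a.norm le_top pg
  set N := ⊤ ⊓ normalizer (P : Set G)
  have i : Itv p N fun Q => Q = P := ⟨fun h hh Q r => by rw [r, cj_eq_of_mem_normalizer hh.2],
    fun _ _ _ x y _ _ u w => le_antisymm (w ▸ y) (u ▸ x)⟩
  refine zrel a' i pg inf_le_right (fun Q e => by rw [e]; exact ⟨r.1, le_rfl, fun z hz _ => hz⟩) ?_
  refine prune a' (mdY pg inf_le_right) (K := N ⊓ KK hA P) inf_le_left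
    (fun g hg => mem_normalizer_fintype fun k hk => ⟨N.mul_mem (N.mul_mem hg hk.1) (N.inv_mem hg),
      fun z hz c => ?_⟩) (fun k hk => ?_) i fun Q _ _ e => e.symm ▸ MM.of pg (r.1.le hA pA) r.2
      (le_inf (le_inf le_top le_normalizer) fun g hg z _ c => by rw [← c g hg]; simpa using one_mem A)
      fun x hx c => ⟨⟨trivial, hx⟩, fun z hz _ => c z hz⟩
  · have := hk.2 _ (inv_conj_mem_of_mem_normalizer hg.2 hz) fun y hy => by
      have := c _ (conj_mem_of_mem_normalizer hg.2 hy)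
      calc _ = g⁻¹ * (z * (g * y * g⁻¹)) * g := by group
        _ = _ := by rw [this]; group
    rw [← cmA hA this g] at this
    simpa [mul_assoc] using this
  · obtain ⟨j, hj⟩ := IsPGroup.iff_card.1 pA
    refine ⟨j, fun d hd => (DY.fix hd (pow_mem hk.1.2 _)).2 ?_⟩
    have h1 := hk.2 _ (d.m P) (d.c P)
    have h2 : ∀ i : ℕ, k ^ i * d.v P = (k * d.v P * k⁻¹ * (d.v P)⁻¹) ^ i * (d.v P * k ^ i) :=
      fun i => by
        induction i with
        | zero => simp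
        | succ i ih =>
          rw [pow_succ', mul_assoc, ih, ← mul_assoc, mem_center_iff.1 (hA (pow_mem h1 i)) k,
            pow_succ (k * d.v P * k⁻¹ * (d.v P)⁻¹)]
          simp [mul_assoc]
    have h3 : (k * d.v P * k⁻¹ * (d.v P)⁻¹) ^ p ^ j = 1 := by
      rw [← hj]; exact congrArg Subtype.val (pow_card_eq_one' (x := (⟨_, h1⟩ : A)))
    rw [h2, h3, one_mul]

theorem gz_ct (k : ℕ) : VG X₀ (⊤ : Subgroup G) (Ct p A) (UZ p) (VZ p) (k + 2) :=
  (VG.quo (okZ itv_cen fun _ r => r) a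
    (fun h _ P r => ⟨r.1.cj h, fun c => r.2 (by simpa using c.cj hA h⁻¹)⟩) (fun _ r => r.1)
    (fun _ _ x y z => ⟨z, fun c => y.2 (c.up x)⟩) (gz a k) (gz_diff hA pA a)).iff a fun _ _ _ q =>
      ⟨fun c => ⟨c.cen, fun d => d.2 c.2⟩, fun c => ⟨q, by_contra fun d => c.2 ⟨c.1, d⟩⟩⟩

omit hA pA a in
/-- families that are constant with value in `A` below `P` -/
def VA (p : ℕ) (A P : Subgroup G) : AddSubgroup (ZD G) where
  carrier := {m | ∃ a ∈ A, ∀ Q, Cen p Q → Q ≤ P → m.v Q = a}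
  add_mem' := fun ⟨a, ha, x⟩ ⟨b, hb, y⟩ => ⟨a * b, mul_mem ha hb, fun Q c l => by
    rw [add_v, x Q c l, y Q c l]⟩
  zero_mem' := ⟨1, one_mem _, fun _ _ _ => rfl⟩
  neg_mem' := fun ⟨a, ha, x⟩ => ⟨a⁻¹, inv_mem ha, fun Q c l => by rw [neg_v, x Q c l]⟩

omit pA a in
theorem okA : OkG p ⊤ (Ct p A) (VA p A) (VZ p) ∧ OkG p ⊤ (Ct p A) (UZ p) (VA p A) :=
  (okZ (itv_ct hA) fun _ r => r.cen).mid (fun h _ _ _ _ ⟨a, ha, x⟩ => ⟨a, ha, fun Q c l => by
      rw [smul_v, x _ (c.cj _) (le_cj_iff.1 l), cjA hA ha]⟩)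
    (fun _ _ l _ _ _ ⟨a, ha, x⟩ => ⟨a, ha, fun Q c l' => x Q c (l'.trans l)⟩)
    (fun _ _ _ x => ⟨1, one_mem _, x⟩) fun P r _ ⟨_, _, x⟩ Q c l => by rw [x Q c l, x P r.cen le_rfl]

theorem vanA (k : ℕ) : VG X₀ (⊤ : Subgroup G) (Ct p A) (VA p A) (VZ p) (k + 2) := by
  have nm : ∀ g : G, g ∈ normalizer (A : Set G) := fun g => mem_normalizer_fintype fun y hy => by
    rwa [cjA hA hy]
  have m : Md p (DY A) (⊤ : Subgroup G) := mdY pA fun g _ => nm g
  have fx : ∀ g : G, ∀ d ∈ DY A, g • d = d := fun g d hd =>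
    (DY.fix hd (nm g)).2 (mem_center_iff.1 (hA (d.m A)) g)
  refine Van.rel ((okA hA).1.ok a) ((m.ok (itv_ct hA)).ok a) id (fun _ h => h)
    (fun h hh => ⟨h, hh, rfl⟩) (fun _ _ _ => rfl) (fun l =>
      { carrier := {x | ∀ Q, Cen p Q → Q ≤ Sb ⊤ l → x.1.v Q = x.2.v A}
        add_mem' := fun a b Q x y => by simp [a Q x y, b Q x y]
        zero_mem' := fun _ _ _ => rfl
        neg_mem' := fun a Q x y => by simp [a Q x y] })
    (fun l' l x _ t u hu Q c y => hu Q c (y.trans (Sb_mono _ x)))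
    (fun g hg l _ u u' r Q c y => ?_) (fun l s u ⟨b, hb, x⟩ => ?_) (fun l s u hu => ?_)
    (fun l s u hu u' hu' r => ?_) (propP k _ _ _ _ a m (itv_ct hA) fun P _ _ => by
      rw [le_antisymm (JB_le P) (le_JB' le_rfl fun g _ => fx g)])
  · rw [Sb_ac hg] at y
    have := r _ (c.cj g⁻¹) (le_cj_iff.1 y)
    simp only at this
    simp only [id, smul_vY _ (nm g), smul_v, this]
  · obtain ⟨m, m1, m2⟩ := ex_DY hb fun y _ => (mem_center_iff.1 (hA hb) y).symm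
    exact ⟨m, ⟨m1, fun g _ => fx g m m1⟩, fun Q c y => (x Q c y).trans m2.symm⟩
  · obtain ⟨m, m1, m2⟩ := ex_UZ s.2.2.cen (s.2.2.cen.le hA pA (u.m A))
      fun y _ => (mem_center_iff.1 (hA (u.m A)) y).symm
    have : ∀ Q, Cen p Q → Q ≤ Sb ⊤ l → m.v Q = u.v A := fun Q c y => (m1 Q c y).trans m2
    exact ⟨m, ⟨_, u.m A, this⟩, this⟩
  · rw [AddSubgroup.mem_bot]
    exact ⟨fun e => DY.ext hu'.1 (zero_mem _) ((r _ s.2.2.cen le_rfl).symm.trans
      (e _ s.2.2.cen le_rfl)), fun e Q c y => (r Q c y).trans (by simp [e])⟩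

theorem vanZA (k : ℕ) : VG X₀ (⊤ : Subgroup G) (Ct p A) (UZ p) (VA p A) (k + 2) :=
  ses_quo ((okZ (itv_ct hA) fun _ r => r.cen).ok a) ((okA hA).1.ok a) ((okA hA).2.ok a)
    (gz_ct hA pA a k) (vanA hA pA a (k + 1))

end CF.Ex.M
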