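/-
The functor `P ↦ Hom(P/A, M)`.
-/
import Cfsg.Agent.Ex.Z2

set_option autoImplicit false
set_option linter.unusedSectionVars false

namespace CF.Ex.M
open Subgroup CF.Transfer CF.Ex.T

variable {G X M : Type*} [Group G] [MulAction G X] [AddCommGroup M] {p : ℕ} {A : Subgroup G}

theorem ex_rep (P : Subgroup G) : ∃ (r : X → X) (k : X → G), (∀ x, k x ∈ P) ∧
    (∀ x, k x • r x = x) ∧ ∀ h ∈ P, ∀ x, r (h • x) = r x := by
  let r : X → X := fun x => @Classical.epsilon _ ⟨x⟩ fun r => ∃ h ∈ P, h • r = x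
  have hr : ∀ x, ∃ h ∈ P, h • r x = x := fun x =>
    Classical.epsilon_spec (p := fun r => ∃ h ∈ P, h • r = x) ⟨x, 1, one_mem _, one_smul _ x⟩
  choose k kP hk using hr
  refine ⟨r, k, kP, hk, fun h hh x => ?_⟩
  simp only [r]
  congr 1
  ext y
  exact ⟨fun ⟨z, a, b⟩ => ⟨h⁻¹ * z, mul_mem (inv_mem hh) a, by rw [mul_smul, b, inv_smul_smul]⟩,
    fun ⟨z, a, b⟩ => ⟨h * z, mul_mem hh a, by rw [mul_smul, b]⟩⟩

/-- cocycles on the action groupoid -/
def Coc (P : Subgroup G) (θ : G → X → M) : Prop :=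
  ∀ u ∈ P, ∀ v ∈ P, ∀ x, θ (u * v) x = θ u (v • x) + θ v x

theorem coc_ex (P : Subgroup G) (φ : X → G → M)
    (h1 : ∀ x, ∀ u ∈ P, ∀ v ∈ P, u • x = x → v • x = x → φ x (u * v) = φ x u + φ x v)
    (h2 : ∀ x, ∀ h ∈ P, ∀ u ∈ P, u • h • x = h • x → φ (h • x) u = φ x (h⁻¹ * u * h)) :
    ∃ θ : G → X → M, Coc P θ ∧ ∀ u ∈ P, ∀ x, u • x = x → θ u x = φ x u := by
  obtain ⟨r, k, kP, hk, rr⟩ := ex_rep (X := X) P
  have fx : ∀ u ∈ P, ∀ x, ((k (u • x))⁻¹ * u * k x) • r x = r x := fun u hu x => by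
    rw [mul_smul, mul_smul, hk, inv_smul_eq_iff, ← rr u hu x, hk]
  have mm : ∀ u ∈ P, ∀ x y, (k y)⁻¹ * u * k x ∈ P := fun u hu x y =>
    mul_mem (mul_mem (inv_mem (kP _)) hu) (kP _)
  refine ⟨fun u x => φ (r x) ((k (u • x))⁻¹ * u * k x), fun u hu v hv x => ?_, fun u hu x e => ?_⟩
  · have := fx u hu (v • x)
    simp only [rr v hv] at this ⊢
    rw [← h1 _ _ (mm u hu _ _) _ (mm v hv _ _) this (fx v hv x), mul_smul]
    congr 1; group
  · simp only [e]
    rw [← h2 _ _ (kP x) u hu (by rw [hk, e]), hk]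

theorem Coc.sum [Fintype X] {P : Subgroup G} {θ : G → X → M} (h1 : Coc P θ)
    (h2 : ∀ u ∈ P, ∀ x, u • x = x → θ u x = 0) {u : G} (hu : u ∈ P) : ∑ x, θ u x = 0 := by
  obtain ⟨r, k, kP, hk, rr⟩ := ex_rep (X := X) P
  have : ∀ x, θ u x = θ (k (u • x)) (r (u • x)) - θ (k x) (r x) := fun x => by
    have w := mul_mem (mul_mem (inv_mem (kP (u • x))) hu) (kP x)
    have fx : ((k (u • x))⁻¹ * u * k x) • r x = r x := by
      rw [mul_smul, mul_smul, hk, inv_smul_eq_iff, ← rr u hu x, hk]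
    have e1 := h1 _ (kP (u • x)) _ w (r x)
    have e2 := h1 _ hu _ (kP x) (r x)
    rw [fx, h2 _ w _ fx, add_zero, show k (u • x) * ((k (u • x))⁻¹ * u * k x) = u * k x by group,
      e2, hk] at e1
    rw [rr u hu, ← e1, add_sub_cancel_right]
  rw [Finset.sum_congr rfl fun x _ => this x, Finset.sum_sub_distrib, sub_eq_zero]
  exact Equiv.sum_comp (MulAction.toPerm u) fun x => θ (k x) (r x)

/-- functions on `G` with the conjugation action -/
def KD (G M : Type*) := G → M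

instance : AddCommGroup (KD G M) := inferInstanceAs (AddCommGroup (G → M))

instance [Finite G] [Finite M] : Finite (KD G M) := inferInstanceAs (Finite (G → M))

instance : DistribMulAction G (KD G M) where
  smul g m := fun u => m (g⁻¹ * u * g)
  one_smul m := funext fun u => congrArg m (by simp)
  mul_smul g h m := funext fun u => congrArg m (by simp [mul_assoc])
  smul_zero _ := rfl
  smul_add _ _ _ := rfl

theorem KD.smul (g : G) (m : KD G M) (u : G) : (g • m) u = m (g⁻¹ * u * g) := rfl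
theorem KD.add (a b : KD G M) (u : G) : (a + b) u = a u + b u := rfl
theorem KD.sub (a b : KD G M) (u : G) : (a - b) u = a u - b u := rfl
theorem KD.neg (a : KD G M) (u : G) : (-a) u = - a u := rfl
theorem KD.nsmul (n : ℕ) (a : KD G M) (u : G) : (n • a) u = n • a u := rfl

/-- homomorphisms on `P` that kill `A` -/
def UK (M : Type*) [AddCommGroup M] (A P : Subgroup G) : AddSubgroup (KD G M) where
  carrier := {m | (∀ u ∈ P, ∀ v ∈ P, m (u * v) = m u + m v) ∧ ∀ a ∈ A, m a = 0}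
  add_mem' := fun a b => ⟨fun u hu v hv => by
    rw [KD.add, KD.add, KD.add, a.1 u hu v hv, b.1 u hu v hv]; abel,
    fun x hx => by rw [KD.add, a.2 x hx, b.2 x hx, add_zero]⟩
  zero_mem' := ⟨fun _ _ _ _ => (add_zero _).symm, fun _ _ => rfl⟩
  neg_mem' := fun a => ⟨fun u hu v hv => by rw [KD.neg, KD.neg, KD.neg, a.1 u hu v hv]; abel,
    fun x hx => by rw [KD.neg, a.2 x hx, neg_zero]⟩

/-- functions that vanish on `P` -/
def VK (M : Type*) [AddCommGroup M] (P : Subgroup G) : AddSubgroup (KD G M) where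
  carrier := {m | ∀ u ∈ P, m u = 0}
  add_mem' := fun a b x hx => by rw [KD.add, a x hx, b x hx, add_zero]
  zero_mem' := fun _ _ => rfl
  neg_mem' := fun a x hx => by rw [KD.neg, a x hx, neg_zero]

theorem UK.cj {P : Subgroup G} {m : KD G M} (h : m ∈ UK M A P) {g u : G} (hg : g ∈ P) (hu : u ∈ P) :
    m (g⁻¹ * u * g) = m u := by
  have := h.1 _ (inv_mem hg) _ hg
  rw [inv_mul_cancel, h.2 1 (one_mem _)] at this
  rw [h.1 _ (mul_mem (inv_mem hg) hu) _ hg, h.1 _ (inv_mem hg) _ hu, add_right_comm, ← this, zero_add]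

theorem UK.smul (hA : A ≤ center G) {P : Subgroup G} {m : KD G M} (h : m ∈ UK M A P) (g : G) :
    g • m ∈ UK M A (Transfer.cj g P) :=
  ⟨fun u hu v hv => by
    rw [KD.smul, KD.smul, KD.smul, ← h.1 _ (mem_cj.1 hu) _ (mem_cj.1 hv)]; congr 1; group,
    fun a ha => by
      have := cjA hA ha g⁻¹
      rw [inv_inv] at this
      rw [KD.smul, this, h.2 a ha]⟩

theorem okK (hA : A ≤ center G) {H : Subgroup G} {R : Subgroup G → Prop} (i : Itv p H R)
    (c : ∀ P, R P → A ≤ P) : OkG p H R (UK M A) (VK M) :=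
  ⟨i, fun h _ _ _ _ hu => UK.smul hA hu h, fun _ _ _ _ _ hu _ hx => hu _ (mem_cj.1 hx),
    fun _ _ x _ _ _ h => ⟨fun u hu v hv => h.1 u (x hu) v (x hv), h.2⟩,
    fun _ _ x _ _ _ h u hu => h u (x hu), fun P r _ h => ⟨fun u hu v hv => by
      rw [h u hu, h v hv, h _ (mul_mem hu hv), add_zero], fun a ha => h a (c P r ha)⟩,
    fun _ _ h hh u hu x hx => by rw [KD.sub, KD.smul, UK.cj hu hh hx, sub_self]⟩

/-- homomorphisms supported on `P` -/
def KY (M : Type*) [AddCommGroup M] (A P : Subgroup G) : AddSubgroup (KD G M) where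
  carrier := {m | m ∈ UK M A P ∧ ∀ u, u ∉ P → m u = 0}
  add_mem' := fun a b => ⟨add_mem a.1 b.1, fun x hx => by rw [KD.add, a.2 x hx, b.2 x hx, add_zero]⟩
  zero_mem' := ⟨zero_mem _, fun _ _ => rfl⟩
  neg_mem' := fun a => ⟨neg_mem a.1, fun x hx => by rw [KD.neg, a.2 x hx, neg_zero]⟩

theorem KY.fix {P : Subgroup G} {m : KD G M} (h : m ∈ KY M A P) {g : G}
    (hg : g ∈ normalizer (P : Set G)) (e : ∀ u ∈ P, m (g⁻¹ * u * g) = m u) : g • m = m :=
  funext fun u => by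
    by_cases c : u ∈ P
    · exact e u c
    · rw [KD.smul, h.2 u c, h.2 _ fun d => c (by
        simpa [mul_assoc] using conj_mem_of_mem_normalizer hg d)]

variable [Finite G] [Finite X] [Finite M] [hp : Fact p.Prime] {n : ℕ}
  (hA : A ≤ center G) (pM : ∀ m : M, ∃ k, p ^ k • m = 0)
include hA pM

theorem KD.pg (d : KD G M) : ∃ k, p ^ k • d = 0 :=
  let ⟨k, hk⟩ := ex_pow pM
  ⟨k, funext fun u => by rw [KD.nsmul, ← hk]; exact card_nsmul_eq_zero'⟩

omit pM in
theorem itv_le {H : Subgroup G} : Itv p H (A ≤ ·) :=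
  ⟨fun h _ _ r a ha => cjA hA ha h ▸ conj_mem_cj (r ha), fun _ _ _ x _ _ _ r _ => r.trans x⟩

theorem vanK2 {X₀ : Set X} (a : Adm p X₀ (⊤ : Subgroup G)) :
    VG X₀ (⊤ : Subgroup G) (fun P => A ≤ P ∧ ¬ Cc p A P) (UK M A) (VK M) n := by
  refine red_cls (okK hA ⟨fun h hh P r => ⟨(itv_le (p := p) hA).rI h hh P r.1,
    fun c => r.2 (by simpa using c.cj hA h⁻¹)⟩, fun _ _ _ x y _ z u w =>
      ⟨u.1.trans x, fun c => w.2 (c.up y)⟩⟩ fun _ r => r.1) a fun P _ pg r => ?_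
  have a' := a.norm le_top pg
  set N := ⊤ ⊓ normalizer (P : Set G)
  have i : Itv p N fun Q => Q = P := ⟨fun h hh Q r => by rw [r, cj_eq_of_mem_normalizer hh.2],
    fun _ _ _ x y _ _ u w => le_antisymm (w ▸ y) (u ▸ x)⟩
  have m : Md p (KY M A P) N := ⟨fun h hh d hd => ⟨cj_eq_of_mem_normalizer hh.2 ▸ UK.smul hA hd.1 h,
    fun u hu => hd.2 _ fun c => hu (by simpa [mul_assoc] using conj_mem_of_mem_normalizer hh.2 c)⟩,
    fun d _ => KD.pg hA pM d⟩
  have PC : P ≤ CT G (KY M A P) := fun g hg d hd =>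
    KY.fix hd (le_normalizer hg) fun u hu => UK.cj hd.1 hg hu
  refine Van.rel ((okK hA i fun Q e => e ▸ r.1).ok a') ((m.ok i).ok a') id (fun _ h => h)
    (fun h hh => ⟨h, hh, rfl⟩) (fun _ _ _ => rfl) (fun _ => (VK M P).comap
      (AddMonoidHom.fst _ _ - AddMonoidHom.snd _ _)) (fun _ _ _ _ _ => le_rfl)
    (fun g hg l _ u u' r x hx => r _ (inv_conj_mem_of_mem_normalizer hg.2 hx))
    (fun l s u hu => ?_) (fun l s u hu => ⟨u, s.2.2.symm ▸ hu.1.1, fun x _ => sub_self (u x)⟩)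
    (fun l s u hu u' hu' r => ?_) (prune a' m (K := N ⊓ CT G (KY M A P)) inf_le_left
      (fun h hh => mem_normalizer_iff_cj.2 (by rw [cj_inf, cj_eq_of_mem hh, m.cjct hh]))
      (fun g hg => ⟨0, fun d hd => by simpa using hg.2 d hd⟩) i fun Q _ _ e => e.symm ▸
        MM.of pg r.1 r.2 (le_inf (le_inf le_top le_normalizer) PC) fun x hx c =>
          ⟨⟨trivial, hx⟩, fun d hd => KY.fix hd hx fun u hu => ?_⟩)
  · classical
    rw [s.2.2] at hu ⊢
    have : (fun x => if x ∈ P then u x else 0 : KD G M) ∈ KY M A P :=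
      ⟨⟨fun x hx y hy => by simp only [if_pos hx, if_pos hy, if_pos (mul_mem hx hy), hu.1 x hx y hy],
        fun x hx => by simp only [hu.2 x hx, ite_self]⟩, fun x hx => if_neg hx⟩
    exact ⟨_, ⟨this, fun g hg => PC hg _ this⟩, fun x hx => sub_eq_zero.2 (if_pos hx).symm⟩
  · rw [s.2.2, AddSubgroup.mem_bot]
    have r' : ∀ x ∈ P, u x = u' x := fun x hx => sub_eq_zero.1 (r x hx)
    refine ⟨fun e => funext fun x => ?_, fun e x hx => by rw [r' x hx, e]; rfl⟩
    by_cases c : x ∈ P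
    · exact (r' x c).symm.trans (e x c)
    · exact hu'.1.2 x c
  · have y := inv_conj_mem_of_mem_normalizer hx hu
    have := hd.1.1 _ (r.1 (c _ y)) _ y
    rw [hd.1.2 _ (c _ y), zero_add] at this
    rw [← this]; congr 1; group

theorem vanK1 (a : Adm p (Set.univ : Set X) (⊤ : Subgroup G)) (hX : ∀ g ∈ A, ∀ x : X, g • x = x) :
    VG (Set.univ : Set X) (⊤ : Subgroup G) (A ≤ ·) (UK M A) (VK M) 1 := fun f c z => by
  have := Fintype.ofFinite X
  obtain ⟨c', hc⟩ := Md.unit (p := p) (D₀ := (⊤ : AddSubgroup (KD G M))) (H := (⊤ : Subgroup G))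
    ⟨fun _ _ _ _ => trivial, fun d _ => KD.pg hA pM d⟩ a.nd
  rw [Set.ncard_univ, Nat.card_eq_fintype_card] at hc
  have s : ∀ (x : X) l, SS Set.univ (⊤ : Subgroup G) (A ≤ ·) (x :: l) := fun x l =>
    ⟨by simp, fun _ _ => trivial, fun g hg => ⟨trivial, fun y _ => hX g hg y⟩⟩
  have m1 : ∀ {u : G} {y : X}, u ∈ Sb ⊤ [y] ↔ u • y = y := by simp [mem_Sb]
  have m2 : ∀ {u : G} {x y : X}, u • x = x → u • y = y → u ∈ Sb ⊤ [x, y] := by
    simp +contextual [mem_Sb]
  have ee : ∀ (x y : X) (h u : G), u • h • x = h • x → u • h • y = h • y →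
      f [h • x, h • y] u = f [x, y] (h⁻¹ * u * h) := fun x y h u e e' =>
    sub_eq_zero.1 (c.e [x, y] rfl (s _ _) h trivial u (m2 e e'))
  choose θ t1 t2 using fun y : X => coc_ex (Sb ⊤ [y]) (fun x => f [x, y])
    (fun x u hu v hv e e' => (c.m _ rfl (s _ _)).1 u (m2 e (m1.1 hu)) v (m2 e' (m1.1 hv)))
    fun x h hh u hu e => by
      have := ee x y h u e (by rw [m1.1 hh, m1.1 hu])
      rwa [m1.1 hh] at this
  let E : X → KD G M := fun y u => ∑ x, θ y u x
  refine ⟨fun l => match l with | [y] => c' • E y | _ => 0, ⟨fun l x y => ?_, fun l x _ => ?_,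
    fun l x _ h _ => ?_⟩, fun l x _ => ?_⟩
  · obtain ⟨y, rfl⟩ := List.length_eq_one_iff.1 x
    exact absurd (s _ _) ‹_›
  · obtain ⟨y, rfl⟩ := List.length_eq_one_iff.1 x
    refine AddSubgroup.nsmul_mem (UK M A (Sb ⊤ [y])) ⟨fun u hu v hv => ?_, fun g hg => Finset.sum_eq_zero fun x _ => ?_⟩ _
    · simp only [E, t1 y u hu v hv, Finset.sum_add_distrib]
      congr 1
      exact Equiv.sum_comp (MulAction.toPerm v) (θ y u)
    · rw [t2 y g (m1.2 (hX g hg y)) x (hX g hg x)]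
      exact (c.m _ rfl (s _ _)).2 g hg
  · obtain ⟨y, rfl⟩ := List.length_eq_one_iff.1 x
    change c' • E (h • y) - h • c' • E y ∈ VK M (Sb ⊤ [h • y])
    rw [smul_comm h, ← smul_sub]
    refine AddSubgroup.nsmul_mem (VK M _) (fun u hu => ?_) _
    have k : ∀ u ∈ Sb ⊤ [h • y], h⁻¹ * u * h ∈ Sb ⊤ [y] := fun u hu =>
      m1.2 (by rw [mul_smul, mul_smul, m1.1 hu, inv_smul_smul])
    have := Coc.sum (θ := fun u x => θ (h • y) u x - θ y (h⁻¹ * u * h) (h⁻¹ • x))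
      (fun u hu v hv x => by
        have := t1 y _ (k u hu) _ (k v hv) (h⁻¹ • x)
        rw [show h⁻¹ * u * h * (h⁻¹ * v * h) = h⁻¹ * (u * v) * h by group, mul_smul, mul_smul,
          smul_inv_smul] at this
        simp only [t1 _ u hu v hv, this]; abel) (fun u hu x e => by
        rw [t2 _ u hu x e, t2 y _ (k u hu) _ (by rw [mul_smul, mul_smul, smul_inv_smul, e]),
          ← ee _ y h u (by rw [smul_inv_smul, e]) (m1.1 hu), smul_inv_smul, sub_self]) hu
    rw [Finset.sum_sub_distrib] at this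
    rw [KD.sub, KD.smul, ← this]
    congr 1
    exact (Equiv.sum_comp (MulAction.toPerm h⁻¹) (θ y (h⁻¹ * u * h))).symm
  · obtain ⟨y, w, rfl⟩ := List.length_eq_two.1 x
    rw [cb_two, ← hc (f [y, w]) trivial, mul_nsmul', ← smul_sub, ← smul_sub]
    refine AddSubgroup.nsmul_mem (VK M _) (fun u hu => ?_) _
    have k1 : ∀ u ∈ Sb (⊤ : Subgroup G) [y, w], u ∈ Sb ⊤ [y] := fun u hu => m1.2 (hu.2 y (by simp))
    have k2 : ∀ u ∈ Sb (⊤ : Subgroup G) [y, w], u ∈ Sb ⊤ [w] := fun u hu => m1.2 (hu.2 w (by simp))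
    have := Coc.sum (θ := fun u x => f [y, w] u - (θ w u x - θ y u x)) (fun u hu v hv x => by
      simp only [t1 _ u (k1 u hu) v (k1 v hv), t1 _ u (k2 u hu) v (k2 v hv),
        (c.m _ rfl (s _ _)).1 u hu v hv]; abel) (fun u hu x e => by
        have := z [x, y, w] rfl (s _ _) u ⟨trivial, by simpa [e] using hu.2⟩
        rw [cb_three, KD.add, KD.sub] at this
        rw [t2 _ u (k1 u hu) x e, t2 _ u (k2 u hu) x e, ← this]; abel) hu
    rw [Finset.sum_sub_distrib, Finset.sum_sub_distrib, Finset.sum_const] at this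
    exact this

theorem vanK (a : Adm p (Set.univ : Set X) (⊤ : Subgroup G)) (hX : ∀ g ∈ A, ∀ x : X, g • x = x) :
    VG (Set.univ : Set X) (⊤ : Subgroup G) (Ct p A) (UK M A) (VK M) 1 :=
  (VG.quo (okK hA (itv_le hA) fun _ r => r) a (fun h hh P r => ⟨(itv_le (p := p) hA).rI h hh P r.1,
    fun c => r.2 (by simpa using c.cj hA h⁻¹)⟩) (fun _ r => r.1)
    (fun _ _ x y z => ⟨z, fun c => y.2 (c.up x)⟩) (vanK1 hA pM a hX) (vanK2 hA pM a)).iff a
      fun _ _ _ q => ⟨fun c => ⟨fun g hg => ⟨trivial, fun y _ => hX g hg y⟩, fun d => d.2 c.2⟩,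
        fun c => ⟨q, by_contra fun d => c.2 ⟨c.1, d⟩⟩⟩

end CF.Ex.M
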