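/-
The cohomological part of S5242.
-/
import Cfsg.Agent.Ex.K1

set_option autoImplicit false
set_option linter.unusedSectionVars false

namespace CF.Ex.M
open Subgroup CF.Transfer CF.Ex.T ZD

variable {G X M : Type*} [Group G] [MulAction G X] [AddCommGroup M] {p : ℕ} {A : Subgroup G}

theorem cm_mul (hA : A ≤ center G) {z z' u : G} (h : z' * u * z'⁻¹ * u⁻¹ ∈ A) :
    z * z' * u * (z * z')⁻¹ * u⁻¹ = z * u * z⁻¹ * u⁻¹ * (z' * u * z'⁻¹ * u⁻¹) := by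
  rw [mem_center_iff.1 (hA h), ← cjA hA h z]; group

theorem cm_inv (hA : A ≤ center G) {z u : G} (h : z * u * z⁻¹ * u⁻¹ ∈ A) :
    z⁻¹ * u * z⁻¹⁻¹ * u⁻¹ = (z * u * z⁻¹ * u⁻¹)⁻¹ := by
  rw [← cjA hA (inv_mem h) z⁻¹]; group

theorem cm_mul' (hA : A ≤ center G) {z u v : G} (h : z * v * z⁻¹ * v⁻¹ ∈ A) :
    z * (u * v) * z⁻¹ * (u * v)⁻¹ = z * u * z⁻¹ * u⁻¹ * (z * v * z⁻¹ * v⁻¹) := by
  rw [← cjA hA h u]; group

/-- an identification of `M` with the central subgroup `A` -/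
structure Io (A : Subgroup G) (ι : M → G) : Prop where
  cen : A ≤ center G
  add : ∀ a b, ι (a + b) = ι a * ι b
  inj : Function.Injective ι
  mem : ∀ g, g ∈ A ↔ ∃ a, ι a = g

variable {ι : M → G}

theorem Io.zero (i : Io A ι) : ι 0 = 1 := by simpa using i.add 0 0

theorem Io.neg (i : Io A ι) (a : M) : ι (-a) = (ι a)⁻¹ := by
  rw [eq_inv_iff_mul_eq_one, ← i.add, neg_add_cancel, i.zero]

theorem Io.sub (i : Io A ι) (a b : M) : ι (a - b) = ι a * (ι b)⁻¹ := by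
  rw [sub_eq_add_neg, i.add, i.neg]

theorem Io.mem' (i : Io A ι) (a : M) : ι a ∈ A := (i.mem _).2 ⟨a, rfl⟩

theorem Io.eq0 (i : Io A ι) {a : M} : ι a = 1 ↔ a = 0 := by rw [← i.zero, i.inj.eq_iff]

/-- commutators with elements that are central modulo `A` -/
def UI (i : Io A ι) (P : Subgroup G) : AddSubgroup (KD G M) where
  carrier := {m | ∃ z ∈ P, ∀ u ∈ P, ι (m u) = z * u * z⁻¹ * u⁻¹}
  add_mem' := fun ⟨z, hz, a⟩ ⟨z', hz', b⟩ => ⟨z * z', mul_mem hz hz', fun u hu => by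
    rw [KD.add, i.add, cm_mul i.cen (b u hu ▸ i.mem' _), a u hu, b u hu]⟩
  zero_mem' := ⟨1, one_mem _, fun u _ => i.zero.trans (by simp)⟩
  neg_mem' := fun ⟨z, hz, a⟩ => ⟨z⁻¹, inv_mem hz, fun u hu => by
    rw [KD.neg, i.neg, cm_inv i.cen (a u hu ▸ i.mem' _), a u hu]⟩

theorem UI.smul (i : Io A ι) {P : Subgroup G} {m : KD G M} (h : m ∈ UI i P) (g : G) :
    g • m ∈ UI i (cj g P) :=
  let ⟨z, hz, a⟩ := h
  ⟨_, conj_mem_cj hz, fun u hu => by
    rw [KD.smul, a _ (mem_cj.1 hu), ← cmA i.cen (a _ (mem_cj.1 hu) ▸ i.mem' _) g]; group⟩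

theorem UI.anti (i : Io A ι) {P P' : Subgroup G} (le : P ≤ P') (c : Cc p A P) (pg : IsPGroup p P') :
    UI i P' ≤ UI i P := fun _ ⟨z, hz, a⟩ =>
  ⟨z, c z (pel pg hz) fun y hy => a y (le hy) ▸ i.mem' _, fun u hu => a u (le hu)⟩

theorem okI (i : Io A ι) (pA : IsPGroup p A) :
    OkG p ⊤ (Ct p A) (UI i) (VK M) ∧ OkG p ⊤ (Ct p A) (UK M A) (UI i) :=
  (okK i.cen (itv_ct i.cen) fun _ r => r.cen.le i.cen pA).mid (fun h _ _ _ _ hu => UI.smul i hu h)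
    (fun _ _ x r r' => UI.anti i x r.2 r'.1)
    (fun _ _ _ h => ⟨1, one_mem _, fun u hu => by rw [h u hu, i.zero]; simp⟩)
    fun P r m ⟨z, hz, a⟩ => ⟨fun u hu v hv => i.inj (by
      rw [i.add, a _ (mul_mem hu hv), cm_mul' i.cen (a v hv ▸ i.mem' _), a u hu, a v hv]),
      fun x hx => i.eq0.1 (by rw [a x (r.cen.le i.cen pA hx), cjA i.cen hx, mul_inv_cancel])⟩

variable [Finite G] [Finite X] [Finite M] [hp : Fact p.Prime] {n : ℕ}

section bar
variable {B : Type*} [Group B] [Finite B] [MulAction B X] [DistribMulAction G (ZD B)] (π : G →* B)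

/-- families whose value at the image of `P` lifts to `Z(P)` -/
def LZ (p : ℕ) (P : Subgroup G) : AddSubgroup (ZD B) where
  carrier := {m | m ∈ UZ p (P.map π) ∧ ∃ z ∈ P, (∀ y ∈ P, z * y = y * z) ∧ π z = m.v (P.map π)}
  add_mem' := fun ⟨a, z, hz, c, e⟩ ⟨a', z', hz', c', e'⟩ => ⟨add_mem a a', z * z', mul_mem hz hz',
    fun y hy => by rw [mul_assoc, c' y hy, ← mul_assoc, c y hy, mul_assoc], by
      rw [map_mul, e, e', add_v]⟩
  zero_mem' := ⟨zero_mem _, 1, one_mem _, by simp, map_one _⟩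
  neg_mem' := fun ⟨a, z, hz, c, e⟩ => ⟨neg_mem a, z⁻¹, inv_mem hz, fun y hy => by
    rw [inv_mul_eq_iff_eq_mul, ← mul_assoc, c y hy, mul_inv_cancel_right], by rw [map_inv, e, neg_v]⟩

variable {π} (hA : A ≤ center G) (pA : IsPGroup p A) (su : Function.Surjective π)
  (ke : ∀ g, π g = 1 ↔ g ∈ A) (cx : ∀ g (x : X), π g • x = g • x)
  (cz : ∀ g (m : ZD B), g • m = π g • m)
include hA pA su ke

theorem pel_of {x : G} (h : ∃ k : ℕ, π x ^ p ^ k = 1) : ∃ k : ℕ, x ^ p ^ k = 1 := by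
  obtain ⟨k, h⟩ := h
  obtain ⟨j, e⟩ := pel pA ((ke _).1 ((map_pow π x _).trans h))
  exact ⟨k + j, by rw [pow_add, pow_mul, e]⟩

theorem cm_iff {x y : G} : x * y * x⁻¹ * y⁻¹ ∈ A ↔ π x * π y = π y * π x := by
  rw [← ke, map_mul, map_mul, map_mul, map_inv, map_inv, mul_inv_eq_one, mul_inv_eq_iff_eq_mul]

theorem Ct.bar {P : Subgroup G} (h : Ct p A P) : Cen p (P.map π) :=
  ⟨h.1.map π, fun x a b => by
    obtain ⟨x, rfl⟩ := su x
    exact mem_map_of_mem π (h.2 x (pel_of hA pA su ke a) fun y hy =>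
      (cm_iff hA pA su ke).2 (b _ (mem_map_of_mem π hy)))⟩

theorem mem_of_bar {P : Subgroup G} (le : A ≤ P) {x : G} (h : π x ∈ P.map π) : x ∈ P := by
  obtain ⟨y, hy, e⟩ := h
  simpa using mul_mem (le ((ke (x * y⁻¹)).1 (by simp [e]))) hy

theorem Ct.of_bar {P : Subgroup G} (le : A ≤ P) (h : Cen p (P.map π)) : Ct p A P :=
  ⟨fun y => let ⟨k, e⟩ := pel_of hA pA su ke (pel h.1 (mem_map_of_mem π y.2)); ⟨k, Subtype.ext e⟩,
    fun x ⟨k, a⟩ b => mem_of_bar hA pA su ke le (h.2 _ ⟨k, by rw [← map_pow, a, map_one]⟩ (by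
      rintro _ ⟨y, hy, rfl⟩; exact (cm_iff hA pA su ke).1 (b y hy)))⟩

include cz

theorem okB : OkG p ⊤ (Ct p A) (fun P => UZ p (P.map π)) fun P => VZ p (P.map π) :=
  have o := okZ (H := (⊤ : Subgroup B)) (itv_cen (p := p)) fun _ r => r
  have b := fun {P : Subgroup G} (h : Ct p A P) => h.bar hA pA su ke
  ⟨itv_ct hA, fun h _ P r u hu => by rw [map_cj, cz]; exact o.uI _ trivial _ (b r) u hu,
    fun h _ P r u hu => by rw [map_cj, cz]; exact o.vI _ trivial _ (b r) u hu,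
    fun _ _ x r r' => o.uM _ _ (map_mono x) (b r) (b r'),
    fun _ _ x r r' => o.vM _ _ (map_mono x) (b r) (b r'), fun _ r => o.le _ (b r),
    fun _ r h hh u hu => by rw [cz]; exact o.tr _ (b r) _ (mem_map_of_mem π hh) u hu⟩

theorem bar_v (g : G) (m : ZD B) (P : Subgroup G) :
    (g • m).v ((cj g P).map π) = π g * m.v (P.map π) * (π g)⁻¹ := by
  rw [cz, smul_v, map_cj, cj_inv_cj]

theorem okL : OkG p ⊤ (Ct p A) (LZ π p) (fun P => VZ p (P.map π)) ∧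
    OkG p ⊤ (Ct p A) (fun P => UZ p (P.map π)) (LZ π p) :=
  have o := okB hA pA su ke cz
  o.mid (fun h hh P r u ⟨a, z, hz, c, e⟩ => ⟨o.uI h hh P r u a, _, conj_mem_cj hz, fun y hy => by
      have := c _ (mem_cj.1 hy)
      calc _ = h * (z * (h⁻¹ * y * h)) * h⁻¹ := by group
        _ = _ := by rw [this]; group,
      by rw [bar_v hA pA su ke cz, ← e, map_mul, map_mul, map_inv]⟩)
    (fun P P' x r r' u ⟨a, z, hz, c, e⟩ => ⟨o.uM _ _ x r r' a, z,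
      r.cen.2 z (pel r'.1 hz) fun y hy => c y (x hy), fun y hy => c y (x hy),
      e.trans (a _ (r.bar hA pA su ke) (map_mono x)).symm⟩)
    (fun P r u hu => ⟨o.le P r hu, 1, one_mem _, by simp,
      (map_one π).trans (hu _ (r.bar hA pA su ke) le_rfl).symm⟩) fun _ _ _ h => h.1

variable (a : Adm p (Set.univ : Set X) (⊤ : Subgroup G))
include a cx

theorem vanB (k : ℕ) : VG (Set.univ : Set X) (⊤ : Subgroup G) (Ct p A) (fun P => UZ p (P.map π))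
    (fun P => VZ p (P.map π)) (k + 2) := by
  have sb : ∀ l : List X, (Sb ⊤ l).map π = Sb ⊤ l := fun l => le_antisymm
    (by rintro _ ⟨g, hg, rfl⟩; exact ⟨trivial, fun x hx => (cx g x).trans (hg.2 x hx)⟩) fun g hg => by
      obtain ⟨g, rfl⟩ := su g
      exact mem_map_of_mem π ⟨trivial, fun x hx => (cx g x).symm.trans (hg.2 x hx)⟩
  have ss : SS (Set.univ : Set X) (⊤ : Subgroup G) (Ct p A) = SS Set.univ (⊤ : Subgroup B) (Cen p) := by
    ext l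
    refine and_congr_right fun _ => and_congr_right fun _ => ?_
    rw [← sb]
    exact ⟨fun h => h.bar hA pA su ke, fun h => Ct.of_bar hA pA su ke (fun g hg =>
      ⟨trivial, fun x _ => by rw [← cx, (ke g).2 hg, one_smul]⟩) h⟩
  have ca : ∀ g (l : List X), ac (π g) l = ac g l := fun g l => by simp [ac, cx]
  have h := gz (X₀ := (Set.univ : Set X)) (G := B)
    ⟨fun _ _ _ _ => trivial, fun x _ => sb [x] ▸ (a.pg x trivial).map π, a.nd⟩ k
  unfold VG at h ⊢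
  simp only [sb, ss]
  intro f c z
  obtain ⟨e, e1, e2⟩ := h f ⟨c.z, c.m, fun l x y g _ => by
    obtain ⟨g, rfl⟩ := su g
    rw [ca, ← cz]; exact c.e l x y g trivial⟩ z
  exact ⟨e, ⟨e1.z, e1.m, fun l x y g _ => by rw [← ca, cz]; exact e1.e l x y _ trivial⟩, e2⟩

theorem vanL (k : ℕ) : VG (Set.univ : Set X) (⊤ : Subgroup G) (Ct p A) (LZ π p)
    (fun P => VZ p (P.map π)) (k + 2) := by
  have b := fun {P : Subgroup G} (h : Ct p A P) => h.bar hA pA su ke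
  refine Van.rel ((okL hA pA su ke cz).1.ok a) ((okA hA).2.ok a) id (fun _ h => h)
    (fun h hh => ⟨h, hh, rfl⟩) (fun _ _ _ => rfl) (fun l =>
      { carrier := {x | x.1 ∈ UZ p ((Sb ⊤ l).map π) ∧ x.2 ∈ UZ p (Sb ⊤ l) ∧
          π (x.2.v (Sb ⊤ l)) = x.1.v ((Sb ⊤ l).map π)}
        add_mem' := fun a b => ⟨add_mem a.1 b.1, add_mem a.2.1 b.2.1, by simp [a.2.2, b.2.2]⟩
        zero_mem' := ⟨zero_mem _, zero_mem _, map_one π⟩
        neg_mem' := fun a => ⟨neg_mem a.1, neg_mem a.2.1, by simp [a.2.2]⟩ })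
    (fun l' l x _ t u hu => ⟨UZ.anti (map_mono (Sb_mono _ x)) (b t.2.2) hu.1,
      UZ.anti (Sb_mono _ x) t.2.2.cen hu.2.1, by
        rw [hu.1 _ (b t.2.2) (map_mono (Sb_mono _ x)), hu.2.1 _ t.2.2.cen (Sb_mono _ x), hu.2.2]⟩)
    (fun g hg l s u u' r => ?_) (fun l s u ⟨x, z, hz, c, e⟩ => ?_) (fun l s u hu => ?_)
    (fun l s u hu u' hu' r => ?_) (vanZA hA pA a k)
  · have := r.2.2
    simp only at this
    refine ⟨?_, ?_, ?_⟩ <;> rw [Sb_ac hg]
    · exact (okB hA pA su ke cz).uI g hg _ s.2.2 u r.1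
    · exact UZ.smul r.2.1 g
    · simp only [id, bar_v hA pA su ke cz, smul_v, cj_inv_cj, ← this, map_mul, map_inv]
  · obtain ⟨m, m1, m2⟩ := ex_UZ s.2.2.cen hz c
    exact ⟨m, m1, x, m1, (congrArg π m2).trans e⟩
  · obtain ⟨m, m1, m2⟩ := ex_UZ (b s.2.2) (mem_map_of_mem π (u.m _)) (by
      rintro _ ⟨y, hy, rfl⟩; rw [← map_mul, u.c _ y hy, map_mul])
    exact ⟨m, ⟨m1, _, u.m _, u.c _, m2.symm⟩, m1, hu, m2.symm⟩
  · rw [VZ_iff (b s.2.2) hu.1, ← r.2.2, ke]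
    exact ⟨fun e => ⟨_, e, hu'⟩, fun ⟨_, x, y⟩ => (y _ s.2.2.cen le_rfl).symm ▸ x⟩

theorem vanI (i : Io A ι) : VG (Set.univ : Set X) (⊤ : Subgroup G) (Ct p A) (UI i) (VK M) 2 := by
  have b := fun {P : Subgroup G} (h : Ct p A P) => h.bar hA pA su ke
  have ok := okL hA pA su ke cz
  refine Van.rel ((okI i pA).1.ok a) (ok.2.ok a) id (fun _ h => h)
    (fun h hh => ⟨h, hh, rfl⟩) (fun _ _ _ => rfl) (fun l =>
      { carrier := {x | x.2 ∈ UZ p ((Sb ⊤ l).map π) ∧ ∃ z ∈ Sb ⊤ l, π z = x.2.v ((Sb ⊤ l).map π) ∧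
          ∀ u ∈ Sb ⊤ l, ι (x.1 u) = z * u * z⁻¹ * u⁻¹}
        add_mem' := fun ⟨a, z, hz, e, c⟩ ⟨a', z', hz', e', c'⟩ => ⟨add_mem a a', z * z',
          mul_mem hz hz', by simp [e, e'], fun u hu => by
            rw [cm_mul hA (c' u hu ▸ i.mem' _), ← c u hu, ← c' u hu, ← i.add]; rfl⟩
        zero_mem' := ⟨zero_mem _, 1, one_mem _, map_one π, fun u _ => i.zero.trans (by simp)⟩
        neg_mem' := fun ⟨a, z, hz, e, c⟩ => ⟨neg_mem a, z⁻¹, inv_mem hz, by simp [e], fun u hu => by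
          rw [cm_inv hA (c u hu ▸ i.mem' _), ← c u hu, ← i.neg]; rfl⟩ })
    (fun l' l x t' t u ⟨w, z, hz, e, c⟩ => ⟨UZ.anti (map_mono (Sb_mono _ x)) (b t.2.2) w, z,
      t.2.2.2 z (pel t'.2.2.1 hz) fun y hy => c y (Sb_mono _ x hy) ▸ i.mem' _,
      e.trans (w _ (b t.2.2) (map_mono (Sb_mono _ x))).symm, fun y hy => c y (Sb_mono _ x hy)⟩)
    (fun g hg l s u u' ⟨w, z, hz, e, c⟩ => ?_) (fun l s u ⟨z, hz, c⟩ => ?_) (fun l s u hu => ?_)
    (fun l s u hu u' hu' ⟨w, z, hz, e, c⟩ => ?_) (ses_quo ((okB hA pA su ke cz).ok a) (ok.1.ok a)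
      (ok.2.ok a) (vanB hA pA su ke cx cz a 0) (vanL hA pA su ke cx cz a 1))
  · simp only at w e c
    refine ⟨?_, g * z * g⁻¹, ?_, ?_, ?_⟩ <;> rw [Sb_ac hg]
    · exact (okB hA pA su ke cz).uI g hg _ s.2.2 u' w
    · exact conj_mem_cj hz
    · simp only [id, bar_v hA pA su ke cz, ← e, map_mul, map_inv]
    · intro y hy
      change ι (u (g⁻¹ * y * g)) = _
      rw [c _ (mem_cj.1 hy), ← cmA hA (c _ (mem_cj.1 hy) ▸ i.mem' _) g]; group
  · obtain ⟨m, m1, m2⟩ := ex_UZ (b s.2.2) (mem_map_of_mem π hz) (by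
      rintro _ ⟨y, hy, rfl⟩; exact (cm_iff hA pA su ke).1 (c y hy ▸ i.mem' _))
    exact ⟨m, m1, m1, z, hz, m2.symm, c⟩
  · obtain ⟨z, hz, e⟩ := u.m ((Sb ⊤ l).map π)
    have : ∀ y, ∃ m, y ∈ Sb ⊤ l → ι m = z * y * z⁻¹ * y⁻¹ := fun y => by
      by_cases q : y ∈ Sb ⊤ l
      · obtain ⟨m, hm⟩ := (i.mem _).1 ((cm_iff hA pA su ke).2 (e ▸ u.c _ _ (mem_map_of_mem π q)))
        exact ⟨m, fun _ => hm⟩
      · exact ⟨0, fun c => absurd c q⟩
    choose m hm using this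
    exact ⟨m, ⟨z, hz, hm⟩, hu, z, hz, e, hm⟩
  · simp only at w e c
    refine ⟨fun h => ⟨w, z, hz, fun y hy => ?_, e⟩, fun ⟨_, z', _, c', e'⟩ y hy => i.eq0.1 ?_⟩
    · have := c y hy
      rwa [h y hy, i.zero, eq_comm, mul_inv_eq_one, mul_inv_eq_iff_eq_mul] at this
    · have := cjA hA ((ke (z * z'⁻¹)).1 (by simp [e, e'])) y
      rw [c y hy, mul_inv_eq_one, mul_inv_eq_iff_eq_mul]
      calc _ = z * z'⁻¹ * (z' * y) := by group
        _ = _ := by rw [← this, c' y hy]; group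

end bar

theorem KI' (i : Io A ι) (pA : IsPGroup p A) {S : Subgroup G}
    (a : Adm p (Set.univ : Set X) (⊤ : Subgroup G)) (x₀ : X) (tr : ∀ x, ∃ g : G, g • x₀ = x)
    (st : Sb ⊤ [x₀] = S) (cS : Ct p A S)
    (h : VG (Set.univ : Set X) (⊤ : Subgroup G) (Ct p A) (UK M A) (UI i) 1) (δ : G → KD G M)
    (hom : ∀ g, Cc p A (S ⊓ cj g S) → δ g ∈ UK M A (S ⊓ cj g S)) (hs : ∀ s ∈ S, δ s ∈ UI i S)
    (co : ∀ g h, Cc p A (S ⊓ cj g S ⊓ cj (g * h) S) →
      δ (g * h) - (δ g + g • δ h) ∈ UI i (S ⊓ cj g S ⊓ cj (g * h) S)) :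
    ∃ χ ∈ UK M A S, ∀ g, Cc p A (S ⊓ cj g S) → δ g + χ - g • χ ∈ UI i (S ⊓ cj g S) := by
  have hA := i.cen
  choose r hr using tr
  let F : G → G → KD G M := fun a b => a • δ (a⁻¹ * b)
  have F1 : ∀ g a b, g • F a b = F (g * a) (g * b) := fun g a b => by
    simp only [F, smul_smul]; congr 2; group
  have F2 : ∀ {a b c P}, Ct p A P → P ≤ cj a S → P ≤ cj b S → P ≤ cj c S →
      F b c - F a c + F a b ∈ UI i P := fun {a b c P} t x y z => by
    have le : cj a⁻¹ P ≤ S ⊓ cj (a⁻¹ * b) S ⊓ cj (a⁻¹ * b * (b⁻¹ * c)) S :=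
      le_inf (le_inf (le_cj_iff.1 x) (by rw [cj_mul]; exact cj_mono _ y))
        (by rw [show a⁻¹ * b * (b⁻¹ * c) = a⁻¹ * c by group, cj_mul]; exact cj_mono _ z)
    have t' := t.cj hA a⁻¹
    have := UI.smul i (neg_mem (UI.anti i le t'.2 cS.1.to_inf_left.to_inf_left
      (co _ _ (t'.2.up le)))) a
    rw [cj_cj_inv, show a⁻¹ * b * (b⁻¹ * c) = a⁻¹ * c by group] at this
    convert this using 1
    simp only [F, smul_neg, smul_sub, smul_add, smul_smul, mul_inv_cancel_left]; abel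
  have F3 : ∀ {a b P}, Ct p A P → P ≤ cj a S → a • x₀ = b • x₀ → F a b ∈ UI i P :=
    fun {a b P} t x e => UI.anti i x t.2 (isPGroup_cj cS.1 a) (UI.smul i (hs _ (st ▸
      ⟨trivial, by simp [mul_smul, ← e]⟩)) a)
  have sb : ∀ g : G, Sb ⊤ [g • x₀] = cj g S := fun g => by rw [Sb_smul (mem_top g), st]
  have F4 : ∀ {a b a' b' P}, Ct p A P → P ≤ cj a S → P ≤ cj b S → a • x₀ = a' • x₀ →
      b • x₀ = b' • x₀ → F a' b' - F a b ∈ UI i P := fun {a b a' b' P} t x y e e' => by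
    have x' : P ≤ cj a' S := by rwa [← sb, ← e, sb]
    have y' : P ≤ cj b' S := by rwa [← sb, ← e', sb]
    convert add_mem (sub_mem (sub_mem (F2 t x x' y') (F3 t x e)) (F2 t x y y')) (F3 t y e') using 1
    abel
  have sr : ∀ {x : X} {l}, x ∈ l → Sb ⊤ l ≤ cj (r x) S := fun hx => by
    rw [← sb, hr]; exact Sb_mono _ (List.singleton_sublist.2 hx)
  let f : List X → KD G M := tc (SS Set.univ (⊤ : Subgroup G) (Ct p A)) fun l =>
    match l with | [x, y] => F (r x) (r y) | _ => 0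
  have ok := (okI i pA).2.ok a
  have up : ∀ {l' l : List X}, l' ≠ [] → l'.Sublist l → SS Set.univ (⊤ : Subgroup G) (Ct p A) l →
      SS Set.univ (⊤ : Subgroup G) (Ct p A) l' := fun ne s t =>
    ⟨ne, fun _ _ => trivial, a.pgl ne fun _ _ => trivial, t.2.2.2.up (Sb_mono _ s)⟩
  refine (h f ⟨fun l _ y => tc_neg y, fun l q s => ?_, fun l q s g hg => ?_⟩
    fun l q s => ?_).elim fun e ⟨e1, e2⟩ => ?_
  rotate_right
  · have s0 : SS Set.univ (⊤ : Subgroup G) (Ct p A) [x₀] := ⟨by simp, fun _ _ => trivial, st ▸ cS⟩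
    refine ⟨e [x₀], st ▸ e1.m _ rfl s0, fun g c => ?_⟩
    have t : Ct p A (S ⊓ cj g S) := ⟨cS.1.to_inf_left, c⟩
    have e3 : Sb ⊤ [x₀, g • x₀] = S ⊓ cj g S := by
      rw [← sb, ← st]; ext; simp [mem_Sb]
    have s1 : SS Set.univ (⊤ : Subgroup G) (Ct p A) [x₀, g • x₀] :=
      ⟨by simp, fun _ _ => trivial, e3 ▸ t⟩
    have k1 := e2 _ rfl s1
    have k2 : e [g • x₀] - g • e [x₀] ∈ UI i (Sb ⊤ [g • x₀]) := e1.e _ rfl s0 g trivial
    have k3 := F4 (a := 1) (b := g) t (by simp) inf_le_right ((one_smul _ _).trans (hr x₀).symm)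
      (hr _).symm
    simp only [f] at k1
    rw [tc_pos s1, cb_two, e3] at k1
    rw [sb] at k2
    convert add_mem (sub_mem k1 k3) (UI.anti i inf_le_right c (isPGroup_cj cS.1 g) k2) using 1
    simp only [F, inv_one, one_mul, one_smul]; abel
  · obtain ⟨x, y, rfl⟩ := List.length_eq_two.1 q
    simp only [f]
    rw [tc_pos s]
    have le : cj (r x)⁻¹ (Sb ⊤ [x, y]) ≤ S ⊓ cj ((r x)⁻¹ * r y) S :=
      le_inf (le_cj_iff.1 (sr (by simp))) (by rw [cj_mul]; exact cj_mono _ (sr (by simp)))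
    have := UK.smul hA (hom _ ((s.2.2.2.cj hA _).up le)) (r x)
    have le' := le_cj_iff.2 le
    exact ⟨fun u hu v hv => this.1 u (le' hu) v (le' hv), this.2⟩
  · obtain ⟨x, y, rfl⟩ := List.length_eq_two.1 q
    have s' := ok.sI g hg _ s
    simp only [f]
    rw [tc_pos s, tc_pos s', F1]
    refine F4 s'.2.2 ?_ ?_ (by rw [mul_smul, hr, hr]) (by rw [mul_smul, hr, hr]) <;>
      rw [Sb_ac hg, cj_mul] <;> exact cj_mono _ (sr (by simp))
  · obtain ⟨x, y, z, rfl⟩ := List.length_eq_three.1 q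
    simp only [f]
    rw [cb_three, tc_pos (up (by simp) (by simp) s), tc_pos (up (by simp) (by simp) s),
      tc_pos (up (by simp) (by simp) s)]
    exact F2 s.2.2 (sr (by simp)) (sr (by simp)) (sr (by simp))

theorem KI {G : Type*} [Group G] [Finite G] {p : ℕ} [Fact p.Prime] {A S : Subgroup G}
    (hA : A ≤ center G) (pA : IsPGroup p A) (hS : IsSylowIn p S ⊤) (δ : G → G → G)
    (hom : ∀ g, Cc p A (S ⊓ cj g S) → HomA A (S ⊓ cj g S) (δ g))
    (hs : ∀ s ∈ S, II A S (δ s))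
    (co : ∀ g h, Cc p A (S ⊓ cj g S ⊓ cj (g * h) S) →
      II A (S ⊓ cj g S ⊓ cj (g * h) S) fun u => δ (g * h) u * (δ g u * δ h (g⁻¹ * u * g))⁻¹) :
    ∃ χ : G → G, HomA A S χ ∧ ∀ g, Cc p A (S ⊓ cj g S) →
      II A (S ⊓ cj g S) fun u => δ g u * χ u * (χ (g⁻¹ * u * g))⁻¹ := by
  have : A.Normal := ⟨fun a ha g => by rwa [cjA hA ha]⟩
  have AS : A ≤ S := hS.le_of_normalized pA le_top le_normalizer_of_normal
  let : CommGroup A := { (inferInstance : Group A) with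
    mul_comm := fun a b => Subtype.ext (mem_center_iff.1 (hA b.2) a) }
  let ι : Additive A → G := fun a => (a.toMul : A)
  have i : Io A ι := ⟨hA, fun _ _ => rfl, fun _ _ e => Subtype.ext e,
    fun g => ⟨fun h => ⟨Additive.ofMul ⟨g, h⟩, rfl⟩, fun ⟨a, e⟩ => e ▸ a.toMul.2⟩⟩
  let π := QuotientGroup.mk' A
  have su : Function.Surjective π := QuotientGroup.mk'_surjective A
  have ke : ∀ g, π g = 1 ↔ g ∈ A := fun g => QuotientGroup.eq_one_iff g
  let X := (G ⧸ A) ⧸ S.map π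
  let : MulAction G X := MulAction.compHom X π
  let : DistribMulAction G (ZD (G ⧸ A)) := DistribMulAction.compHom _ π
  have cx : ∀ g (x : X), π g • x = g • x := fun _ _ => rfl
  let x₀ : X := ((1 : G ⧸ A) : (G ⧸ A) ⧸ S.map π)
  have tr : ∀ x : X, ∃ g : G, g • x₀ = x := fun x => by
    obtain ⟨y, rfl⟩ := QuotientGroup.mk_surjective x
    obtain ⟨g, rfl⟩ := su y
    exact ⟨g, congrArg QuotientGroup.mk (mul_one (π g))⟩
  have st : Sb ⊤ [x₀] = S := by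
    ext g
    have : g • x₀ = x₀ ↔ π g ∈ S.map π := by
      change ((π g * 1 : G ⧸ A) : (G ⧸ A) ⧸ S.map π) = ((1 : G ⧸ A) : (G ⧸ A) ⧸ S.map π) ↔ _
      rw [eq_comm, QuotientGroup.eq]; simp only [inv_one, one_mul, mul_one]
    simp only [mem_Sb, mem_top, true_and, List.mem_singleton, forall_eq, this]
    exact ⟨mem_of_bar hA pA su ke AS, mem_map_of_mem π⟩
  have a : Adm p (Set.univ : Set X) (⊤ : Subgroup G) := ⟨fun _ _ _ _ => trivial, fun x _ => by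
    obtain ⟨g, rfl⟩ := tr x
    rw [Sb_smul (mem_top g), st]; exact isPGroup_cj hS.isPGroup g, by
      rw [Set.ncard_univ]
      change ¬ p ∣ (S.map π).index
      rw [index_map_eq S su fun g hg => AS ((ke g).1 hg), ← relIndex_top_right]
      exact hS.not_dvd⟩
  have cS : Ct p A S := ⟨hS.isPGroup, fun x ⟨k, hk⟩ b => by
    obtain ⟨j, -, hj⟩ := (Nat.dvd_prime_pow (Fact.out : p.Prime)).1 (orderOf_dvd_of_pow_eq_one hk)
    exact hS.le_of_le_normalizer (isPGroup_zpowers hj) le_top (zpowers_le.2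
      (mem_normalizer_fintype fun y hy => by simpa using mul_mem (AS (b y hy)) hy)) (mem_zpowers x)⟩
  have o := okI i pA
  have : ∀ g, ∃ m, g ∈ A → ι m = g := fun g => by
    by_cases q : g ∈ A
    exacts [let ⟨m, e⟩ := (i.mem g).1 q; ⟨m, fun _ => e⟩, ⟨0, fun c => absurd c q⟩]
  choose lf hl using this
  obtain ⟨χ, x1, x2⟩ := KI' i pA a x₀ tr st cS (ses_quo ((okK hA (itv_ct hA) fun _ r =>
    r.cen.le hA pA).ok a) (o.1.ok a) (o.2.ok a) (vanK hA (fun m => pA m.toMul) a fun g hg x => by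
      rw [← cx, (ke g).2 hg, one_smul]) (vanI hA pA su ke cx (fun _ _ => rfl) a i))
    (fun g u => lf (δ g u)) (fun g c => let ⟨h1, h2, h3⟩ := hom g c
      ⟨fun u hu v hv => i.inj (by
        rw [i.add, hl _ (h1 u hu), hl _ (h1 v hv), hl _ (h1 _ (mul_mem hu hv)), h2 u hu v hv]),
        fun b hb => i.eq0.1 ((hl _ (h3 b hb ▸ one_mem _)).trans (h3 b hb))⟩)
    (fun s h => let ⟨z, hz, h1, h2⟩ := hs s h
      ⟨z, hz, fun u hu => by rw [← h2 u hu]; exact hl _ (h2 u hu ▸ h1 u hu)⟩) fun g h c => by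
      obtain ⟨z, hz, -, h2⟩ := co g h c
      refine ⟨z, hz, fun u hu => ?_⟩
      have le : cj g⁻¹ (S ⊓ cj g S ⊓ cj (g * h) S) ≤ S ⊓ cj h S := cj_le_iff.2 (by
        rw [inv_inv, cj_inf, cj_cj]; exact inf_le_inf_right _ inf_le_right)
      rw [← h2 u hu]
      change ι (lf (δ (g * h) u) - (lf (δ g u) + lf (δ h (g⁻¹ * u * g)))) = _
      rw [i.sub, i.add, hl _ ((hom _ (c.up inf_le_left)).1 u hu.1),
        hl _ ((hom _ (c.up (inf_le_inf_right _ inf_le_left))).1 u ⟨hu.1.1, hu.2⟩),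
        hl _ ((hom _ ((c.cj hA _).up le)).1 _ (le (conj_mem_cj_inv hu)))]
  refine ⟨fun u => ι (χ u), ⟨fun u _ => i.mem' _, fun u hu v hv =>
    (congrArg ι (x1.1 u hu v hv)).trans (i.add _ _),
    fun b hb => i.eq0.2 (x1.2 b hb)⟩, fun g c => ?_⟩
  obtain ⟨z, hz, h⟩ := x2 g c
  refine ⟨z, hz, fun u hu => h u hu ▸ i.mem' _, fun u hu => ?_⟩
  rw [← h u hu]
  change _ = ι (lf (δ g u) + χ u - χ (g⁻¹ * u * g))
  rw [i.sub, i.add, hl _ ((hom g c).1 u hu)]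

end CF.Ex.M
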