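import Cfsg.Agent.Ex.F1
import Cfsg.Agent.Ex.K2

set_option autoImplicit false

namespace CF.Ex

open Subgroup CF.Fus

theorem Md.real {G Gb : Type*} [Group G] [Group Gb] [Finite G] {p : ℕ} [Fact p.Prime] {π : G →* Gb} {S : Subgroup G}
    {F : Cfsg.FusionSystem S} (h : Md p π F) : ∃ j : G → G, Real F p j ⊤ :=
  h.real' (M.KI h.cen (h.syl.pg.to_le h.le) h.syl.isSylowIn)

end CF.Ex
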