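import Cfsg.Agent.Ex.A

/-! S5242: the central extension built from a wreath product. -/

set_option autoImplicit false
set_option linter.unusedSectionVars false

namespace CF.Ex

open Subgroup CF.Fus Set
open scoped IsMulCommutative

universe u v

namespace W

/-- the wreath product -/
@[ext] structure Wr (H X Ω : Type*) where
  g : H
  s : X → Ω

variable {H X Ω : Type*} [Group H] [MulAction H X] [Group Ω]

instance : Mul (Wr H X Ω) := ⟨fun a b => ⟨a.g * b.g, fun x => a.s (b.g • x) * b.s x⟩⟩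
instance : One (Wr H X Ω) := ⟨⟨1, fun _ => 1⟩⟩
instance : _root_.Inv (Wr H X Ω) := ⟨fun a => ⟨a.g⁻¹, fun x => (a.s (a.g⁻¹ • x))⁻¹⟩⟩
@[simp] theorem mul_g (a b : Wr H X Ω) : (a * b).g = a.g * b.g := rfl
@[simp] theorem mul_s (a b : Wr H X Ω) (x : X) : (a * b).s x = a.s (b.g • x) * b.s x := rfl
@[simp] theorem one_g : (1 : Wr H X Ω).g = 1 := rfl
@[simp] theorem one_s (x : X) : (1 : Wr H X Ω).s x = 1 := rfl
@[simp] theorem inv_g (a : Wr H X Ω) : a⁻¹.g = a.g⁻¹ := rfl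
@[simp] theorem inv_s (a : Wr H X Ω) (x : X) : a⁻¹.s x = (a.s (a.g⁻¹ • x))⁻¹ := rfl

instance : Group (Wr H X Ω) := Group.ofLeftAxioms (fun a b c => by ext <;> simp [mul_assoc, mul_smul])
  (fun a => by ext <;> simp) fun a => by ext <;> simp

/-- representatives of the orbits -/
theorem reps {P : Type*} [Group P] (φ : P →* H) :
    ∃ (o : X → X) (r : X → P), (∀ x, φ (r x) • o x = x) ∧ ∀ u x, o (φ u • x) = o x := by
  have k : ∀ x : X, ∃ u, φ u • (Quotient.mk (MulAction.orbitRel φ.range X) x).out = x := fun x => by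
    obtain ⟨⟨_, u, rfl⟩, e⟩ := (MulAction.orbitRel φ.range X).symm (Quotient.mk_out (s := MulAction.orbitRel φ.range X) x)
    exact ⟨u, e⟩
  choose r k using k
  exact ⟨_, r, k, fun u x => congrArg Quotient.out (Quotient.sound ⟨⟨_, u, rfl⟩, rfl⟩)⟩

/-- a cocycle with values in a permutation module that vanishes on the stabilisers -/
theorem cob [Fintype X] {P B : Type*} [Group P] [CommGroup B] (φ : P →* H) (a : P → X → B)
    (m : ∀ u v x, a (u * v) x = a u (φ v • x) * a v x) (z : ∀ u x, φ u • x = x → a u x = 1) (u : P) : ∏ x, a u x = 1 := by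
  obtain ⟨o, r, e, k⟩ := reps (X := X) φ
  have : ∀ x, a u x = a (r (φ u • x)) (o (φ u • x)) * (a (r x) (o x))⁻¹ := fun x => by
    have q : φ ((r (φ u • x))⁻¹ * (u * r x)) • o x = o x := by
      rw [map_mul, map_mul, mul_smul, mul_smul, e, map_inv, inv_smul_eq_iff, ← k u, e]
    have := m (r (φ u • x)) ((r (φ u • x))⁻¹ * (u * r x)) (o x)
    rw [mul_inv_cancel_left, m, e, z _ _ q, q, mul_one] at this
    rw [k, ← this, mul_inv_cancel_right]
  simp only [this, Finset.prod_mul_distrib, Finset.prod_inv_distrib]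
  rw [mul_inv_eq_one]
  exact Equiv.prod_comp (MulAction.toPerm (φ u)) fun x => a (r x) (o x)

variable {S A : Subgroup Ω} {t : Ω → H}

/-- the elements of the wreath product that lie over the cocycle of the transversal `γ` -/
def G2 (ht : MulOn t S) (γ : X → H) : Subgroup (Wr H X Ω) where
  carrier := {w | ∀ x, w.s x ∈ S ∧ t (w.s x) = (γ (w.g • x))⁻¹ * w.g * γ x}
  mul_mem' := fun {a b} p q x => ⟨mul_mem (p _).1 (q _).1, by
    rw [mul_s, ht.map_mul (p _).1 (q _).1, (p _).2, (q _).2, mul_g, mul_smul]; group⟩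
  one_mem' := fun x => ⟨one_mem S, by simp [ht.map_one]⟩
  inv_mem' := fun {a} p x => ⟨inv_mem (p _).1, by rw [inv_s, ht.map_inv (p _).1, (p _).2, inv_g, smul_inv_smul]; group⟩

variable (ht : MulOn t S) (γ : X → H) (hA : ∀ s ∈ S, t s = 1 ↔ s ∈ A) (hAS : A ≤ S)

/-- the projection -/
def pr : G2 ht γ →* H := MonoidHom.mk' (fun w => w.1.g) fun _ _ => rfl

/-- the kernel -/
def io : (X → A) →* G2 ht γ := MonoidHom.mk' (fun a => ⟨⟨1, fun x => a x⟩, fun x => ⟨hAS (a x).2, by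
  simp [(hA _ (hAS (a x).2)).2 (a x).2]⟩⟩) fun a b => by ext <;> simp

theorem io_inj : Function.Injective (io ht γ hA hAS) := fun _ _ e =>
  funext fun x => Subtype.ext (congrFun (congrArg (fun w : G2 ht γ => w.1.s) e) x)

theorem io_ker {w : G2 ht γ} (e : w.1.g = 1) : ∃ a, io ht γ hA hAS a = w :=
  ⟨fun x => ⟨w.1.s x, (hA _ (w.2 x).1).1 (by simp [(w.2 x).2, e])⟩, Subtype.ext (Wr.ext e.symm rfl)⟩

theorem io_cj (hc : ∀ a ∈ A, ∀ s ∈ S, a * s = s * a) (w : G2 ht γ) (a : X → A) :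
    w * io ht γ hA hAS a * w⁻¹ = io ht γ hA hAS fun x => a (w.1.g⁻¹ • x) := by
  refine Subtype.ext (Wr.ext (by simp [io]) (funext fun x => ?_))
  simp [io, ← hc _ (a _).2 _ (w.2 _).1]

end W
open W

theorem wr {Ω : Type u} {Gb : Type v} [Group Ω] [Group Gb] [Finite Gb] {p : ℕ} [Fact p.Prime] {S A : Subgroup Ω} [Finite S]
    {t : Ω → Gb} {T : Subgroup Gb} {Φ : Gb → Ω → Ω} (hS : IsPGroup p S) (ht : MulOn t S) (hT : img t S = T) (sy : SylIn p T ⊤)
    (hA : ∀ s ∈ S, t s = 1 ↔ s ∈ A) (hAS : A ≤ S) (hc : ∀ a ∈ A, ∀ s ∈ S, a * s = s * a) (hΦ : Lift S A t T Φ) :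
    ∃ (G : Type (max u v)) (_ : Group G) (_ : Finite G) (π : G →* Gb) (j : Ω → G), Function.Surjective π ∧ MulOn j S ∧
      (∀ s ∈ S, j s = 1 → s = 1) ∧ (∀ s ∈ S, π (j s) = t s) ∧ π.ker = img j A ∧ π.ker ≤ Subgroup.center G ∧
      (Strict S t T Φ → ∀ g : G, ∀ u ∈ S, (π g)⁻¹ * t u * π g ∈ T → g⁻¹ * j u * g = j (Φ (π g) u)) := by
  classical
  have := Fintype.ofFinite (Gb ⧸ T)
  have : IsMulCommutative A := ⟨⟨fun a b => Subtype.ext (hc _ a.2 _ (hAS b.2))⟩⟩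
  obtain ⟨o, r, e, k⟩ := reps (X := Gb ⧸ T) ht.hom
  simp only [MulOn.hom_apply] at e k
  obtain ⟨γ, hγ⟩ : ∃ γ : Gb ⧸ T → Gb, ∀ x, γ x = t (r x) * (o x).out := ⟨_, fun _ => rfl⟩
  have mT : ∀ g x, (γ (g • x))⁻¹ * g * γ x ∈ T := fun g x => by
    have c : ∀ x, (γ x : Gb ⧸ T) = x := fun x => by
      rw [hγ, ← smul_eq_mul, ← MulAction.Quotient.smul_mk, QuotientGroup.out_eq', e]
    rw [mul_assoc, ← QuotientGroup.eq, c, ← smul_eq_mul, ← MulAction.Quotient.smul_mk, c]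
  have tT : ∀ s ∈ S, t s ∈ T := fun s m => hT ▸ mem_img_of_mem m
  have mS : ∀ (u : S) x, ((r (t u • x) : Ω)⁻¹ * u * r x) ∈ S := fun u x => mul_mem (mul_mem (inv_mem (r _).2) u.2) (r x).2
  have eT : ∀ (u : S) x, (o x).out⁻¹ * t ((r (t u • x) : Ω)⁻¹ * u * r x) * (o x).out = (γ (t u • x))⁻¹ * t u * γ x := fun u x => by
    rw [ht.map_mul (mul_mem (inv_mem (r _).2) u.2) (r x).2, ht.map_inv_mul (r _).2 u.2, hγ, hγ, k]; group
  let j2 : S →* G2 ht γ := MonoidHom.mk' (fun u => ⟨⟨t u, fun x => Φ (o x).out ((r (t u • x) : Ω)⁻¹ * u * r x)⟩, fun x =>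
    (hΦ.mem _ _ (mS u x) (eT u x ▸ mT _ x)).imp_right fun q => q.trans (eT u x)⟩) fun a b => by
      refine Subtype.ext (Wr.ext (ht a.2 b.2) (funext fun x => ?_))
      have := hΦ.mul (o x).out _ (mS a (t b • x)) _ (mS b x) (by rw [← k b x, eT]; exact mT _ _) (eT b x ▸ mT _ x)
      simp only [coe_mul, mul_s, k, ← this, ht a.2 b.2, mul_smul]
      congr 1; group
  have jA : ∀ a : A, j2 ⟨a, hAS a.2⟩ = io ht γ hA hAS fun _ => a := fun a => by
    have z := (hA _ (hAS a.2)).2 a.2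
    refine Subtype.ext (Wr.ext z (funext fun x => ?_))
    change Φ _ ((r (t a • x) : Ω)⁻¹ * a * r x) = a
    rw [z, one_smul, mul_assoc, hc _ a.2 _ (r x).2, inv_mul_cancel_left, hΦ.fix _ _ a.2]
  let pm : (Gb ⧸ T → A) →* A := MonoidHom.mk' (fun a => ∏ x, a x) fun a b => Finset.prod_mul_distrib
  have pc : ∀ (g : Gb) a, pm (fun x => a (g • x)) = pm a := fun g a => Equiv.prod_comp (MulAction.toPerm g) a
  let N := pm.ker.map (io ht γ hA hAS)
  have : N.Normal := ⟨by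
    rintro _ ⟨a, m, rfl⟩ w
    exact ⟨_, (pc _ a).trans m, (io_cj ht γ hA hAS hc w a).symm⟩⟩
  have mN : ∀ a b, pm a = pm b → QuotientGroup.mk' N (io ht γ hA hAS a) = QuotientGroup.mk' N (io ht γ hA hAS b) := fun a b q =>
    QuotientGroup.eq.2 ⟨a⁻¹ * b, by rw [SetLike.mem_coe, MonoidHom.mem_ker, map_mul, map_inv, q, inv_mul_cancel], by simp⟩
  have cp : p.Coprime (Fintype.card (Gb ⧸ T)) := by
    rw [← Nat.card_eq_fintype_card, ← index, ← relIndex_top_right]; exact sy.coprime_relIndex.symm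
  have pw : ∀ a : A, pm (fun _ => a) = (hS.to_le hAS).powEquiv cp a := fun a => by simp [pm]
  have : Finite (G2 ht γ) := Finite.of_injective (fun w : G2 ht γ => (w.1.g, fun x => (⟨w.1.s x, (w.2 x).1⟩ : S)))
    fun a b q => Subtype.ext (Wr.ext (congrArg Prod.fst q) (funext fun x => congrArg Subtype.val (congrFun (congrArg Prod.snd q) x)))
  let π := QuotientGroup.lift N (pr ht γ) (by rintro _ ⟨a, -, rfl⟩; rfl)
  have ker : ∀ w, π w = 1 → ∃ a, w = QuotientGroup.mk' N (io ht γ hA hAS a) := fun w q => by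
    obtain ⟨w, rfl⟩ := QuotientGroup.mk'_surjective N w
    exact (io_ker ht γ hA hAS q).imp fun a q => by rw [q]
  have jm := mulOn_ext ((QuotientGroup.mk' N).comp j2)
  refine ⟨G2 ht γ ⧸ N, inferInstance, inferInstance, π, ext ((QuotientGroup.mk' N).comp j2), fun g => ?_, jm, fun s m q => ?_,
    fun s m => by rw [ext_of_mem _ m]; rfl, le_antisymm (fun w q => ?_) (img_le_iff.2 fun a m => ?_), fun w q => ?_,
    fun h w u m q => ?_⟩
  · choose s a b using fun x => ht.mem_img.1 (hT.ge (mT g x))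
    exact ⟨QuotientGroup.mk' N ⟨⟨g, s⟩, fun x => ⟨a x, b x⟩⟩, rfl⟩
  · rw [ext_of_mem _ m] at q
    have a := (hA s m).1 ((congrArg π q).trans (map_one π))
    obtain ⟨b, c, d⟩ := (QuotientGroup.eq_one_iff _).1 q
    rw [io_inj ht γ hA hAS (d.trans (jA ⟨s, a⟩)), SetLike.mem_coe, MonoidHom.mem_ker, pw] at c
    exact congrArg Subtype.val (((hS.to_le hAS).powEquiv cp).injective (c.trans (by simp : _ = _)) : (⟨s, a⟩ : A) = 1)
  · obtain ⟨a, rfl⟩ := ker w q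
    obtain ⟨b, c⟩ := ((hS.to_le hAS).powEquiv cp).surjective (pm a)
    rw [← mN _ _ ((pw b).trans c), ← jA]
    exact ext_of_mem ((QuotientGroup.mk' N).comp j2) (hAS b.2) ▸ mem_img_of_mem b.2
  · rw [MonoidHom.mem_ker, ext_of_mem _ (hAS m)]; exact (hA _ (hAS m)).2 m
  · obtain ⟨a, rfl⟩ := ker w q
    refine mem_center_iff.2 fun w => ?_
    obtain ⟨w, rfl⟩ := QuotientGroup.mk'_surjective N w
    rw [← mul_inv_eq_iff_eq_mul, ← map_inv, ← map_mul, ← map_mul, io_cj ht γ hA hAS hc, mN _ _ (pc _ a)]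
  obtain ⟨w, rfl⟩ := QuotientGroup.mk'_surjective N w
  change w.1.g⁻¹ * t u * w.1.g ∈ T at q
  change _ = ext _ (Φ w.1.g u)
  have fx : ∀ (u : S) x, t u • x = x → (j2 u).1.s x = Φ (γ x) u := fun u x q => by
    have := mT (t u) x
    rw [q] at this
    change Φ _ ((r (t u • x) : Ω)⁻¹ * u * r x) = _
    rw [q, ← h.inn _ (r x).2 _ u.2, ← h.coc _ _ _ u.2 (mul_mem (mul_mem (inv_mem (tT _ (r x).2)) (tT _ u.2)) (tT _ (r x).2))
      (hγ x ▸ this), hγ]
  let P : Subgroup S := (T.comap (MulAut.conj w.1.g⁻¹).toMonoidHom).comap ht.hom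
  have mP : ∀ v : P, w.1.g⁻¹ * t v * w.1.g ∈ T := fun v => by simpa [P] using v.2
  let f : P →* S := MonoidHom.mk' (fun v => ⟨Φ w.1.g v, (hΦ.mem _ _ v.1.2 (mP v)).1⟩) fun a b =>
    Subtype.ext (hΦ.mul _ _ a.1.2 _ b.1.2 (mP a) (mP b))
  have fg : ∀ v : P, (j2 (f v)).1.g = (w⁻¹ * j2 v * w).1.g := fun v => (hΦ.mem _ _ v.1.2 (mP v)).2
  choose a ha using fun v : P => io_ker ht γ hA hAS (w := (w⁻¹ * j2 v * w)⁻¹ * j2 (f v)) (by
    rw [coe_mul, mul_g, fg]; exact inv_mul_cancel _)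
  have hs : ∀ v x, (j2 (f v)).1.s x = (w⁻¹ * j2 v * w).1.s x * a v x := fun v x => by
    rw [← mul_inv_cancel_left (w⁻¹ * j2 v * w) (j2 (f v)), ← ha]; simp [io]
  have z := cob ((pr ht γ).comp (j2.comp f)) a (fun u v x => Subtype.ext (mul_left_cancel (a := (w⁻¹ * j2 (u * v : P) * w).1.s x) ?_))
    (fun v x q => Subtype.ext (mul_left_cancel (a := (w⁻¹ * j2 v * w).1.s x) ?_)) ⟨⟨u, m⟩, by simpa [P] using q⟩
  · rw [ext_of_mem _ m, ext_of_mem _ (hΦ.mem _ _ m q).1, ← map_inv, MonoidHom.comp_apply, MonoidHom.comp_apply, ← map_mul, ← map_mul]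
    exact QuotientGroup.eq.2 ⟨_, z, ha _⟩
  · change _ = _ * ((a u ((j2 (f v)).1.g • x) : Ω) * a v x)
    rw [← hs, map_mul, map_mul, coe_mul, mul_s, hs, hs, show w⁻¹ * j2 (u * v : P) * w = w⁻¹ * j2 u * w * (w⁻¹ * j2 v * w) by
      rw [coe_mul, map_mul]; group, coe_mul (x := w⁻¹ * j2 u * w), mul_s, fg]
    simp only [mul_assoc]
    rw [← mul_assoc (a u _ : Ω), hc _ (a u _).2 _ (by simpa only [mul_assoc] using ((w⁻¹ * j2 v * w).2 x).1), mul_assoc]
  · have q1 : t (Φ w.1.g v) • x = x := q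
    have q2 : t v • w.1.g • x = w.1.g • x := by
      rwa [(hΦ.mem _ _ v.1.2 (mP v)).2, mul_smul, mul_smul, inv_smul_eq_iff] at q1
    have m1 := mT (t v) (w.1.g • x)
    have m2 := mT (t (Φ w.1.g v)) x
    rw [q2] at m1
    rw [q1, (hΦ.mem _ _ v.1.2 (mP v)).2] at m2
    have m3 : (w.1.g * γ x)⁻¹ * t v * (w.1.g * γ x) ∈ T := by simpa only [mul_inv_rev, mul_assoc] using m2
    have e3 : γ (w.1.g • x) * t (w.1.s x) = w.1.g * γ x := by rw [(w.2 x).2]; group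
    rw [← hs, fx _ _ q1, OneMemClass.coe_one, mul_one, coe_mul, coe_mul, mul_s, mul_s, fx _ _ q2]
    change Φ _ (Φ _ _) = (w.1.s (w.1.g⁻¹ • t v • w.1.g • x))⁻¹ * _ * _
    rw [q2, inv_smul_smul, ← h.inn _ (w.2 x).1 _ (hΦ.mem _ _ v.1.2 m1).1, ← h.coc _ _ _ v.1.2 (mP v) m3,
      ← h.coc _ _ _ v.1.2 m1 (e3 ▸ m3), e3]

end CF.Ex
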